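/-
Structure of a finite group with a large extraspecial 2-subgroup.
-/
import Cfsg.Agent.Even.XS3
import Cfsg.Agent.Grp.Zipper
import Cfsg.Agent.Inv.Small1

set_option autoImplicit false

namespace CL.Even

open Cfsg Subgroup CL.Grp CL.Loc
open scoped commutatorElement

variable {G : Type*} [Group G]

theorem comp_exists_mul {L : Subgroup G} (hL : IsComponent L) {e : G} (he : e ∈ layer G) :
    ∃ l ∈ L, ∃ c ∈ 𝒞(L), l * c = e := by
  have h : layer G ≤ L ⊔ 𝒞(L) := layer_le_iff.mpr fun K hK => by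
    rcases IsComponent.eq_or_commutator_eq_bot hK hL with rfl | h
    exacts [le_sup_left, (commutator_eq_bot_iff_le_centralizer.mp h).trans le_sup_right]
  exact (mem_sup_nr (le_norm_cent le_normalizer)).mp (h he)

theorem comp_inf_cent_eq_bot [Finite G] (hF : fittingSubgroup G = ⊥) {L : Subgroup G}
    (hL : IsComponent L) : L ⊓ 𝒞(L) = ⊥ := by
  refine eq_bot_iff.mpr (le_trans ?_ ((fstar_inf_centralizer_layer.le.trans hF.le)))
  refine le_trans ?_ (inf_le_inf_right _ layer_le_fstar)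
  rw [layer_inf_centralizer_eq]
  exact le_iSup₂_of_le (f := fun K (_ : K ∈ {K : Subgroup G | IsComponent K}) => K ⊓ 𝒞(K)) L hL le_rfl

theorem eq_of_mul_eq_mul_of_inf_cent {L : Subgroup G} (hL : L ⊓ 𝒞(L) = ⊥) {l l' c c' : G} (hl : l ∈ L)
    (hl' : l' ∈ L) (hc : c ∈ 𝒞(L)) (hc' : c' ∈ 𝒞(L)) (h : l * c = l' * c') : l = l' := by
  have : l'⁻¹ * l ∈ L ⊓ 𝒞(L) := ⟨L.mul_mem (L.inv_mem hl') hl, by
    rw [show l'⁻¹ * l = c' * c⁻¹ by rw [inv_mul_eq_iff_eq_mul, ← mul_assoc, ← h, mul_inv_cancel_right]]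
    exact (𝒞(L)).mul_mem hc' ((𝒞(L)).inv_mem hc)⟩
  rw [hL, mem_bot, inv_mul_eq_one] at this
  exact this.symm

theorem commutatorElement_eq_sq_mul_sq (x y : G) : ⁅x, y⁆ = x ^ 2 * (x⁻¹ * y) ^ 2 * (y⁻¹) ^ 2 := by
  simp only [commutatorElement_def, pow_two]; group

namespace XE

variable [Finite G] {z : G} {Q : Subgroup G} (h : XE z Q)
include h

theorem not_comp_le_cent {L : Subgroup G} (hL : IsComponent L) : z ∉ 𝒞(L) := fun hz => by
  have hs : Group.IsSolvable Q := have := h.isPGroup.isNilpotent; inferInstance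
  exact IsQuasisimple.not_le_of_isSolvable hL.2 hs ((commutator_eq_bot_iff_le_centralizer.mp
    (IsComponent.commutator_eq_bot_of_isSolvable hL hs
      ((le_cent_singleton hz).trans h.norm))).trans h.cent_le)

theorem mem_of_large (hK : ∀ K : Subgroup G, Odd (Nat.card K) → Q ≤ 𝒩(K) → K = ⊥)
    {L : Subgroup G} (hL : L.IsSubnormal) (hQL : Q ≤ 𝒩(L)) (h0 : L ≠ ⊥) : z ∈ L := by
  obtain ⟨T, hT⟩ := h.isPGroup.exists_le_sylow
  have hS := isSylowIn_inf_of_isSubnormal T hL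
  refine (h.mem_of_normalized hS.isPGroup (le_norm_inf (le_norm_of_le hT) hQL) fun h1 => ?_).2
  refine h0 (hK L ?_ hQL)
  have := hS.not_dvd
  rw [h1, relIndex_bot_left] at this
  exact Nat.not_even_iff_odd.mp (mt even_iff_two_dvd.mp this)

/-- Structure of a group with a large extraspecial subgroup. -/
theorem large_structure (hK : ∀ K : Subgroup G, Odd (Nat.card K) → Q ≤ 𝒩(K) → K = ⊥) {M : Subgroup G}
    (hM : M = normalClosure ({z} : Set G)) :
    (IsMulCommutative M ∧ generalizedFittingSubgroup G = pCore 2 G) ∨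
    (M = generalizedFittingSubgroup G ∧ IsSimpleGroup M ∧ ¬ IsMulCommutative M) ∨
    (M = generalizedFittingSubgroup G ∧ ∃ (L : Subgroup G) (u : G), u ∈ Q ∧ IsSimpleGroup L ∧
      ¬ IsMulCommutative L ∧ L ⊓ cj u L = ⊥ ∧ (∀ x ∈ L, ∀ y ∈ cj u L, x * y = y * x) ∧
      L ⊔ cj u L = M ∧ ∃ z₁ ∈ L, z = z₁ * (u * z₁ * u⁻¹) ∧
      (∃ R : Sylow 2 L, (R : Subgroup L) = (centralizer ({z₁} : Set G)).subgroupOf L ∧
        (frattini (R : Subgroup L)).map (L.subtype.comp (R : Subgroup L).subtype) ≤ zpowers z₁) ∧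
      Q ≠ pCoreOf 2 (centralizer ({z} : Set G))) := by
  have hn : ∀ N : Subgroup G, N.Normal → Q ≤ 𝒩(N) := fun N hN => by
    rw [normalizer_eq_top]; exact le_top
  have hO : pPrimeCore 2 G = ⊥ :=
    hK _ (Nat.coprime_two_right.mp (pPrimeCore_coprime 2 G)) (hn _ inferInstance)
  have hzM : z ∈ M := hM ▸ subset_normalClosure rfl
  have hMn : M.Normal := hM ▸ inferInstance
  obtain ⟨T, hT⟩ := h.isPGroup.exists_le_sylow
  have hTz := h.le_cent_of_le T.isPGroup' hT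
  by_cases h2 : pCore 2 G = ⊥
  swap
  · have hz := h.mem_of_normalized pCore_isP (hn _ inferInstance) h2
    have h1 : M ≤ pCore 2 G ⊓ 𝒞(pCore 2 G) := hM ▸ normalClosure_le_normal (by
      rintro _ rfl
      exact ⟨hz, fun x hx => mem_cent_singleton.mp (hTz (pCore_isP.le_sylow_of_normal T hx))⟩)
    refine Or.inl ⟨le_centralizer_iff_isMulCommutative.mp
      (h1.trans (inf_le_right.trans (cent_mono (h1.trans inf_le_left)))),
      fstar_eq_pCore_iff'.mpr ⟨layer_eq_bot_iff.mpr fun L hL => h.not_comp_le_cent hL ?_, hO⟩⟩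
    exact commutator_eq_bot_iff'.mp (le_bot_iff.mp ((commutator_mono (IsComponent.le_layer hL)
      (pCore_le_fittingSubgroup 2)).trans commutator_layer_fitting.le)) hz
  right
  have hF : fittingSubgroup G = ⊥ := (fittingSubgroup_eq_pCore hO).trans h2
  have hE : generalizedFittingSubgroup G = layer G := by rw [fstar_def, hF, sup_bot_eq]
  have hE0 : layer G ≠ ⊥ := by
    have : Nontrivial G := ⟨⟨z, 1, h.ne_one⟩⟩
    exact hE ▸ fstar_ne_bot
  have hzE : z ∈ layer G := h.mem_of_large hK (Normal.isSubnormal inferInstance) (hn _ inferInstance) hE0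
  have hME : M = layer G := le_antisymm (hM ▸ normalClosure_le_normal (by rintro _ rfl; exact hzE))
    (layer_le_iff.mpr fun L hL => (IsComponent.le_or_commutator_eq_bot hL hMn.isSubnormal).resolve_right
      fun h1 => h.not_comp_le_cent hL (commutator_eq_bot_iff'.mp h1 hzM))
  obtain ⟨L, hL⟩ := not_forall_not.mp (mt layer_eq_bot_iff.mpr hE0)
  have hZ := fun K => comp_inf_cent_eq_bot hF (L := K)
  have hsimple : IsSimpleGroup L := IsQuasisimple.isSimpleGroup_of_center_eq_bot hL.2 (by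
    rw [← map_eq_bot_iff_of_injective _ L.subtype_injective, map_subtype_center_eq, hZ L hL])
  have hna : ¬ IsMulCommutative L := fun h1 =>
    IsQuasisimple.not_le_centralizer hL.2 (le_centralizer_iff_isMulCommutative.mpr h1)
  have hcomm : ∀ {K K' : Subgroup G}, IsComponent K → IsComponent K' → K ≠ K' → K ≤ 𝒞(K') :=
    fun hK hK' hne => commutator_eq_bot_iff_le_centralizer.mp
      (IsComponent.commutator_eq_bot_of_ne hK hK' hne)
  by_cases hQL : Q ≤ 𝒩(L)
  · have hzL := h.mem_of_large hK hL.1 hQL (IsComponent.ne_bot hL)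
    have : M = L := hME.trans (le_antisymm (layer_le_iff.mpr fun K hK' => by
      by_contra h1
      exact h.not_comp_le_cent hK' (hcomm hL hK' (fun h2 => h1 h2.ge) hzL)) (IsComponent.le_layer hL))
    exact Or.inl ⟨hME.trans hE.symm, this ▸ hsimple, this ▸ hna⟩
  refine Or.inr ⟨hME.trans hE.symm, ?_⟩
  obtain ⟨u, hu, hu'⟩ := SetLike.not_le_iff_exists.mp hQL
  have hne : cj u L ≠ L := mt cj_eq_iff_mem.mp hu'
  have hJ : IsComponent (cj u L) := IsComponent.conj hL u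
  obtain ⟨z₁, hz₁, c, hc, hzc⟩ := comp_exists_mul hL hzE
  have hzc' : u * z₁ * u⁻¹ * (u * c * u⁻¹) = z := by
    calc _ = u * (z₁ * c) * u⁻¹ := by group
      _ = z := by rw [hzc, h.comm hu, mul_inv_cancel_right]
  have hc' : u * c * u⁻¹ ∈ 𝒞(cj u L) := cj_cent u L ▸ conj_mem_cj u hc
  have hz₁2 : z₁ ^ 2 = 1 := eq_of_mul_eq_mul_of_inf_cent (hZ L hL) (pow_mem hz₁ 2) (one_mem _)
    (pow_mem hc 2) (one_mem _) (by
      rw [← (show Commute z₁ c from hc z₁ hz₁).mul_pow, hzc, pow_two, h.mul_self, mul_one])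
  have hz₁1 : z₁ ≠ 1 := fun h1 => h.not_comp_le_cent hL (by rw [← hzc, h1, one_mul]; exact hc)
  have hcent : ∀ x ∈ L, x ∈ centralizer ({z₁} : Set G) ↔ x ∈ centralizer ({z} : Set G) := by
    intro x hx
    rw [mem_cent_singleton, mem_cent_singleton, ← hzc, ← mul_assoc, mul_assoc z₁, ← hc x hx,
      ← mul_assoc, mul_left_inj]
  have hy : ∀ x ∈ L, x ∈ centralizer ({z₁} : Set G) → x * (u * x⁻¹ * u⁻¹) ∈ Q := fun x hx hx' => by
    have := Q.mul_mem (conj_mem (h.norm ((hcent x hx).mp hx')) hu) (Q.inv_mem hu)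
    simpa only [mul_assoc] using this
  have hyc : ∀ x ∈ L, u * x * u⁻¹ ∈ 𝒞(L) := fun x hx => hcomm hJ hL hne (conj_mem_cj u hx)
  have hyz : ∀ x ∈ L, ∀ d ∈ 𝒞(L), x * d ∈ zpowers z → x ∈ zpowers z₁ := fun x hx d hd h1 => by
    rcases h.mem_Z.mp h1 with h2 | h2
    · rw [eq_of_mul_eq_mul_of_inf_cent (hZ L hL) hx (one_mem _) hd (one_mem _) (h2.trans (mul_one 1).symm)]
      exact one_mem _
    · rw [eq_of_mul_eq_mul_of_inf_cent (hZ L hL) hx hz₁ hd hc (h2.trans hzc.symm)]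
      exact mem_zpowers z₁
  have hsq : ∀ x ∈ L, x ∈ centralizer ({z₁} : Set G) → x ^ 2 ∈ zpowers z₁ := fun x hx hx' =>
    hyz _ (pow_mem hx 2) _ (pow_mem (hyc _ (inv_mem hx)) 2) (by
      rw [← (show Commute x _ from hyc _ (inv_mem hx) x hx).mul_pow]; exact h.sq _ (hy x hx hx'))
  have h4 : ∀ x ∈ L, x ∈ centralizer ({z₁} : Set G) → x ^ 4 = 1 := fun x hx hx' => by
    obtain ⟨k, hk⟩ := hsq x hx hx'
    rw [show 4 = 2 * 2 from rfl, pow_mul, ← hk, ← zpow_natCast, ← zpow_mul, mul_comm, zpow_mul,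
      zpow_natCast, hz₁2, one_zpow]
  have hS := isSylowIn_inf_of_isSubnormal T hL.1
  have hR : (T : Subgroup G) ⊓ L = centralizer ({z₁} : Set G) ⊓ L :=
    (hS.eq_of_le (U := centralizer ({z₁} : Set G) ⊓ L) (fun x => ⟨2, Subtype.ext (h4 x x.2.2 x.2.1)⟩)
      (fun x hx => ⟨(hcent x hx.2).mpr (hTz hx.1), hx.2⟩) inf_le_right).symm
  rw [hR] at hS
  obtain ⟨x, hx, hx'⟩ : ∃ x ∈ centralizer ({z₁} : Set G) ⊓ L, x ∉ zpowers z₁ := by
    by_contra! h1
    have hcyc : IsCyclic (hS.toSylow : Subgroup L) := by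
      have : IsCyclic (centralizer ({z₁} : Set G) ⊓ L : Subgroup G) := isCyclic_of_le h1
      exact isCyclic_of_surjective _ (subgroupOfEquivOfLe hS.le).symm.surjective
    have hd : 2 ∣ Nat.card L := orderOf_eq_prime hz₁2 hz₁1 ▸ L.orderOf_dvd_natCard hz₁
    exact CL.Inv.not_normalizer_le_centralizer_of_perfect hL.2.1.commutator_eq_top hd _
      (hcyc.normalizer_le_centralizer ((Nat.minFac_eq_two_iff _).mpr hd))
  have hall : ∀ K : Subgroup G, IsComponent K → K = L ∨ K = cj u L := fun K hK' => by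
    by_contra! h1
    have hyK : ∀ K : Subgroup G, IsComponent K → K ≠ L → K ≠ cj u L →
        x * (u * x⁻¹ * u⁻¹) ∈ 𝒞(K) := fun K hK h1 h2 =>
      mul_mem (hcomm hL hK h1.symm hx.2) (hcomm hJ hK h2.symm (conj_mem_cj u (inv_mem hx.2)))
    refine hx' (hyz x hx.2 _ (hyc _ (inv_mem hx.2)) (h.cent_eq ▸ ?_))
    by_contra h2
    obtain ⟨v, hv, hv'⟩ := h.exists_conj_eq_mul (hy x hx.2 hx.1) h2
    have h3 : z * (x * (u * x⁻¹ * u⁻¹)) ∈ 𝒞(cj v K) :=
      hv' ▸ cj_cent v K ▸ conj_mem_cj v (hyK K hK' h1.1 h1.2)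
    by_cases h5 : cj v K = L
    · rw [h5, ← hzc, mul_assoc, ← mul_assoc c, ← hc x hx.2, mul_assoc, ← mul_assoc,
        mul_mem_cancel_right (mul_mem hc (hyc _ (inv_mem hx.2)))] at h3
      have := (hZ L hL).le ⟨L.mul_mem hz₁ hx.2, h3⟩
      exact hx' (eq_inv_of_mul_eq_one_right this ▸ inv_mem (mem_zpowers z₁))
    by_cases h6 : cj v K = cj u L
    · have h7 : x ∈ 𝒞(cj u L) := hcomm hL hJ hne.symm hx.2
      have h8 : u * x⁻¹ * u⁻¹ ∈ cj u L := conj_mem_cj u (inv_mem hx.2)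
      rw [h6, ← hzc', ← h7 _ h8, mul_assoc, ← mul_assoc (u * c * u⁻¹), ← hc' _ h8,
        mul_assoc _ _ x, ← mul_assoc (u * z₁ * u⁻¹), mul_mem_cancel_right (mul_mem hc' h7)] at h3
      have h9 : u * z₁ * u⁻¹ * (u * x⁻¹ * u⁻¹) = 1 :=
        (hZ _ hJ).le ⟨(cj u L).mul_mem (conj_mem_cj u hz₁) h8, h3⟩
      have h10 : z₁ * x⁻¹ = 1 := by
        calc z₁ * x⁻¹ = u⁻¹ * (u * z₁ * u⁻¹ * (u * x⁻¹ * u⁻¹)) * u := by group
          _ = 1 := by rw [h9]; group
      exact hx' (mul_inv_eq_one.mp h10 ▸ mem_zpowers z₁)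
    exact h.not_comp_le_cent (IsComponent.conj hK' v)
      ((mul_mem_cancel_right (hyK _ (IsComponent.conj hK' v) h5 h6)).mp h3)
  have hsup : L ⊔ cj u L = layer G := le_antisymm
    (sup_le (IsComponent.le_layer hL) (IsComponent.le_layer hJ)) (layer_le_iff.mpr fun K hK' => by
      rcases hall K hK' with rfl | rfl
      exacts [le_sup_left, le_sup_right])
  have hdec : ∀ e ∈ layer G, ∃ l ∈ L, ∃ k ∈ cj u L, l * k = e := fun e he =>
    (mem_sup_nr ((hcomm hL hJ hne.symm).trans (cent_le_norm _))).mp (hsup ▸ he)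
  have hzz : z = z₁ * (u * z₁ * u⁻¹) := by
    obtain ⟨l, hl, k, hk, e⟩ := hdec z hzE
    have e1 := eq_of_mul_eq_mul_of_inf_cent (hZ L hL) hl hz₁ (hcomm hJ hL hne hk) hc (e.trans hzc.symm)
    have e2 := eq_of_mul_eq_mul_of_inf_cent (hZ _ hJ) hk (conj_mem_cj u hz₁)
      (hcomm hL hJ hne.symm hl) hc' ((hcomm hJ hL hne hk l hl).symm.trans (e.trans hzc'.symm))
    rw [← e2, ← e1, e]
  refine ⟨L, u, hu, hsimple, hna, eq_bot_iff.mpr ((inf_le_inf_left _ (hcomm hJ hL hne)).trans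
    (hZ L hL).le), fun a ha b hb => hcomm hJ hL hne hb a ha, hsup.trans hME.symm, z₁, hz₁, hzz,
    ⟨hS.toSylow, inf_subgroupOf_right _ _, map_le_iff_le_comap.mpr ?_⟩, fun hQ => ?_⟩
  · have h5 : ∀ a : (hS.toSylow : Subgroup L), a ^ 2 ∈ (zpowers z₁).comap
        (L.subtype.comp (hS.toSylow : Subgroup L).subtype) := fun a => hsq _ a.1.2 a.2.1
    refine frattini_le_of_commutator_le_of_pow_mem (commutator_le.mpr fun a _ b _ => ?_) h5
    rw [commutatorElement_eq_sq_mul_sq]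
    exact mul_mem (mul_mem (h5 _) (h5 _)) (h5 _)
  · have h5 : layer G ⊓ centralizer ({z} : Set G) ≤ Q := hQ ▸ CL.Even.le_core inf_le_right
      (fun e => ⟨2, Subtype.ext (by
        obtain ⟨l, hl, k, hk, e1⟩ := hdec e e.2.1
        have hkC := hcomm hJ hL hne hk
        have e2 : l * z₁ * (k * (u * z₁ * u⁻¹)) = z₁ * l * (u * z₁ * u⁻¹ * k) := by
          have := mem_cent_singleton.mp e.2.2
          rw [← e1, hzz] at this
          calc _ = l * (z₁ * k) * (u * z₁ * u⁻¹) := by group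
            _ = l * k * (z₁ * (u * z₁ * u⁻¹)) := by rw [hkC z₁ hz₁]; group
            _ = z₁ * (u * z₁ * u⁻¹ * l) * k := by rw [this]; group
            _ = _ := by rw [← hyc z₁ hz₁ l hl]; group
        have e3 := eq_of_mul_eq_mul_of_inf_cent (hZ L hL) (mul_mem hl hz₁) (mul_mem hz₁ hl)
          (mul_mem hkC (hyc z₁ hz₁)) (mul_mem (hyc z₁ hz₁) hkC) e2
        rw [e3, mul_right_inj] at e2
        have e4 := h4 _ (mem_cj.mp hk) (mem_cent_singleton.mpr (by
          calc u⁻¹ * k * u * z₁ = u⁻¹ * (k * (u * z₁ * u⁻¹)) * u := by group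
            _ = _ := by rw [e2]; group))
        change (e : G) ^ 4 = 1
        rw [← e1, (show Commute l k from hkC l hl).mul_pow, h4 l hl (mem_cent_singleton.mpr e3),
          one_mul, ← mul_inv_cancel_left u k, ← mul_inv_cancel_right (u⁻¹ * k) u, ← mul_assoc,
          conj_pow, e4]; simp)⟩)
      (le_norm_inf (by rw [normalizer_eq_top]; exact le_top) le_normalizer)
    refine hx' (hyz x hx.2 _ (hyc _ (inv_mem hx.2)) ?_)
    have := h.comm_mem (h5 ⟨IsComponent.le_layer hL hx.2, (hcent x hx.2).mp hx.1⟩) hu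
    simpa only [commutatorElement_def, mul_assoc] using this

end XE

end CL.Even
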