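import Cfsg.Agent.Even.AvgChar
import Cfsg.Agent.Even.Amb
import Cfsg.Agent.Blk.Column
import Cfsg.Agent.Blk.Height
import Cfsg.Agent.Blk.DefectNum
import Cfsg.Agent.Grp.ThompsonReduction

/-!
# Averaging lemmas for the principal block
-/

set_option autoImplicit false
set_option linter.unusedSectionVars false

open scoped ComplexConjugate Classical Pointwise
open Cfsg CL.Char CL.Blk CL.Even CL.Grp Subgroup Finset

namespace CL.Avg

section Grp

variable {G : Type*} [Group G] [Finite G] {p : ℕ} [hp : Fact p.Prime]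

theorem cop_of_mem {K : Subgroup G} (hK : ¬ p ∣ Nat.card K) {y : G} (hy : y ∈ K) : (orderOf y).Coprime p :=
  ((Nat.Prime.coprime_iff_not_dvd hp.out).2 fun h => hK (h.trans (orderOf_dvd_natCard K hy))).symm

theorem ord_pow {W : Subgroup G} (hW : IsPGroup p W) {c : G} (hc : c ∈ W) : ∃ k : ℕ, orderOf c = p ^ k := by
  obtain ⟨k, hk⟩ := isPGroup_iff_forall.1 hW c hc
  obtain ⟨j, -, hj⟩ := (Nat.dvd_prime_pow hp.out).1 (orderOf_dvd_of_pow_eq_one hk)
  exact ⟨j, hj⟩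

theorem conj_into {W K U : Subgroup G} (hW : IsPGroup p W) (hK : ¬ p ∣ Nat.card K) (hn : W ≤ 𝒩(K))
    (hU : IsPGroup p U) (h : U ≤ W ⊔ K) : ∃ k ∈ K, ∀ u ∈ U, k * u * k⁻¹ ∈ W := by
  obtain ⟨h, hh, hle⟩ := (isSylowIn_sup_of_coprime hW
    ((Nat.Prime.coprime_iff_not_dvd hp.out).2 hK).symm hn).exists_conj_le hU h
  obtain ⟨a, ha, k, hk, rfl⟩ := (mem_sup_nr hn).1 hh
  refine ⟨k, hk, fun u hu => ?_⟩
  have h1 := mul_mem (mul_mem (inv_mem ha) ((conj_smul_le_iff _ _ _).1 hle u hu)) ha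
  simpa [mul_assoc] using h1

theorem coset_conj {K : Subgroup G} (hK : ¬ p ∣ Nat.card K) {c : G} (hc : ∃ k : ℕ, orderOf c = p ^ k)
    (hn : c ∈ 𝒩(K)) {y : G} (hy : y ∈ K) : ∃ z ∈ K, Commute c z ∧ IsConj (c * y) (c * z) := by
  obtain ⟨m, hm⟩ := hc
  have hC : IsPGroup p (zpowers c) := isPGroup_zpowers (k := m) (hm ▸ pow_orderOf_eq_one c)
  have hn' : zpowers c ≤ 𝒩(K) := zpowers_le.2 hn
  obtain ⟨x, hx⟩ := exists_isPPart hp.out (c * y)
  have hg : c * y ∈ zpowers c ⊔ K := mul_mem_sup (mem_zpowers c) hy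
  have hxL := isPPart_mem hp.out hx hg
  obtain ⟨z, e, hc, ⟨j, hj⟩, hz⟩ := hx
  have hzK : z ∈ K := res_sup_le_of_isPGroup hC hn' (mem_res (by
    rw [show z = x⁻¹ * (c * y) by rw [← e]; group]; exact mul_mem (inv_mem hxL) hg)
    ((Nat.Prime.coprime_iff_not_dvd hp.out).2 hz).symm)
  obtain ⟨k, hk, hkx⟩ := conj_into hC hK hn' (isPGroup_zpowers (k := j) (hj ▸ pow_orderOf_eq_one x))
    (zpowers_le.2 hxL)
  have h1 : c⁻¹ * (k * x * k⁻¹) = 1 := by
    refine eq_one_of_coprime_of_mem hC (cop_of_mem hK ?_)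
      (mul_mem (inv_mem (mem_zpowers c)) (hkx x (mem_zpowers x)))
    rw [show x = c * y * z⁻¹ by rw [← e]; group,
      show c⁻¹ * (k * (c * y * z⁻¹) * k⁻¹) = c⁻¹ * k * c * y * z⁻¹ * k⁻¹ by group]
    exact mul_mem (mul_mem (mul_mem (conj_mem' hn hk) hy) (inv_mem hzK)) (inv_mem hk)
  have h2 : c = k * x * k⁻¹ := inv_mul_eq_one.1 h1
  refine ⟨k * z * k⁻¹, mul_mem (mul_mem hk hzK) (inv_mem hk), ?_, isConj_iff.2 ⟨k, ?_⟩⟩
  · rw [h2]; exact hc.conj k
  · rw [← e]; nth_rw 1 [h2]; group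

theorem dvd_orderOf_coset {K : Subgroup G} (hK : ¬ p ∣ Nat.card K) {c : G} (hc : ∃ k : ℕ, orderOf c = p ^ k)
    (hn : c ∈ 𝒩(K)) {y : G} (hy : y ∈ K) (h : ¬ p ∣ orderOf (c * y)) : c = 1 := by
  obtain ⟨z, hz, hcz, hj⟩ := coset_conj hK hc hn hy
  have h1 := isPPart_isConj hp.out (isPPart_one h) (isPPart_mul hcz hc
    ((Nat.Prime.coprime_iff_not_dvd hp.out).1 (cop_of_mem hK hz).symm)) hj
  exact (isConj_one_right.1 h1)

end Grp

variable {G : Type*} [Group G] [Fintype G] {p : ℕ} [hp : Fact p.Prime] {M : Ideal AlgInt}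

theorem apply_coset (hM : IsPModular p M) {χ : IrrCharacter G} (hχ : χ ∈ principalBlock M G) {K : Subgroup G}
    (hK : ¬ p ∣ Nat.card K) {c : G} (hc : ∃ k : ℕ, orderOf c = p ^ k) (hn : c ∈ 𝒩(K))
    (h : K ⊓ centralizer {c} ≤ centralizerPPrimeCore p c) {y : G} (hy : y ∈ K) :
    (χ : G → ℂ) (c * y) = (χ : G → ℂ) c := by
  obtain ⟨z, hz, hcz, hj⟩ := coset_conj hK hc hn hy
  rw [χ.2.isClassFunction.apply_eq_of_isConj hj]
  exact principal_apply_mul_of_mem_centralizerPPrimeCore hM hχ hc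
    (h ⟨hz, mem_centralizer_singleton_iff.2 hcz.symm⟩)

/-- The principal block as a finite set. -/
noncomputable def bz (M : Ideal AlgInt) (G : Type*) [Group G] [Finite G] : Finset (IrrCharacter G) :=
  univ.filter (· ∈ principalBlock M G)

theorem mem_bz {χ : IrrCharacter G} : χ ∈ bz M G ↔ χ ∈ principalBlock M G := by simp [bz]

theorem one_mem_bz (hM : IsPModular p M) : irrOne G ∈ bz M G := mem_bz.2 (irrOne_mem_principal hM)

theorem orth_reg (hM : IsPModular p M) {W : Subgroup G} (hW : IsPGroup p W) {y : G} (hy : ¬ p ∣ orderOf y) :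
    ∑ χ ∈ bz M G, (χ : G → ℂ) y * (xs W χ.1 : ℂ) = 0 := by
  rw [sum_congr rfl fun χ _ => by rw [xs_eq_inv χ.2, mul_sum], sum_comm]
  refine sum_eq_zero fun c hc => block_orth hM (isPBlock_principal M) (isPPart_one hy)
    (isPPart_self hM.1 (ord_pow hW c.2)) fun h => (mem_erase.1 hc).1 (Subtype.ext (isConj_one_right.1 h))

theorem sum_dx (hM : IsPModular p M) {W : Subgroup G} (hW : IsPGroup p W) :
    ∑ χ ∈ bz M G, dg χ.1 * xs W χ.1 = 0 := by
  have h := orth_reg hM hW (y := 1) (by rw [orderOf_one]; exact hM.1.not_dvd_one)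
  rw [sum_congr rfl fun χ _ => by rw [← dg_eq χ.2, ← Complex.ofReal_mul], ← Complex.ofReal_sum] at h
  exact_mod_cast h

/-- The fusion class of `c` in `W#`. -/
noncomputable def orb (W : Subgroup G) (c : G) : Finset W := (univ.erase 1).filter fun b => IsConj c (b : G)

theorem col_sum (hM : IsPModular p M) {W : Subgroup G} (hW : IsPGroup p W) {c : G}
    (hc : ∃ k : ℕ, orderOf c = p ^ k) :
    ∑ χ ∈ bz M G, (χ : G → ℂ) c⁻¹ * (xs W χ.1 : ℂ) = (orb W c).card * degSq M (centralizer ({c} : Set G)) := by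
  rw [sum_congr rfl fun χ _ => by rw [xs_eq χ.2, mul_sum], sum_comm, orb, card_filter, Nat.cast_sum, sum_mul]
  refine sum_congr rfl fun b _ => ?_
  rw [sum_congr rfl fun χ _ => mul_comm _ _]
  refine (sum_principal_column hM hc (ord_pow hW b.2)).trans ?_
  split_ifs <;> simp

theorem sum_sq (hM : IsPModular p M) {W : Subgroup G} (hW : IsPGroup p W) :
    ∑ χ ∈ bz M G, xs W χ.1 ^ 2 =
      ∑ c ∈ (univ : Finset W).erase 1, (orb W c).card * (degSq M (centralizer ({(c : G)} : Set G))).re := by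
  have h : ((∑ χ ∈ bz M G, xs W χ.1 ^ 2 : ℝ) : ℂ) =
      ∑ c ∈ (univ : Finset W).erase 1, (orb W c).card * degSq M (centralizer ({(c : G)} : Set G)) := by
    rw [← sum_congr rfl fun (c : W) _ => col_sum hM hW (ord_pow hW c.2), sum_comm, Complex.ofReal_sum]
    exact sum_congr rfl fun χ _ => by rw [← sum_mul, ← xs_eq_inv χ.2]; push_cast; ring
  rw [← Complex.ofReal_re (∑ χ ∈ bz M G, xs W χ.1 ^ 2), h, Complex.re_sum]
  exact sum_congr rfl fun c _ => by rw [← Complex.ofReal_natCast, Complex.re_ofReal_mul]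

theorem card_le_degSq (hM : IsPModular p M) {W : Subgroup G} (hW : IsPGroup p W) :
    (Nat.card W : ℝ) ≤ (degSq M G).re := by
  have h1 : (degSq M G).re = ∑ χ ∈ bz M G, dg χ.1 * (dg χ.1 + xs W χ.1) := by
    simp only [mul_add, sum_add_distrib, sum_dx hM hW, add_zero]
    rw [degSq, Complex.re_sum]
    exact sum_congr rfl fun χ _ => by rw [← dg_eq χ.2, ← Complex.ofReal_mul, Complex.ofReal_re]
  rw [h1]
  refine le_trans ?_ (single_le_sum (f := fun χ : IrrCharacter G => dg χ.1 * (dg χ.1 + xs W χ.1))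
    (fun χ _ => mul_nonneg (dg_pos χ.2).le (sum_nonneg' χ.2 W)) (one_mem_bz hM))
  simp only [coe_irrOne, dg, Complex.one_re]
  rw [xs_one]
  linarith

theorem card_le_degSq_cent (hM : IsPModular p M) {W : Subgroup G} (hW : IsPGroup p W) {c : G}
    (hc : W ≤ centralizer {c}) : (Nat.card W : ℝ) ≤ (degSq M (centralizer ({c} : Set G))).re := by
  rw [← Nat.card_congr (subgroupOfEquivOfLe hc).toEquiv]
  exact card_le_degSq hM (hW.comap_subtype)

theorem mem_core_of_ker (hM : IsPModular p M) {g : G}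
    (h : ∀ χ ∈ principalBlock M G, g ∈ charKer (χ : G → ℂ)) : g ∈ pPrimeCore p G := by
  set N : Subgroup G := ⨅ χ : principalBlock M G, charKer (χ.1 : G → ℂ) with hN
  have : N.Normal := normal_iInf_normal fun χ => χ.1.2.charKer_normal
  refine le_pPrimeCore_of_not_dvd (N := N) (fun hd => ?_) (mem_iInf.2 fun χ => h χ.1 χ.2)
  obtain ⟨u, hu⟩ := exists_prime_orderOf_dvd_card' p hd
  have hu' : orderOf (u : G) = p ^ 1 := by rw [pow_one, orderOf_coe, hu]
  have h1 := sum_principal_column hM (x := (1 : G)) (y := u) ⟨0, by simp⟩ ⟨1, hu'⟩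
  rw [if_neg fun h => by
    rw [isConj_one_right.1 h, orderOf_one, pow_one] at hu'
    exact hp.out.one_lt.ne hu', sum_congr rfl fun χ hχ => by
      rw [inv_one, χ.2.mem_charKer.1 (mem_iInf.1 u.2 ⟨χ, (mem_filter.1 hχ).2⟩)]] at h1
  have h2 := card_le_degSq hM (W := (⊥ : Subgroup G)) IsPGroup.of_bot
  rw [degSq, h1, card_bot] at h2
  norm_num at h2

theorem forall_comm_mem_ker {χ : G → ℂ} (hχ : IsIrrCharacter G χ) {W : Subgroup G} (h3 : 3 ≤ Nat.card W)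
    (hne : ∀ a ∈ W, χ a ≠ 0)
    (hmul : ∀ a ∈ W, ∀ b ∈ W, a * b ≠ 1 → ∀ g, χ (a * (g * b * g⁻¹)) = χ (a * b)) {b : G} (hb : b ∈ W)
    (g : G) : b * g * b⁻¹ * g⁻¹ ∈ charKer χ := by
  obtain ⟨a, -, ha⟩ := exists_mem_notMem_of_card_lt_card (s := ({1, (⟨b, hb⟩ : W)⁻¹} : Finset W)) (t := univ)
    (lt_of_le_of_lt card_le_two (by rw [card_univ, ← Nat.card_eq_fintype_card]; omega))
  simp only [Finset.mem_insert, Finset.mem_singleton, not_or] at ha
  refine comm_mem_ker hχ (hne a a.2) (hmul a a.2 b hb fun h => ha.2 (Subtype.ext (eq_inv_of_mul_eq_one_left h)))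
    (fun g => ?_) g
  rw [hmul _ (mul_mem a.2 hb) _ (inv_mem hb) (by simpa using ha.1), mul_inv_cancel_right]

theorem comm_mem_core (hM : IsPModular p M) {W : Subgroup G} (h3 : 3 ≤ Nat.card W)
    (hz : ∀ a ∈ W, ¬ p ∣ (centralizer ({a} : Set G)).index)
    (hmul : ∀ χ ∈ principalBlock M G, ∀ a ∈ W, ∀ b ∈ W, a * b ≠ 1 → ∀ g,
      (χ : G → ℂ) (a * (g * b * g⁻¹)) = (χ : G → ℂ) (a * b)) {b : G} (hb : b ∈ W)
    (g : G) : b * g * b⁻¹ * g⁻¹ ∈ pPrimeCore p G :=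
  mem_core_of_ker hM fun χ hχ => forall_comm_mem_ker χ.2 h3
    (fun a ha => principal_apply_ne_zero hM hχ (hz a ha)) (hmul χ hχ) hb g

theorem cubic_lt {ι : Type*} {s : Finset ι} {d x : ι → ℝ} {o : ι} (ho : o ∈ s) (hd : ∀ i ∈ s, 0 < d i)
    (hx : 0 < x o) {t : ℝ} (ht : 0 ≤ t) (h : ∀ i ∈ s, i ≠ o → x i ≤ t * d i) (h0 : ∑ i ∈ s, d i * x i = 0) :
    ∑ i ∈ s, x i ^ 3 / d i - x o ^ 3 / d o < t * (∑ i ∈ s, x i ^ 2 - x o ^ 2) := by
  rw [← add_sum_erase _ _ ho] at h0 ⊢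
  rw [← add_sum_erase s (fun i => x i ^ 2) ho, add_sub_cancel_left, add_sub_cancel_left, mul_sum]
  obtain ⟨j, hj, hj'⟩ : ∃ j ∈ s.erase o, d j * x j < 0 := by
    by_contra hc
    push Not at hc
    have := sum_nonneg hc
    have := mul_pos (hd o ho) hx
    linarith
  refine sum_lt_sum (fun i hi => ?_) ⟨j, hj, ?_⟩
  · rw [div_le_iff₀ (hd i (mem_of_mem_erase hi))]
    nlinarith [h i (mem_of_mem_erase hi) (mem_erase.1 hi).1, sq_nonneg (x i)]
  · have h1 := hd j (mem_of_mem_erase hj)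
    have h2 : x j < 0 := by by_contra h2; nlinarith
    rw [div_lt_iff₀ h1]
    have h3 : 0 ≤ t * x j ^ 2 * d j := by positivity
    nlinarith [mul_pos (neg_pos.2 h2) (mul_pos (neg_pos.2 h2) (neg_pos.2 h2))]

theorem cubic_lt' (hM : IsPModular p M) {W : Subgroup G} (hW : IsPGroup p W) (h1 : 1 < Nat.card W) {t : ℝ}
    (ht : 0 ≤ t) (h : ∀ χ ∈ principalBlock M G, χ ≠ irrOne G → xs W χ.1 ≤ t * dg χ.1) :
    ∑ χ ∈ bz M G, xs W χ.1 ^ 3 / dg χ.1 - ((Nat.card W : ℝ) - 1) ^ 3 <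
      t * (∑ χ ∈ bz M G, xs W χ.1 ^ 2 - ((Nat.card W : ℝ) - 1) ^ 2) := by
  have e : xs W (irrOne G : G → ℂ) = (Nat.card W : ℝ) - 1 := xs_one W
  have h2 := cubic_lt (d := fun χ : IrrCharacter G => dg χ.1) (x := fun χ : IrrCharacter G => xs W χ.1)
    (one_mem_bz hM) (fun χ _ => dg_pos χ.2) (by rw [e, sub_pos]; exact_mod_cast h1) ht
    (fun χ hχ => h χ (mem_bz.1 hχ)) (sum_dx hM hW)
  simp only [e] at h2
  rwa [show dg (irrOne G : G → ℂ) = 1 by simp [dg], div_one] at h2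

theorem not_le_ker {W : Subgroup G} (hW : normalClosure (W : Set G) = ⊤) {χ : IrrCharacter G}
    (h : χ ≠ irrOne G) : ¬ W ≤ charKer (χ : G → ℂ) := fun hle => by
  have := χ.2.charKer_normal
  exact h (Subtype.ext (χ.2.charKer_eq_top_iff.1 (top_le_iff.1 (hW ▸ normalClosure_le_normal hle))))

end CL.Avg
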