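import Cfsg.Agent.Char.SchurAvg
import Cfsg.Agent.Char.Kernel
import Cfsg.Agent.Char.Values
import Cfsg.Agent.Char.Inner

/-!
# Averaging lemmas for one irreducible character
-/

set_option autoImplicit false
set_option linter.unusedSectionVars false

open scoped ComplexConjugate Classical
open Cfsg CL.Char Subgroup Finset

namespace CL.Avg

variable {G : Type*} [Group G] [Fintype G] {χ : G → ℂ}

/-- The degree as a real number. -/
noncomputable def dg (χ : G → ℂ) : ℝ := (χ 1).re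

theorem dg_eq (hχ : IsIrrCharacter G χ) : ((dg χ : ℝ) : ℂ) = χ 1 := by
  rw [dg, (isChar_of_isIrr hχ).re_one, ← hχ.cast_charDegree]; simp

theorem dg_pos (hχ : IsIrrCharacter G χ) : 0 < dg χ := by
  rw [dg, (isChar_of_isIrr hχ).re_one]; exact_mod_cast hχ.charDegree_pos

theorem re_le_dg (hχ : IsIrrCharacter G χ) (g : G) : (χ g).re ≤ dg χ := by
  rw [dg, (isChar_of_isIrr hχ).re_one]
  exact (Complex.re_le_norm _).trans ((isChar_of_isIrr hχ).norm_le g)

theorem eq_of_re_eq (hχ : IsIrrCharacter G χ) {g : G} (h : (χ g).re = dg χ) : χ g = χ 1 := by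
  have h1 := (isChar_of_isIrr hχ).norm_le g
  rw [← (isChar_of_isIrr hχ).re_one, ← dg, ← h] at h1
  have h2 : (χ g).im = 0 := by
    have h3 := Complex.sq_norm (χ g)
    rw [Complex.normSq_apply] at h3
    have h4 := Complex.re_le_norm (χ g)
    have h5 : ‖χ g‖ = (χ g).re := le_antisymm h1 h4
    rw [h5] at h3
    nlinarith [mul_self_nonneg (χ g).im]
  rw [← dg_eq hχ, ← h]
  exact Complex.ext rfl (by simpa using h2)

theorem cls (hχ : IsIrrCharacter G χ) (a b : G) : χ (a * b) = χ (b * a) :=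
  hχ.isClassFunction.apply_eq_of_isConj (isConj_iff.2 ⟨b, by group⟩)

theorem cls' (hχ : IsIrrCharacter G χ) (a b : G) : χ (a * b * a⁻¹) = χ b := by
  rw [cls hχ, inv_mul_cancel_left]

theorem conv (hχ : IsIrrCharacter G χ) (g : G) :
    ∑ y : G, χ y * χ (y⁻¹ * g) = (Nat.card G : ℂ) * χ g / χ 1 := by
  have hG : (Nat.card G : ℂ) ≠ 0 := by exact_mod_cast Nat.card_pos.ne'
  have h1 : ∑ y : G, χ y * χ y⁻¹ = (Nat.card G : ℂ) := by
    have h := hχ.classInner_self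
    rw [classInner_def, inv_mul_eq_iff_eq_mul₀ hG, mul_one] at h
    rw [← h]
    exact sum_congr rfl fun y _ => by rw [isChar_inv (isChar_of_isIrr hχ)]
  have h2 : ∀ h : G, ∑ y : G, χ y * χ (y⁻¹ * g) = ∑ y : G, χ y * χ (h * y⁻¹ * h⁻¹ * g) := fun h => by
    refine (Fintype.sum_equiv (MulAut.conj h).toEquiv _ _ fun y => ?_).symm
    simp only [MulEquiv.toEquiv_eq_coe, EquivLike.coe_coe, MulAut.conj_apply, mul_inv_rev, inv_inv,
      mul_assoc]
    rw [← mul_assoc h y, cls' hχ]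
  have h3 : (Nat.card G : ℂ) * ∑ y : G, χ y * χ (y⁻¹ * g) =
      (Nat.card G : ℂ) * ((Nat.card G : ℂ) * χ g / χ 1) := by
    calc (Nat.card G : ℂ) * ∑ y : G, χ y * χ (y⁻¹ * g)
        = ∑ h : G, ∑ y : G, χ y * χ (h * y⁻¹ * h⁻¹ * g) := by
          rw [sum_congr rfl fun h _ => (h2 h).symm]; simp
      _ = ∑ y : G, χ y * ((Nat.card G : ℂ) * χ y⁻¹ * χ g / χ 1) := by
          rw [sum_comm]
          exact sum_congr rfl fun y _ => by rw [← mul_sum, schurAvg_sum_char_conj_mul hχ]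
      _ = (∑ y : G, χ y * χ y⁻¹) * ((Nat.card G : ℂ) * χ g / χ 1) := by
          rw [sum_mul]; exact sum_congr rfl fun y _ => by ring
      _ = _ := by rw [h1]
  exact mul_left_cancel₀ hG h3

section PD

variable {ι : Type*} [Fintype ι]

/-- The Hermitian form `tr (U* c U)`. -/
noncomputable def bf (χ : G → ℂ) (u : ι → G) (c : G) : ℂ := ∑ a, ∑ b, χ ((u a)⁻¹ * c * u b)

theorem bf_eq (hχ : IsIrrCharacter G χ) (u : ι → G) (c : G) :
    (Nat.card G : ℝ) / dg χ * (bf χ u c).re =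
      ∑ x : G, (conj (∑ b, χ (x⁻¹ * u b)) * ∑ b, χ ((c⁻¹ * x)⁻¹ * u b)).re := by
  have h1 : ∀ a b, (Nat.card G : ℂ) * χ ((u a)⁻¹ * c * u b) / χ 1 =
      ∑ x : G, conj (χ (x⁻¹ * u a)) * χ ((c⁻¹ * x)⁻¹ * u b) := fun a b => by
    rw [← conv hχ]
    refine (Fintype.sum_equiv (Equiv.mulLeft (u a)⁻¹) _ _ fun x => ?_).symm
    rw [← isChar_inv (isChar_of_isIrr hχ)]
    simp [mul_assoc]
  have h2 : (((Nat.card G : ℝ) / dg χ : ℝ) : ℂ) * bf χ u c =
      ∑ x : G, conj (∑ b, χ (x⁻¹ * u b)) * ∑ b, χ ((c⁻¹ * x)⁻¹ * u b) := by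
    simp only [bf, map_sum, sum_mul_sum]
    rw [mul_sum, sum_comm (s := (univ : Finset G))]
    refine sum_congr rfl fun a _ => ?_
    rw [mul_sum, sum_comm (s := (univ : Finset G))]
    refine sum_congr rfl fun b _ => ?_
    rw [← h1, Complex.ofReal_div, dg_eq hχ]
    push_cast
    ring
  rw [← Complex.re_sum, ← h2, Complex.re_ofReal_mul]

theorem bf_one_nonneg (hχ : IsIrrCharacter G χ) (u : ι → G) : 0 ≤ (bf χ u 1).re := by
  have h := bf_eq hχ u 1
  have hp : 0 < (Nat.card G : ℝ) / dg χ := div_pos (by exact_mod_cast Nat.card_pos) (dg_pos hχ)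
  refine nonneg_of_mul_nonneg_right ?_ hp |> fun h => h
  rw [h]
  refine sum_nonneg fun x _ => ?_
  rw [inv_one, one_mul, ← Complex.normSq_eq_conj_mul_self, Complex.ofReal_re]
  exact Complex.normSq_nonneg _

theorem bf_le (hχ : IsIrrCharacter G χ) (u : ι → G) (c : G) : (bf χ u c).re ≤ (bf χ u 1).re := by
  have hp : 0 < (Nat.card G : ℝ) / dg χ := div_pos (by exact_mod_cast Nat.card_pos) (dg_pos hχ)
  refine le_of_mul_le_mul_left ?_ hp
  rw [bf_eq hχ, bf_eq hχ]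
  set F : G → ℂ := fun x => ∑ b, χ (x⁻¹ * u b) with hF
  have h1 : ∑ x : G, Complex.normSq (F (c⁻¹ * x)) = ∑ x : G, Complex.normSq (F x) :=
    Fintype.sum_equiv (Equiv.mulLeft c⁻¹) _ _ fun x => rfl
  have h2 : ∑ x : G, (conj (F x) * F (1⁻¹ * x)).re = ∑ x : G, Complex.normSq (F x) :=
    sum_congr rfl fun x _ => by
      rw [inv_one, one_mul, ← Complex.normSq_eq_conj_mul_self, Complex.ofReal_re]
  have h3 : ∑ x : G, (conj (F x) * F (c⁻¹ * x)).re ≤
      ∑ x : G, (Complex.normSq (F x) + Complex.normSq (F (c⁻¹ * x))) / 2 := sum_le_sum fun x _ => by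
    simp only [Complex.mul_re, Complex.conj_re, Complex.conj_im, Complex.normSq_apply]
    nlinarith [sq_nonneg ((F x).re - (F (c⁻¹ * x)).re), sq_nonneg ((F x).im - (F (c⁻¹ * x)).im)]
  rw [← sum_div, sum_add_distrib, h1] at h3
  change ∑ x : G, (conj (F x) * F (c⁻¹ * x)).re ≤ ∑ x : G, (conj (F x) * F (1⁻¹ * x)).re
  rw [h2]
  linarith

end PD

/-- The sum of `χ` over the nonidentity elements of `W`. -/
noncomputable def xs (W : Subgroup G) (χ : G → ℂ) : ℝ := ∑ c ∈ (univ : Finset W).erase 1, (χ c).re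

theorem xs_eq (hχ : IsIrrCharacter G χ) (W : Subgroup G) :
    ((xs W χ : ℝ) : ℂ) = ∑ c ∈ (univ : Finset W).erase 1, χ c := by
  have h : conj (∑ c ∈ (univ : Finset W).erase 1, χ c) = ∑ c ∈ (univ : Finset W).erase 1, χ c := by
    rw [map_sum]
    refine sum_nbij' (fun c => c⁻¹) (fun c => c⁻¹) ?_ ?_ ?_ ?_ ?_
    · intro c hc; simpa using hc
    · intro c hc; simpa using hc
    · intro c _; simp
    · intro c _; simp
    · intro c _; rw [← isChar_inv (isChar_of_isIrr hχ)]; rfl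
  rw [xs, ← Complex.re_sum]
  exact Complex.conj_eq_iff_re.1 h

theorem xs_eq_inv (hχ : IsIrrCharacter G χ) (W : Subgroup G) :
    ((xs W χ : ℝ) : ℂ) = ∑ c ∈ (univ : Finset W).erase 1, χ (c : G)⁻¹ := by
  rw [← Complex.conj_ofReal, xs_eq hχ, map_sum]
  exact sum_congr rfl fun c _ => (isChar_inv (isChar_of_isIrr hχ) _).symm

theorem sum_W (hχ : IsIrrCharacter G χ) (W : Subgroup G) :
    ∑ c : W, χ c = ((dg χ + xs W χ : ℝ) : ℂ) := by
  rw [← add_sum_erase _ _ (mem_univ 1), Complex.ofReal_add, dg_eq hχ, xs_eq hχ]; rfl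

theorem card_erase (W : Subgroup G) : (((univ : Finset W).erase 1).card : ℝ) = (Nat.card W : ℝ) - 1 := by
  rw [card_erase_of_mem (mem_univ _), card_univ, Nat.card_eq_fintype_card, Nat.cast_sub Fintype.card_pos,
    Nat.cast_one]

theorem xs_one (W : Subgroup G) : xs W (fun _ => (1 : ℂ)) = (Nat.card W : ℝ) - 1 := by
  rw [← card_erase]; simp only [xs, Complex.one_re, sum_const, nsmul_eq_mul, mul_one]

/-- If the sum over `W#` is as large as possible then `W` is in the kernel. -/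
theorem xs_lt (hχ : IsIrrCharacter G χ) {W : Subgroup G} (h : ¬ W ≤ charKer χ) :
    xs W χ < ((Nat.card W : ℝ) - 1) * dg χ := by
  obtain ⟨c, hc, hk⟩ := SetLike.not_le_iff_exists.1 h
  rw [← card_erase, ← nsmul_eq_mul, ← sum_const]
  refine sum_lt_sum (fun c _ => re_le_dg hχ _) ⟨⟨c, hc⟩, ?_, lt_of_le_of_ne (re_le_dg hχ _) fun h' =>
    hk (hχ.mem_charKer.2 (eq_of_re_eq hχ h'))⟩
  refine mem_erase.2 ⟨fun h' => hk ?_, mem_univ _⟩
  rw [show c = 1 from congrArg Subtype.val h']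
  exact one_mem _

theorem bf_sub (W : Subgroup G) (c : G) :
    bf χ (fun a : W => (a : G)) c = ∑ a : W, ∑ b : W, χ ((a : G)⁻¹ * c * b) := rfl

theorem bf_sub_one (hχ : IsIrrCharacter G χ) (W : Subgroup G) :
    (bf χ (fun a : W => (a : G)) 1).re = Nat.card W * (dg χ + xs W χ) := by
  have h : ∀ a : W, ∑ b : W, χ ((a : G)⁻¹ * 1 * b) = ((dg χ + xs W χ : ℝ) : ℂ) := fun a => by
    rw [← sum_W hχ]
    exact Fintype.sum_equiv (Equiv.mulLeft a⁻¹) _ _ fun b => by simp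
  rw [bf_sub, sum_congr rfl fun a _ => h a, sum_const, card_univ, Nat.card_eq_fintype_card, nsmul_eq_mul,
    ← Complex.ofReal_natCast, ← Complex.ofReal_mul, Complex.ofReal_re]

theorem sum_nonneg' (hχ : IsIrrCharacter G χ) (W : Subgroup G) : 0 ≤ dg χ + xs W χ := by
  have h := bf_one_nonneg hχ fun a : W => (a : G)
  rw [bf_sub_one hχ] at h
  exact nonneg_of_mul_nonneg_right h (by exact_mod_cast Nat.card_pos) |> fun h => h

/-- Fixed spaces decrease as the subgroup grows. -/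
theorem sum_mono (hχ : IsIrrCharacter G χ) {L A : Subgroup G} (h : L ≤ A) :
    Nat.card L * (dg χ + xs A χ) ≤ Nat.card A * (dg χ + xs L χ) := by
  have h1 : ∑ c : A, (bf χ (fun a : L => (a : G)) c).re ≤ ∑ c : A, (bf χ (fun a : L => (a : G)) 1).re :=
    sum_le_sum fun c _ => bf_le hχ _ _
  have h2 : ∀ a b : L, ∑ c : A, χ ((a : G)⁻¹ * c * b) = ((dg χ + xs A χ : ℝ) : ℂ) := fun a b => by
    rw [← sum_W hχ]
    exact Fintype.sum_equiv ((Equiv.mulLeft (⟨a, h a.2⟩ : A)⁻¹).trans (Equiv.mulRight (⟨b, h b.2⟩ : A))) _ _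
      fun c => by simp
  rw [← Complex.re_sum, sum_const, card_univ, bf_sub_one hχ, nsmul_eq_mul, ← Nat.card_eq_fintype_card] at h1
  simp only [bf_sub] at h1
  rw [sum_comm, sum_congr rfl fun a _ => sum_comm, sum_congr rfl fun a _ => sum_congr rfl fun b _ => h2 a b] at h1
  simp only [sum_const, card_univ, nsmul_eq_mul, ← Nat.card_eq_fintype_card, ← Complex.ofReal_natCast,
    ← Complex.ofReal_mul, Complex.ofReal_re] at h1
  have hL : (0 : ℝ) < Nat.card L := by exact_mod_cast Nat.card_pos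
  nlinarith

/-- The double sum over `W × W^g`. -/
noncomputable def ps (W : Subgroup G) (χ : G → ℂ) (g : G) : ℂ := ∑ a : W, ∑ b : W, χ (a * (g * b * g⁻¹))

theorem sum_ps (hχ : IsIrrCharacter G χ) (W : Subgroup G) :
    ∑ g : G, ps W χ g = ((Nat.card G * (dg χ + xs W χ) ^ 2 / dg χ : ℝ) : ℂ) := by
  simp only [ps]
  rw [sum_comm, sum_congr rfl fun a _ => sum_comm]
  have h : ∀ a b : W, ∑ g : G, χ (a * (g * b * g⁻¹)) = (Nat.card G : ℂ) / χ 1 * (χ a * χ b) := fun a b => by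
    rw [sum_congr rfl fun g _ => cls hχ _ _, schurAvg_sum_char_conj_mul hχ]; ring
  simp only [h, ← mul_sum, ← sum_mul, sum_W hχ]
  rw [← dg_eq hχ]
  push_cast
  ring

theorem le_sq_of_ps (hχ : IsIrrCharacter G χ) (W : Subgroup G) {m : ℝ} (h : ∀ g, m ≤ (ps W χ g).re) :
    m * dg χ ≤ (dg χ + xs W χ) ^ 2 := by
  have h1 : ∑ g : G, m ≤ ∑ g : G, (ps W χ g).re := sum_le_sum fun g _ => h g
  rw [← Complex.re_sum, sum_ps hχ, Complex.ofReal_re, sum_const, card_univ, ← Nat.card_eq_fintype_card,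
    nsmul_eq_mul, mul_div_assoc] at h1
  have h2 := le_of_mul_le_mul_left h1 (by exact_mod_cast Nat.card_pos)
  rwa [le_div_iff₀ (dg_pos hχ)] at h2

theorem ps_eq (hχ : IsIrrCharacter G χ) {W K : Subgroup G} (hn : W ≤ normalizer (K : Set G)) {k : G}
    (hk : k ∈ K) (hK : ∀ c ∈ W, c ≠ 1 → ∀ y ∈ K, χ (c * y) = χ c) :
    ps W χ k = ∑ b : W, χ ((b : G)⁻¹ * k * b * k⁻¹) + ((Nat.card W * xs W χ : ℝ) : ℂ) := by
  have h : ∀ b : W, ∑ a : W, χ (a * (k * b * k⁻¹)) = χ ((b : G)⁻¹ * k * b * k⁻¹) + (xs W χ : ℂ) := fun b => by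
    rw [xs_eq hχ, ← Equiv.sum_comp (Equiv.mulRight b⁻¹), ← add_sum_erase _ _ (mem_univ 1)]
    congr 1
    · simp [mul_assoc]
    · refine sum_congr rfl fun c hc => ?_
      rw [← hK c c.2 (fun h => (mem_erase.1 hc).1 (Subtype.ext h)) ((b : G)⁻¹ * k * b * k⁻¹)
        (mul_mem (by simpa using (mem_normalizer_iff.1 (hn (inv_mem b.2)) k).1 hk) (inv_mem hk))]
      simp [mul_assoc]
  rw [ps, sum_comm, sum_congr rfl fun b _ => h b, sum_add_distrib, sum_const, card_univ,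
    ← Nat.card_eq_fintype_card, nsmul_eq_mul]
  push_cast
  rfl

/-- The positivity bound. -/
theorem ps_ge (hχ : IsIrrCharacter G χ) {W K : Subgroup G} (hn : W ≤ normalizer (K : Set G)) {k : G}
    (hk : k ∈ K) (hK : ∀ c ∈ W, c ≠ 1 → ∀ y ∈ K, χ (c * y) = χ c) :
    (Nat.card W : ℝ) ^ 2 * xs W χ ≤ ((Nat.card W : ℝ) - 1) * (ps W χ k).re := by
  set u : W → G := fun a => a * k⁻¹ * (a : G)⁻¹ with hu
  have huK : ∀ a, u a ∈ K := fun a => (mem_normalizer_iff.1 (hn a.2) _).1 (inv_mem hk)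
  set R := (∑ b : W, χ ((b : G)⁻¹ * k * b * k⁻¹)).re with hR
  have h1 : (bf χ u 1).re = Nat.card W * R := by
    have h : ∀ a : W, ∑ b : W, χ ((u a)⁻¹ * 1 * u b) = ∑ b : W, χ ((b : G)⁻¹ * k * b * k⁻¹) := fun a => by
      refine Fintype.sum_equiv (Equiv.mulLeft a⁻¹) _ _ fun b => ?_
      rw [← cls' hχ (b : G)⁻¹]
      simp [hu, mul_assoc]
    rw [bf, sum_congr rfl fun a _ => h a, sum_const, card_univ, ← Nat.card_eq_fintype_card, nsmul_eq_mul,
      ← Complex.ofReal_natCast, Complex.re_ofReal_mul]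
  have h2 : ∀ c ∈ (univ : Finset W).erase 1, (Nat.card W : ℝ) * (χ c).re ≤ R := fun c hc => by
    have h := bf_le hχ u c
    have h3 : ∀ a b : W, χ ((u a)⁻¹ * c * u b) = χ c := fun a b => by
      rw [← hK c c.2 (fun h => (mem_erase.1 hc).1 (Subtype.ext h)) ((c : G)⁻¹ * (u a)⁻¹ * c * u b)
        (mul_mem (by simpa using (mem_normalizer_iff.1 (hn (inv_mem c.2)) _).1 (inv_mem (huK a))) (huK b))]
      simp [mul_assoc]
    rw [h1, bf] at h
    simp only [h3, sum_const, card_univ, nsmul_eq_mul, ← Nat.card_eq_fintype_card, ← Complex.ofReal_natCast,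
      Complex.re_ofReal_mul] at h
    exact le_of_mul_le_mul_left h (by exact_mod_cast Nat.card_pos)
  have h4 := sum_le_sum h2
  rw [← mul_sum, sum_const, nsmul_eq_mul, card_erase] at h4
  rw [ps_eq hχ hn hk hK, Complex.add_re, Complex.ofReal_re, ← hR]
  change (Nat.card W : ℝ) * xs W χ ≤ _ at h4
  nlinarith

/-- Multiplicativity of `χ / χ(1)` on `W` forces `W` to act by scalars. -/
theorem comm_mem_ker (hχ : IsIrrCharacter G χ) {a b : G} (ha : χ a ≠ 0)
    (h1 : ∀ g, χ (a * (g * b * g⁻¹)) = χ (a * b))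
    (h2 : ∀ g, χ (a * b * (g * b⁻¹ * g⁻¹)) = χ a) (g : G) : b * g * b⁻¹ * g⁻¹ ∈ charKer χ := by
  have hG : (Nat.card G : ℂ) ≠ 0 := by exact_mod_cast Nat.card_pos.ne'
  have hd := schurAvg_irr_one_ne_zero hχ
  have e1 := schurAvg_sum_char_conj_mul hχ b a
  have e2 := schurAvg_sum_char_conj_mul hχ b⁻¹ (a * b)
  rw [sum_congr rfl fun g _ => (cls hχ _ _).trans (h1 g)] at e1
  rw [sum_congr rfl fun g _ => (cls hχ _ _).trans (h2 g)] at e2
  simp only [sum_const, card_univ, nsmul_eq_mul, ← Nat.card_eq_fintype_card] at e1 e2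
  have e3 : χ b * χ b⁻¹ = χ 1 * χ 1 := by
    field_simp at e1 e2
    refine mul_left_cancel₀ ha ?_
    linear_combination (-χ b⁻¹) * e1 - χ 1 * e2
  obtain ⟨n, ρ, hirr, rfl⟩ := hχ
  have e4 : ‖ρ.character b‖ = (Module.finrank ℂ (Fin n → ℂ) : ℝ) := by
    rw [char_inv, Complex.mul_conj, Representation.char_one, ← Complex.ofReal_natCast, ← Complex.ofReal_mul,
      Complex.ofReal_inj, Complex.normSq_eq_norm_sq, sq] at e3
    exact (mul_self_inj (norm_nonneg _) (Nat.cast_nonneg _)).1 e3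
  obtain ⟨ω, hω⟩ := (norm_char_eq_iff ρ b).1 e4
  rw [charKer_character, MonoidHom.mem_ker]
  have e5 : ρ (b * g) = ρ (g * b) := by
    rw [map_mul, map_mul, hω]
    ext v
    simp
  rw [show b * g * b⁻¹ * g⁻¹ = b * g * (g * b)⁻¹ by group, map_mul, e5, ← map_mul, mul_inv_cancel, map_one]

end CL.Avg
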