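/-
Extremely closed subgroups and Flavell's triples: elementary results.
-/
import Cfsg.Agent.Even.Isolated2
import Cfsg.Agent.Grp.MinNormal

set_option autoImplicit false
open Cfsg
open scoped Pointwise

namespace CL.Even

variable {G : Type*} [Group G]

theorem mem_normalizer_of_conj_smul_le [Finite G] {H : Subgroup G} {g : G}
    (h : MulAut.conj g • H ≤ H) : g ∈ Subgroup.normalizer (H : Set G) :=
  (CL.Grp.conj_smul_eq_self_iff g H).mp
    (Subgroup.eq_of_le_of_card_ge h (CL.Grp.card_conj_smul g H).ge)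

theorem IsExtremelyClosed.inf_eq {H : Subgroup G} (h : IsExtremelyClosed H) (g : G) :
    (H ⊔ MulAut.conj g • H) ⊓ Subgroup.normalizer (H : Set G) = H := h g

theorem IsExtremelyClosed.mem_of_conj {H : Subgroup G} (h : IsExtremelyClosed H) {x g : G}
    (hx : x ∈ H) (hg : g * x * g⁻¹ ∈ Subgroup.normalizer (H : Set G)) : g * x * g⁻¹ ∈ H :=
  (IsExtremelyClosed.inf_eq h g).le ⟨Subgroup.mem_sup_right (CL.Grp.conj_mem_conj_smul g hx), hg⟩

theorem IsExtremelyClosed.mem_normalizer_of_isPGroup [Finite G] {p : ℕ} [Fact p.Prime]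
    {H : Subgroup G} (h : IsExtremelyClosed H) {g : G}
    (hp : IsPGroup p (H ⊔ MulAut.conj g • H : Subgroup G)) :
    g ∈ Subgroup.normalizer (H : Set G) := by
  apply mem_normalizer_of_conj_smul_le
  by_contra hn
  have hlt : H < H ⊔ MulAut.conj g • H := left_lt_sup.mpr hn
  exact (CL.Grp.lt_inf_normalizer_of_isPGroup hp hlt).ne' (IsExtremelyClosed.inf_eq h g)

theorem IsExtremelyClosed.normalizer_le [Finite G] {p : ℕ} [Fact p.Prime] {H Q : Subgroup G}
    (h : IsExtremelyClosed H) (hQ : IsPGroup p Q) (hHQ : H ≤ Q) :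
    Subgroup.normalizer (Q : Set G) ≤ Subgroup.normalizer (H : Set G) := fun _ hg =>
  IsExtremelyClosed.mem_normalizer_of_isPGroup h
    (hQ.to_le (sup_le hHQ (CL.Grp.conj_smul_le_of_mem_normalizer hHQ hg)))

theorem IsExtremelyClosed.isSylowIn_pair [Finite G] {p : ℕ} [Fact p.Prime] {H : Subgroup G}
    (h : IsExtremelyClosed H) (hp : IsPGroup p H) (g : G) :
    CL.Grp.IsSylowIn p H (H ⊔ MulAut.conj g • H) :=
  CL.Grp.isSylowIn_of_maximal le_sup_left hp fun U hU hHU hUT =>
    le_antisymm ((le_inf hUT (Subgroup.le_normalizer.trans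
      (IsExtremelyClosed.normalizer_le h hU hHU))).trans (IsExtremelyClosed.inf_eq h g).le) hHU

theorem IsExtremelyClosed.hasNormalPComplement_pair [Finite G] {p : ℕ} [Fact p.Prime]
    {H : Subgroup G} (h : IsExtremelyClosed H) (hp : IsPGroup p H) (hc : IsMulCommutative H)
    (g : G) : HasNormalPComplement p (H ⊔ MulAut.conj g • H : Subgroup G) := by
  have hS := IsExtremelyClosed.isSylowIn_pair h hp g
  refine CL.Grp.hasNormalPComplement_of_normalizer_le_centralizer hS.toSylow fun x hx y hy => ?_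
  have h1 : x ∈ Subgroup.normalizer ((H.subgroupOf (H ⊔ MulAut.conj g • H) : Subgroup _) :
    Set (H ⊔ MulAut.conj g • H : Subgroup G)) := hx
  rw [← Subgroup.subgroupOf_normalizer_eq le_sup_left] at h1
  have h2 : (x : G) ∈ H := (IsExtremelyClosed.inf_eq h g).le ⟨x.2, h1⟩
  have h3 := congrArg Subtype.val (hc.is_comm.comm ⟨y, hy⟩ ⟨x, h2⟩)
  exact Subtype.ext h3

/-- Flavell's theorem on triples `H < M < G` of maximal subgroups. -/
theorem normalClosure_inf_eq_of_triple [Finite G] {H M : Subgroup G} (hHM : H ≤ M)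
    (hcl : ∀ g : G, (H ⊔ MulAut.conj g • H) ⊓ M = H)
    (hmaxH : ∀ K : Subgroup G, H < K → K ≤ M → K = M) (hmaxM : IsCoatom M) :
    Subgroup.normalClosure (H : Set G) ⊓ M = H := by
  have hle : ∀ g : G, MulAut.conj g • H ≤ M → g ∈ Subgroup.normalizer (H : Set G) := fun g hg =>
    mem_normalizer_of_conj_smul_le ((le_inf le_sup_right hg).trans (hcl g).le)
  have hMN : M ≤ Subgroup.normalizer (H : Set G) := fun g hg =>
    hle g (CL.Grp.conj_smul_le_of_mem hHM hg)
  have key : ∀ T : Subgroup G, T.Normal → H ≤ T → T ⊓ M = H →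
      Subgroup.normalClosure (H : Set G) ⊓ M = H := fun T _ h1 h2 =>
    le_antisymm ((inf_le_inf_right M (Subgroup.normalClosure_le_normal h1)).trans h2.le)
      (le_inf Subgroup.le_normalClosure hHM)
  rcases hmaxM.le_iff.mp hMN with hN | hN
  · exact key H (Subgroup.normalizer_eq_top_iff.mp hN) le_rfl (inf_eq_left.mpr hHM)
  by_cases hFW : ∀ x : G, x ∉ M → ∀ h ∈ M, x * h * x⁻¹ ∈ M → h ∈ H
  · obtain ⟨N, hNn, -, h1, -⟩ := CL.Char.frobenius_wielandt hHM
      (fun h hh m hm => (Subgroup.mem_normalizer_iff.mp (hMN hh) m).mp hm) hFW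
    exact key N hNn (h1 ▸ inf_le_left) h1
  push Not at hFW
  obtain ⟨g, hg, x, hx, hgx, hxH⟩ := hFW
  refine key (H ⊔ MulAut.conj g⁻¹ • H) ?_ le_sup_left (hcl _)
  have h1 : x ∈ Subgroup.normalizer ((H ⊔ MulAut.conj g⁻¹ • H : Subgroup G) : Set G) := by
    refine Subgroup.normalizer_inf_normalizer_le_normalizer_sup _ _ ⟨hMN hx, ?_⟩
    change x ∈ Subgroup.normalizer ((MulAut.conj g⁻¹ • H : Subgroup G) : Set G)
    rw [CL.Grp.normalizer_conj_smul, CL.Grp.mem_conj_smul_iff, inv_inv]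
    exact hMN hgx
  have h2 : M ≤ Subgroup.normalizer ((H ⊔ MulAut.conj g⁻¹ • H : Subgroup G) : Set G) := by
    rw [← hmaxH (H ⊔ Subgroup.zpowers x) (left_lt_sup.mpr fun h => hxH (Subgroup.zpowers_le.mp h))
      (sup_le hHM (Subgroup.zpowers_le.mpr hx))]
    exact sup_le (le_sup_left.trans Subgroup.le_normalizer) (Subgroup.zpowers_le.mpr h1)
  rcases hmaxM.le_iff.mp h2 with h3 | h3
  · exact Subgroup.normalizer_eq_top_iff.mp h3
  · refine absurd ?_ hg
    rw [← inv_mem_iff, ← hN]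
    exact hle _ (le_sup_right.trans (h3 ▸ Subgroup.le_normalizer))

end CL.Even
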