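import Cfsg.Agent.Even.AvgSyl
import Cfsg.Agent.Even.ExtClosed
import Cfsg.Agent.Char.GlaubSolv
import Cfsg.Agent.S4447

/-!
# Extremely closed abelian `p`-subgroups
-/

set_option autoImplicit false
set_option linter.unusedSectionVars false

open scoped Pointwise commutatorElement Classical
open Cfsg CL.Char CL.Even CL.Grp CL.Loc Subgroup

namespace CL.Avg

universe u

variable {G : Type u} [Group G] [Finite G] {p : ℕ} [hp : Fact p.Prime]

theorem inv_irr_iff {H K : Subgroup G} (hn : H ≤ 𝒩(K)) (hs : Group.IsSolvable H)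
    (hc : (Nat.card H).Coprime (Nat.card K)) :
    (∀ θ : IrrCharacter K, (∀ s ∈ H, ∀ g g' : K, (g' : G) = s * g * s⁻¹ → (θ : K → ℂ) g' = (θ : K → ℂ) g) →
      θ = irrOne K) ↔ K ⊓ 𝒞(H) = ⊥ := by
  have hnorm : ∀ s ∈ H, ∀ g ∈ K, s * g * s⁻¹ ∈ K := fun s hs g hg => conj_mem (hn hs) hg
  have h1 := gl_card_irr_solvable hc (glConjHom hnorm) (inclusion (inf_le_left : K ⊓ 𝒞(H) ≤ K))
    (inclusion_injective _) (glConjHom_range_inclusion hnorm rfl _)
  constructor
  · intro h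
    by_contra hne
    obtain ⟨x, hx⟩ := ne_bot_iff_exists_ne_one.1 hne
    obtain ⟨χ, hχ, hk⟩ := exists_irr_not_mem_charKer hx
    have h2 : Subsingleton (IrrCharacter (K ⊓ 𝒞(H) : Subgroup G)) := by
      rw [← Finite.card_le_one_iff_subsingleton, ← h1, Finite.card_le_one_iff_subsingleton]
      exact ⟨fun a b => Subtype.ext ((h _ ((glConjHom_inv_iff hnorm _).1 a.2)).trans
        (h _ ((glConjHom_inv_iff hnorm _).1 b.2)).symm)⟩
    rw [show χ = fun _ => 1 from congrArg Subtype.val (h2.elim ⟨χ, hχ⟩ (irrOne _))] at hk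
    exact hk fun _ => rfl
  · intro h θ hθ
    have h2 : Subsingleton (K ⊓ 𝒞(H) : Subgroup G) := by rw [h]; infer_instance
    have h3 : Nat.card (IrrCharacter (K ⊓ 𝒞(H) : Subgroup G)) ≤ 1 := by
      rw [card_irr_eq_card_conjClasses]
      exact (Nat.card_le_card_of_surjective _ ConjClasses.mk_surjective).trans
        (Finite.card_le_one_iff_subsingleton.2 h2)
    rw [← h1, Finite.card_le_one_iff_subsingleton] at h3
    exact congrArg Subtype.val (h3.elim ⟨θ, (glConjHom_inv_iff hnorm _).2 hθ⟩ ⟨irrOne K, fun _ _ => rfl⟩)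

theorem apply_eq_of_fpf {H C D : Subgroup G} (hn : H ≤ 𝒩(C)) (hn' : H ≤ 𝒩(D)) (hD : D ≤ C) (hCD : C ≤ 𝒩(D))
    (hs : Group.IsSolvable H) (hc : (Nat.card H).Coprime (Nat.card C)) (h : D ⊓ 𝒞(H) = ⊥) (β : IrrCharacter C)
    (hβ : ∀ s ∈ H, ∀ g g' : C, (g' : G) = s * g * s⁻¹ → (β : C → ℂ) g' = (β : C → ℂ) g) {z : C}
    (hz : (z : G) ∈ D) : (β : C → ℂ) z = (β : C → ℂ) 1 := by
  have := Fintype.ofFinite G
  have hN : (D.subgroupOf C).Normal := (normal_subgroupOf_iff_le_normalizer hD).2 hCD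
  obtain ⟨θ, h1, h2⟩ := Cfsg.Agent.S4447.result C H D (fun s hs g hg => conj_mem (hn hs) hg) hD
    (fun s hs g hg => conj_mem (hn' hs) hg) (hc.symm.coprime_dvd_left (relIndex_dvd_card D C)) (Or.inl hs) β hβ
  rw [(inv_irr_iff hn' hs (hc.coprime_dvd_right (card_dvd_of_le hD))).2 h θ h2, coe_irrOne,
    classInner_one_right] at h1
  rcases gl_avg_irr (inclusion hD) (inclusion_injective hD) (by rwa [inclusion_range]) β.2 with h3 | h3
  · rw [← congrFun h3 z, ← congrFun h3 1]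
    congr 1
    exact Fintype.sum_equiv (Equiv.mulRight (⟨z, hz⟩ : D)) _ _ fun g => by rw [mul_one]; rfl
  · have h4 := congrFun h3 1
    simp only [mul_one] at h4
    exact (h1 h4).elim

theorem central_lift {N : Subgroup G} [N.Normal] (hN : IsPGroup p N) (hc : ∀ n ∈ N, ∀ g, g * n = n * g) :
    (pPrimeCore p (G ⧸ N)).comap (QuotientGroup.mk' N) ≤ N ⊔ pPrimeCore p G := by
  set S := (pPrimeCore p (G ⧸ N)).comap (QuotientGroup.mk' N)
  have h1 : (N.relIndex S).Coprime p := by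
    have h2 := relIndex_ker S (QuotientGroup.mk' N)
    rw [QuotientGroup.ker_mk', map_comap_eq_self_of_surjective (QuotientGroup.mk'_surjective N)] at h2
    rw [h2]
    exact pPrimeCore_coprime p _
  obtain ⟨k, hk⟩ := hN.exists_card_eq
  obtain ⟨Y, -, h3, -, h4⟩ := exists_complement_in (N := N) (S := S)
    (fun n hn => by rw [mem_comap, QuotientGroup.mk'_apply, (QuotientGroup.eq_one_iff n).2 hn]; exact one_mem _)
    le_normalizer_of_normal (hk ▸ h1.symm.pow_left k)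
  have h5 : pResidualOf p S = Y := le_antisymm (h3 ▸ res_sup_le_of_isPGroup hN fun n hn =>
    cent_le_norm _ (mem_centralizer_iff.2 fun g _ => hc n hn g)) fun y hy =>
      mem_res (h3 ▸ mem_sup_right hy) ((h4 ▸ h1).coprime_dvd_left (orderOf_dvd_natCard Y hy))
  have : Y.Normal := h5 ▸ normalizer_eq_top_iff.1 (top_le_iff.1 (normalizer_eq_top S ▸ norm_le_norm_res S))
  rw [← h3]
  exact sup_le_sup_left (le_pPrimeCore (h4 ▸ h1)) N

/-- Every conjugate of `H` lies in `H K` with `H` fixed point free on the `p'`-group `K`. -/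
def Fp {G : Type*} [Group G] (p : ℕ) (H : Subgroup G) : Prop :=
  ∀ g : G, ∃ K : Subgroup G, ¬ p ∣ Nat.card K ∧ H ≤ 𝒩(K) ∧ (∀ w ∈ H, g * w * g⁻¹ ∈ H ⊔ K) ∧ K ⊓ 𝒞(H) = ⊥

theorem Fp.subgroupOf {H : Subgroup G} (h : Fp p H) {L : Subgroup G} (hL : H ≤ L) : Fp p (H.subgroupOf L) :=
  fun g => by
    obtain ⟨K, hK, hn, hg, hc⟩ := h g
    exact ⟨K.subgroupOf L, not_dvd_subgroupOf hK L, norm_subgroupOf hn L, fun w hw => sup_subgroupOf hn hL (hg w hw),
      eq_bot_iff.2 fun y hy => Subtype.ext (mem_bot.1 (hc.le ⟨hy.1, mem_centralizer_iff.2 fun a ha =>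
        congrArg Subtype.val (mem_centralizer_iff.1 hy.2 ⟨a, hL ha⟩ ha)⟩))⟩

theorem Fp.quot {H : Subgroup G} (h : Fp p H) {N : Subgroup G} [N.Normal] (hN : IsPGroup p N) :
    Fp p (H.map (QuotientGroup.mk' N)) := fun g => by
  obtain ⟨g, rfl⟩ := QuotientGroup.mk'_surjective N g
  obtain ⟨K, hK, hn, hg, hc⟩ := h g
  refine ⟨K.map (QuotientGroup.mk' N), fun hd => hK (hd.trans (card_map_dvd K _)),
    (map_mono hn).trans (le_normalizer_map _), ?_, eq_bot_iff.2 ?_⟩
  · rintro _ ⟨w, hw, rfl⟩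
    rw [← Subgroup.map_sup, ← map_inv, ← map_mul, ← map_mul]
    exact mem_map_of_mem _ (hg w hw)
  · rintro _ ⟨⟨k, hk, rfl⟩, h1⟩
    rw [mem_bot.1 (hc.le ⟨hk, mem_centralizer_iff.2 fun a ha => ?_⟩), map_one]
    · exact one_mem _
    refine commutatorElement_eq_one_iff_mul_comm.1 (Even.eq_one_of_coprime_of_mem hN
      (cop_of_mem hK (mul_mem (conj_mem (hn ha) hk) (inv_mem hk))) ?_)
    rw [← QuotientGroup.eq_one_iff, ← QuotientGroup.mk'_apply, map_commutatorElement,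
      commutatorElement_eq_one_iff_mul_comm]
    exact mem_centralizer_iff.1 h1 _ (mem_map_of_mem _ ha)

theorem cop_card {H K : Subgroup G} (hH : IsPGroup p H) (hK : ¬ p ∣ Nat.card K) :
    (Nat.card H).Coprime (Nat.card K) := by
  obtain ⟨k, hk⟩ := hH.exists_card_eq
  exact hk ▸ ((Nat.Prime.coprime_iff_not_dvd hp.out).2 hK).pow_left k

theorem solv_of_pgroup {H : Subgroup G} (hH : IsPGroup p H) : Group.IsSolvable H :=
  have := hH.isNilpotent
  inferInstance

theorem closure_top_of {W : Subgroup G} (hW : IsPGroup p W)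
    (h : ∀ g : G, ∃ K : Subgroup G, ¬ p ∣ Nat.card K ∧ W ≤ 𝒩(K) ∧ ∀ w ∈ W, g * w * g⁻¹ ∈ W ⊔ K) :
    normalClosure (W.subgroupOf (normalClosure (W : Set G)) : Set (normalClosure (W : Set G))) = ⊤ :=
  closure_subgroupOf_top fun w hw g => by
    obtain ⟨K, hK, hn, hg⟩ := h g
    obtain ⟨k, hk, hk'⟩ := conj_into (K := K ⊓ normalClosure (W : Set G)) hW
      (fun hd => hK (hd.trans (card_dvd_of_le inf_le_left))) (le_norm_inf hn le_normalizer_of_normal)
      (isPGroup_cj hW g) (by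
        rintro _ ⟨v, hv, rfl⟩
        rw [← inf_sup_eq_of_le_norm (Or.inl hn) le_normalClosure]
        exact ⟨hg v hv, normalClosure_normal.conj_mem _ (le_normalClosure hv) g⟩)
    exact ⟨k, hk.2, hk' _ (conj_mem_cj g hw)⟩

theorem Fp.main (hp2 : p ≠ 2) (n : ℕ) : ∀ (G : Type u) [Group G] [Finite G], Nat.card G = n → ∀ H : Subgroup G,
    IsPGroup p H → (∀ a ∈ H, ∀ b ∈ H, a * b = b * a) → Fp p H →
    normalClosure (H : Set G) ≤ H ⊔ pPrimeCore p G ∧ normalClosure (H : Set G) ⊓ 𝒞(H) ≤ H := by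
  induction n using Nat.strong_induction_on with
  | _ n ih =>
  intro G _ _ hn H hH hab h
  have hsub : ∀ L : Subgroup G, L ≠ ⊤ → H ≤ L →
      (normalClosure (H.subgroupOf L : Set L)).map L.subtype ≤ H ⊔ pPrimeCoreOf p L ∧
      (normalClosure (H.subgroupOf L : Set L)).map L.subtype ⊓ 𝒞(H) ≤ H := fun L hL hle => by
    obtain ⟨h1, h2⟩ := ih _ (hn ▸ card_lt_of_ne_top hL) L rfl (H.subgroupOf L) hH.comap_subtype
      (fun a ha b hb => Subtype.ext (hab a ha b hb)) (h.subgroupOf hle)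
    refine ⟨?_, ?_⟩
    · rintro _ ⟨x, hx, rfl⟩
      exact sup_coreOf (h1 hx)
    · rintro _ ⟨⟨x, hx, rfl⟩, hc⟩
      exact h2 ⟨hx, mem_centralizer_iff.2 fun a ha => Subtype.ext (mem_centralizer_iff.1 hc a ha)⟩
  by_cases hz : ∃ c ∈ H, c ≠ 1 ∧ centralizer {c} = ⊤
  · obtain ⟨c, hc, h1, e⟩ := hz
    have h2 : ∀ x ∈ zpowers c, ∀ g, g * x = x * g := fun x hx g =>
      (comm_of_mem (by rw [CL.Blk.centralizer_zpowers_eq, e]; trivial) hx).symm
    have : (zpowers c).Normal := ⟨fun x hx g => by rwa [h2 x hx, mul_inv_cancel_right]⟩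
    have hN : zpowers c ≤ H := zpowers_le.2 hc
    obtain ⟨a1, a2⟩ := ih _ (hn ▸ card_quotient_lt (by simpa using h1)) (G ⧸ zpowers c) rfl
      (H.map (QuotientGroup.mk' _)) (hH.map _) (by
        rintro _ ⟨a, ha, rfl⟩ _ ⟨b, hb, rfl⟩
        rw [← map_mul, ← map_mul, hab a ha b hb]) (h.quot (hH.to_le hN))
    have e1 : (H.map (QuotientGroup.mk' (zpowers c))).comap (QuotientGroup.mk' _) = H := by
      rw [comap_map_eq, QuotientGroup.ker_mk', sup_eq_left.2 hN]
    have hle : normalClosure (H : Set G) ≤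
        (normalClosure (H.map (QuotientGroup.mk' (zpowers c)) : Set (G ⧸ zpowers c))).comap (QuotientGroup.mk' _) :=
      normalClosure_le_normal fun x hx => subset_normalClosure (mem_map_of_mem _ hx)
    refine ⟨hle.trans ((comap_mono a1).trans ?_), fun x hx => e1.le (a2 ⟨hle hx.1, mem_centralizer_iff.2 ?_⟩)⟩
    · rw [← comap_sup_eq _ _ _ (QuotientGroup.mk'_surjective _), e1]
      exact sup_le le_sup_left ((central_lift (hH.to_le hN) h2).trans (sup_le_sup_right hN _))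
    · rintro _ ⟨a, ha, rfl⟩
      rw [← map_mul, ← map_mul, mem_centralizer_iff.1 hx.2 a ha]
  push Not at hz
  have hHc : ∀ c ∈ H, H ≤ centralizer {c} := fun c hc w hw => mem_centralizer_singleton_iff.2 (hab w hw c hc)
  have hKc : ∀ K : Subgroup G, ¬ p ∣ Nat.card K → H ≤ 𝒩(K) → K ⊓ 𝒞(H) = ⊥ → ∀ c ∈ H, K ⊓ centralizer {c} ≤
      (normalClosure (H.subgroupOf (centralizer {c}) : Set (centralizer ({c} : Set G)))).map
        (centralizer ({c} : Set G)).subtype := fun K hK hn hc c hcH => by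
    have h1 := commutator_sup_centralizer_eq (le_norm_inf hn (le_norm_of_le (hHc c hcH)))
      ((cop_card hH hK).coprime_dvd_right (card_dvd_of_le inf_le_left)) (Or.inl (solv_of_pgroup hH))
    rw [← h1, inf_right_comm, hc, bot_inf_eq, sup_bot_eq, commutator_le]
    intro y hy w hw
    have h2 : (⟨w, hHc c hcH hw⟩ : centralizer ({c} : Set G)) ∈
      normalClosure (H.subgroupOf (centralizer {c}) : Set (centralizer ({c} : Set G))) := subset_normalClosure hw
    exact ⟨_, mul_mem (normalClosure_normal.conj_mem _ h2 ⟨y, hy.2⟩) (inv_mem h2), rfl⟩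
  have hyp : Hyp p H := fun g => by
    obtain ⟨K, hK, hn, hg, hc⟩ := h g
    exact ⟨K, hK, hn, hg, fun c hcH h1 y hy => res_sup_le_of_isPGroup hH
      ((hHc c hcH).trans (le_normalizer_pPrimeCoreOf p _))
      (mem_res ((hsub _ (hz c hcH h1) (hHc c hcH)).1 (hKc K hK hn hc c hcH hy)) (cop_of_mem hK hy.1))⟩
  have hA := hyp.main hH hab
  refine ⟨hA, ?_⟩
  by_cases htop : normalClosure (H : Set G) = ⊤
  swap
  · have h1 := (hsub _ htop le_normalClosure).2
    rwa [closure_top_of hH fun g => (h g).imp fun K hK => ⟨hK.1, hK.2.1, hK.2.2.1⟩, ← MonoidHom.range_eq_map,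
      range_subtype] at h1
  set O := pPrimeCore p G
  have hO : ¬ p ∣ Nat.card O := not_dvd_card_pPrimeCore p G
  have hnO : H ≤ 𝒩(O) := le_normalizer_of_normal
  rw [htop, top_le_iff] at hA
  suffices hC : O ⊓ 𝒞(H) = ⊥ by
    intro x hx
    obtain ⟨a, ha, o, ho, rfl⟩ := (mem_sup_nr hnO).1 (hA.ge (mem_top x))
    rwa [mem_bot.1 (hC.le ⟨ho, (mul_mem_cancel_left (mem_centralizer_iff.2 fun b hb => hab b hb a ha)).1 hx.2⟩),
      mul_one]
  by_cases hH1 : H = ⊥
  · rw [hH1, normalClosure_eq_self] at htop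
    exact le_bot_iff.1 (htop ▸ le_top)
  have h3 : 3 ≤ Nat.card H := by
    obtain ⟨k, hk⟩ := hH.exists_card_eq
    have h1 := Nat.le_of_dvd Nat.card_pos (hk ▸ dvd_pow_self p fun e => hH1 (by rwa [e, pow_zero, card_eq_one] at hk))
    have := hp.out.two_le
    omega
  refine (inv_irr_iff hnO (solv_of_pgroup hH) (cop_card hH hO)).1 fun θ hθ => ?_
  have hres : ∀ y : G, (orderOf y).Coprime p → y ∈ O := fun y hy =>
    res_sup_le_of_isPGroup hH hnO (mem_res (hA.ge (mem_top y)) hy)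
  obtain ⟨ψ, hψ, hext, hdet⟩ := gl_exists_ext O.subtype O.subtype_injective (by rw [range_subtype]; infer_instance)
    (by
      rw [range_subtype, ← relIndex_top_right, ← hA, relIndex_sup_right]
      exact (cop_card hH hO).coprime_dvd_left (relIndex_dvd_card O H)) θ.2 (fun x g g' e => by
      obtain ⟨o, ho, a, ha, rfl⟩ := (mem_sup_nl hnO).1 ((sup_comm H O ▸ hA).ge (mem_top x))
      rw [← hθ a ha g ⟨a * g * a⁻¹, conj_mem (hnO ha) g.2⟩ rfl]
      exact θ.2.isClassFunction.apply_eq_of_isConj (isConj_iff.2 ⟨⟨o, ho⟩,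
        Subtype.ext (by simpa [mul_assoc] using e.symm)⟩).symm)
  have hnorm : ∀ s ∈ H, ∀ g ∈ O, s * g * s⁻¹ ∈ O := fun s hs g hg => conj_mem (hnO hs) hg
  have key : ∀ c ∈ H, ψ c ≠ 0 ∧ (c ≠ 1 → ∀ K : Subgroup G, ¬ p ∣ Nat.card K → H ≤ 𝒩(K) → K ⊓ 𝒞(H) = ⊥ →
      ∀ y ∈ K, ψ (c * y) = ψ c) := fun c hc => by
    have := Fintype.ofFinite G
    obtain ⟨β, ε, hε, hβ⟩ := (glCyc_ambient hnorm (cop_card hH hO).symm ⟨c, hc⟩ rfl inf_le_left).exists_sign hψ
      (by simpa only [hext] using θ.2) (gl_detChar_eq_one (((cop_card hH hO).symm.coprime_dvd_left hdet).coprime_dvd_right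
        (orderOf_dvd_natCard H hc)))
    have hε' : (ε : ℂ) ≠ 0 := by rcases hε with rfl | rfl <;> simp
    have e1 : ψ c = ε * β.1 1 := by simpa using hβ 1
    refine ⟨e1 ▸ mul_ne_zero hε' (schurAvg_irr_one_ne_zero β.2), fun h1 K hK hn hKH y hy => ?_⟩
    obtain ⟨z, hz', hcz, hj⟩ := coset_conj hK (ord_pow hH hc) (hn hc) hy
    have hzc : z ∈ centralizer {c} := mem_centralizer_singleton_iff.2 hcz.symm
    have hzO := hres z (cop_of_mem hK hz')
    set D := (normalClosure (H.subgroupOf (centralizer {c}) : Set (centralizer ({c} : Set G)))).map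
        (centralizer ({c} : Set G)).subtype
    have hD : centralizer {c} ≤ 𝒩(D) := fun x hx =>
      le_normalizer_map _ ⟨⟨x, hx⟩, le_normalizer_of_normal (mem_top _), rfl⟩
    rw [hψ.isClassFunction.apply_eq_of_isConj hj, hcz.eq, e1, ← apply_eq_of_fpf (D := O ⊓ D)
      (le_norm_inf hnO (le_norm_of_le (hHc c hc))) (le_norm_inf hnO ((hHc c hc).trans hD))
      (inf_le_inf_left O (map_subtype_le _)) (le_norm_inf le_normalizer_of_normal (inf_le_right.trans hD))
      (solv_of_pgroup hH) ((cop_card hH hO).coprime_dvd_right (card_dvd_of_le inf_le_left))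
      (eq_bot_iff.2 fun x hx => Even.eq_one_of_coprime_of_mem hH (cop_of_mem hO hx.1.1)
        ((hsub _ (hz c hc h1) (hHc c hc)).2 ⟨hx.1.2, hx.2⟩)) β (fun s hs g g' e => mul_left_cancel₀ hε' ?_)
      (z := ⟨z, hzO, hzc⟩) ⟨hzO, hKc K hK hn hKH c hc ⟨hz', hzc⟩⟩]
    · exact hβ ⟨z, hzO, hzc⟩
    · rw [← hβ, ← hβ]
      change ψ ((g' : G) * c) = ψ (g * c)
      rw [← cls' hψ s (g * c), e, ← mul_assoc, mul_assoc _ c, hab c hc _ (inv_mem hs), ← mul_assoc]
  have := Fintype.ofFinite G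
  have hker := fun b hb => forall_comm_mem_ker hψ h3 (fun a ha => (key a ha).1) (b := b) (fun a ha b hb h1 g => by
    obtain ⟨K, hK, hn, hg, hc⟩ := h g
    obtain ⟨k, hk, hk'⟩ := conj_into hH hK hn (isPGroup_cj hH g) (by rintro _ ⟨w, hw, rfl⟩; exact hg w hw)
    have e := hyp.nofusion hH hab htop hb (hk' _ (conj_mem_cj g hb)) (isConj_iff.2 ⟨k * g, by group⟩)
    rw [← (key _ (mul_mem ha hb)).2 h1 K hK hn hc _ (mul_mem (conj_mem' (hn hb) (inv_mem hk)) hk),
      show g * b * g⁻¹ = k⁻¹ * (k * (g * b * g⁻¹) * k⁻¹) * k by group, ← e]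
    group) hb
  have := hψ.charKer_normal
  have hN : (H ⊔ charKer ψ).Normal := ⟨fun x hx g => by
    obtain ⟨a, ha, b, hb, rfl⟩ := (mem_sup_nr le_normalizer_of_normal).1 hx
    rw [show g * (a * b) * g⁻¹ = a * ((a⁻¹ * g * a⁻¹⁻¹ * g⁻¹) * (g * b * g⁻¹)) by group]
    exact mul_mem_sup ha (mul_mem (hker _ (inv_mem ha) g) (Normal.conj_mem inferInstance _ hb g))⟩
  have h4 : ⊤ ≤ H ⊔ charKer ψ := htop ▸ normalClosure_le_normal fun x hx => mem_sup_left hx
  refine Subtype.ext (θ.2.charKer_eq_top_iff.1 (eq_top_iff.2 fun o _ => θ.2.mem_charKer.2 ?_))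
  rw [← hext, ← hext]
  exact hψ.mem_charKer.1 (res_sup_le_of_isPGroup hH le_normalizer_of_normal
    (mem_res (h4 (mem_top _)) (cop_of_mem hO o.2)))

theorem fp_of_ec {H : Subgroup G} (hH : IsPGroup p H) (hab : IsMulCommutative H) (h : IsExtremelyClosed H) :
    Fp p H := fun g => by
  have h1 : ¬ p ∣ Nat.card (pResidualOf p (H ⊔ cj g H)) := by
    rw [← res_def, card_map_of_injective (subtype_injective _)]
    exact hasNormalPComplement_iff_not_dvd_pResidual.1 (IsExtremelyClosed.hasNormalPComplement_pair h hH hab g)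
  refine ⟨_, h1, le_sup_left.trans (self_le_norm_res _), fun w hw => ?_, eq_bot_iff.2 fun x hx =>
    Even.eq_one_of_coprime_of_mem hH (cop_of_mem h1 hx.1) ((h g).le ⟨res_le _ hx.1, cent_le_norm _ hx.2⟩)⟩
  exact (syl_sup_res (IsExtremelyClosed.isSylowIn_pair h hH g)).ge (mem_sup_right (conj_mem_cj g hw))

theorem ec_main (hp2 : p ≠ 2) {H : Subgroup G} (hH : IsPGroup p H) (hab : IsMulCommutative H)
    (h : IsExtremelyClosed H) : normalClosure (H : Set G) ⊓ 𝒩(H) = H ∧ 𝒩(H) ⊔ pPrimeCore p G = ⊤ := by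
  obtain ⟨h1, h2⟩ := Fp.main hp2 _ G rfl H hH
    (fun a ha b hb => congrArg Subtype.val (hab.is_comm.comm (⟨a, ha⟩ : H) ⟨b, hb⟩)) (fp_of_ec hH hab h)
  refine ⟨le_antisymm (fun x hx => ?_) (le_inf le_normalClosure le_normalizer), eq_top_iff.2 fun g _ => ?_⟩
  · obtain ⟨a, ha, o, ho, rfl⟩ := (mem_sup_nr le_normalizer_of_normal).1 (h1 hx.1)
    exact mul_mem ha (h2 ⟨(mul_mem_cancel_left (le_normalClosure ha)).1 hx.1,
      mem_centralizer_of_mem_normalizer_of_disjoint le_normalizer_of_normal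
        (disjoint_iff.2 (inf_pPrimeCore_eq_bot hH)) ho ((mul_mem_cancel_left (le_normalizer ha)).1 hx.2)⟩)
  · obtain ⟨k, hk, hk'⟩ := conj_into hH (not_dvd_card_pPrimeCore p G) le_normalizer_of_normal (isPGroup_cj hH g)
      (by rintro _ ⟨w, hw, rfl⟩; exact h1 (normalClosure_normal.conj_mem _ (le_normalClosure hw) g))
    rw [show g = k⁻¹ * (k * g) by group]
    refine mul_mem (mem_sup_right (inv_mem hk)) (mem_sup_left (mem_norm_of_cj_le ?_))
    rintro _ ⟨w, hw, rfl⟩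
    have := hk' _ (conj_mem_cj g hw)
    simpa [mul_assoc] using this

end CL.Avg
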