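import Cfsg.Agent.Even.AvgT
import Cfsg.Agent.Even.Amb2
import Cfsg.Agent.Grp.AbelIndex
import Cfsg.Agent.Grp.SZConj

/-!
# `p`-solubility is detected by pairs of Sylow subgroups
-/

set_option autoImplicit false
set_option linter.unusedSectionVars false

open scoped Pointwise commutatorElement
open Cfsg CL.Even CL.Grp CL.Loc Subgroup

namespace CL.Avg

universe u

variable {G : Type u} [Group G] [Finite G] {p : ℕ} [hp : Fact p.Prime]

theorem closure_comm {S : Set G} (h : ∀ a ∈ S, ∀ b ∈ S, a * b = b * a) :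
    ∀ a ∈ closure S, ∀ b ∈ closure S, a * b = b * a := by
  have h1 : closure S ≤ centralizer S := (closure_le _).2 fun a ha => mem_centralizer_iff.2 fun b hb => h b hb a ha
  have h2 : closure S ≤ 𝒞(closure S) := (closure_le _).2 fun a ha =>
    mem_centralizer_iff.2 fun b hb => (mem_centralizer_iff.1 (h1 hb) a ha).symm
  exact fun a ha b hb => mem_centralizer_iff.1 (h2 hb) a ha

theorem isPGroup_closure_comm {S : Set G} (h : ∀ a ∈ S, ∀ b ∈ S, a * b = b * a)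
    (h' : ∀ a ∈ S, ∃ k : ℕ, a ^ p ^ k = 1) : IsPGroup p (closure S) := by
  refine isPGroup_iff_forall.2 fun x hx => closure_induction h' ⟨0, by simp⟩ ?_ ?_ hx
  · rintro a b ha hb ⟨k, hk⟩ ⟨l, hl⟩
    refine ⟨k + l, ?_⟩
    rw [Commute.mul_pow (closure_comm h a ha b hb), pow_add, pow_mul, hk, one_pow, mul_comm (p ^ k), pow_mul, hl,
      one_pow, one_mul]
  · rintro a - ⟨k, hk⟩
    exact ⟨k, by rw [inv_pow, hk, inv_one]⟩

theorem core_le_map {P : Subgroup G} (hP : IsSylowIn p P ⊤) (N : Subgroup G) [N.Normal] :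
    pCore p (G ⧸ N) ≤ P.map (QuotientGroup.mk' N) :=
  (syl_map (QuotientGroup.mk' N) hP).le_of_normalized (pCore_isPGroup p _)
    (by rw [map_top_of_surjective _ (QuotientGroup.mk'_surjective N)]; exact le_top) le_normalizer_of_normal

theorem map_mem_cent {G' : Type*} [Group G'] (f : G →* G') {R : Subgroup G'} [R.Normal] (hR : IsPGroup p R)
    {Y : Subgroup G} (hY : ¬ p ∣ Nat.card Y) {u : G} (hu : u ∈ 𝒩(Y)) (hu' : f u ∈ R) : f u ∈ 𝒞(Y.map f) := by
  refine mem_centralizer_iff.2 ?_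
  rintro _ ⟨y, hy, rfl⟩
  refine commutatorElement_eq_one_iff_mul_comm.1 (Even.eq_one_of_coprime_of_mem hR ?_ ?_)
  · rw [← map_commutatorElement]
    refine (cop_of_mem hY (y := ⁅y, u⁆) ?_).coprime_dvd_left (orderOf_map_dvd f _)
    rw [commutatorElement_def, mul_assoc, mul_assoc, ← mul_assoc u]
    exact mul_mem hy (conj_mem hu (inv_mem hy))
  · exact mul_mem (Normal.conj_mem inferInstance _ hu' _) (inv_mem hu')

theorem comm_core (hs : IsPSolvable p G) {P Q : Subgroup G} (hP : IsSylowIn p P ⊤) (hQ : IsSylowIn p Q ⊤)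
    {x y : G} (hx : x ∈ 𝒞(P)) (hy : y ∈ 𝒞(Q)) : ⁅x, y⁆ ∈ pPrimeCore p G := by
  have hc := centralizer_pCore_le_of_isPSolvable (isPSolvable_quotient hs (pPrimeCore p G))
    (pPrimeCore_quotient_pPrimeCore p G)
  have key : ∀ {P : Subgroup G}, IsSylowIn p P ⊤ → ∀ x ∈ 𝒞(P),
      QuotientGroup.mk' (pPrimeCore p G) x ∈ 𝒞(pCore p (G ⧸ pPrimeCore p G)) := fun hP x hx =>
    mem_centralizer_iff.2 fun r hr => by
      obtain ⟨s, hs, rfl⟩ := core_le_map hP _ hr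
      rw [← map_mul, ← map_mul, mem_centralizer_iff.1 hx s hs]
  rw [← QuotientGroup.eq_one_iff, ← QuotientGroup.mk'_apply, map_commutatorElement,
    commutatorElement_eq_one_iff_mul_comm]
  exact mem_centralizer_iff.1 (key hQ y hy) _ (hc (key hP x hx))

theorem le_core_of_norm (hs : IsPSolvable p G) {S Y : Subgroup G} (hS : IsSylowIn p S ⊤) (hY : ¬ p ∣ Nat.card Y)
    (h : S ≤ 𝒩(Y)) : Y ≤ pPrimeCore p G := fun y hy => by
  refine mem_pPrimeCore_of_centralizes hs (cop_of_mem hY hy) (mem_centralizer_iff.2 fun r hr => ?_)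
  obtain ⟨s, hs, rfl⟩ := core_le_map hS _ hr
  exact (mem_centralizer_iff.1 (map_mem_cent _ (pCore_isPGroup p _) hY (h hs) hr) _ ⟨y, hy, rfl⟩).symm

theorem quad_core (hs : IsPSolvable p G) {P Y : Subgroup G} (hP : IsSylowIn p P ⊤) (hY : ¬ p ∣ Nat.card Y)
    {d m : G} (hd : d ∈ P) (h : ∀ r ∈ P, ⁅r, d⁆ ∈ centralizer {d}) (h1 : P ⊓ centralizer {d} ≤ 𝒩(Y))
    (h2 : cj m (P ⊓ centralizer {d}) ≤ 𝒩(Y)) (h3 : ⁅d, m * d * m⁻¹⁆ ∈ Y) :
    ⁅d, m * d * m⁻¹⁆ ∈ pPrimeCore p G := by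
  set f := QuotientGroup.mk' (pPrimeCore p G)
  set R := pCore p (G ⧸ pPrimeCore p G)
  have key : ∀ m : G, cj m (P ⊓ centralizer {d}) ≤ 𝒩(Y) → f (m * d * m⁻¹) ∈ cmod R (R ⊓ 𝒞(Y.map f)) := by
    intro m hm
    refine mem_cmod.2 ⟨le_norm_inf le_normalizer_of_normal (le_norm_cent (le_normalizer_map f))
      ⟨_, hm (conj_mem_cj m ⟨hd, mem_centralizer_singleton_iff.2 rfl⟩), rfl⟩, fun v hv => ?_⟩
    have hv' : ⁅v, f (m * d * m⁻¹)⁆ ∈ R := by
      rw [commutatorElement_def, mul_assoc, mul_assoc, ← mul_assoc (f _)]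
      exact mul_mem hv (Normal.conj_mem inferInstance _ (inv_mem hv) _)
    obtain ⟨r, hr, e⟩ := core_le_map hP _ (Normal.conj_mem' inferInstance v hv (f m))
    have e' : ⁅v, f (m * d * m⁻¹)⁆ = f (m * ⁅r, d⁆ * m⁻¹) := by
      rw [show v = f (m * r * m⁻¹) by rw [map_mul, map_mul, e, map_inv]; group, ← map_commutatorElement,
        conjugate_commutatorElement]
    refine ⟨hv', ?_⟩
    rw [e'] at hv' ⊢
    exact map_mem_cent f (pCore_isPGroup p _) hY (hm (conj_mem_cj m (mem_inf.2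
      ⟨mul_mem (mul_mem (mul_mem hr hd) (inv_mem hr)) (inv_mem hd), h r hr⟩))) hv'
  have k1 := key 1 (by rwa [cj_one])
  have k2 := key m h2
  rw [one_mul, inv_one, mul_one] at k1
  have k3 : f ⁅d, m * d * m⁻¹⁆ ∈ cmod R (R ⊓ 𝒞(Y.map f)) := by
    rw [map_commutatorElement]
    exact mul_mem (mul_mem (mul_mem k1 k2) (inv_mem k1)) (inv_mem k2)
  exact mem_pPrimeCore_of_centralizes hs (cop_of_mem hY h3) (mem_cent_of_coprime
    ((pCore_isPGroup p _).to_le inf_le_left) ((cop_of_mem hY h3).coprime_dvd_left (orderOf_map_dvd f _))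
    (mem_cmod.1 k3).2 (mem_centralizer_iff.2 fun t ht => (mem_centralizer_iff.1 ht.2 _ ⟨_, h3, rfl⟩).symm))

theorem mem_sup_core {P : Subgroup G} (hP : IsSylowIn p P ⊤) {d : G} (hd : ∃ k : ℕ, d ^ p ^ k = 1)
    (h : ∀ m, ⁅d, m * d * m⁻¹⁆ ∈ pPrimeCore p G) : d ∈ P ⊔ pPrimeCore p G := by
  set f := QuotientGroup.mk' (pPrimeCore p G)
  have h1 : IsPGroup p (normalClosure {f d}) := by
    refine isPGroup_closure_comm (fun a ha b hb => ?_) fun a ha => ?_
    · obtain ⟨_, rfl, ha⟩ := Group.mem_conjugatesOfSet_iff.1 ha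
      obtain ⟨_, rfl, hb⟩ := Group.mem_conjugatesOfSet_iff.1 hb
      obtain ⟨x, rfl⟩ := isConj_iff.1 ha
      obtain ⟨y, rfl⟩ := isConj_iff.1 hb
      obtain ⟨m, hm⟩ := QuotientGroup.mk'_surjective _ (x⁻¹ * y)
      have h2 := (QuotientGroup.eq_one_iff _).2 (h m)
      rw [← QuotientGroup.mk'_apply, map_commutatorElement, map_mul, map_mul, map_inv, hm] at h2
      rw [← commutatorElement_eq_one_iff_mul_comm,
        show y * f d * y⁻¹ = x * (x⁻¹ * y * f d * (x⁻¹ * y)⁻¹) * x⁻¹ by group, ← conjugate_commutatorElement, h2]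
      group
    · obtain ⟨_, rfl, ha⟩ := Group.mem_conjugatesOfSet_iff.1 ha
      obtain ⟨x, rfl⟩ := isConj_iff.1 ha
      obtain ⟨k, hk⟩ := hd
      exact ⟨k, by rw [conj_pow, ← map_pow, hk]; simp⟩
  have h2 := core_le_map hP _ (le_pCore_of inferInstance h1 (subset_normalClosure rfl))
  rw [← mem_comap, comap_map_eq, QuotientGroup.ker_mk'] at h2
  exact h2

/-! ### Ambient versions -/

theorem syl_sub {P L : Subgroup G} (hP : IsSylowIn p P L) : IsSylowIn p (P.subgroupOf L) ⊤ :=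
  isSylowIn_top_iff.2 ⟨hP.toSylow, hP.coe_toSylow⟩

theorem comm_coreOf {L P Q : Subgroup G} (hs : IsPSolvable p L) (hP : IsSylowIn p P L) (hQ : IsSylowIn p Q L)
    {x y : G} (hxL : x ∈ L) (hyL : y ∈ L) (hx : x ∈ 𝒞(P)) (hy : y ∈ 𝒞(Q)) : ⁅x, y⁆ ∈ pPrimeCoreOf p L :=
  ⟨_, comm_core hs (syl_sub hP) (syl_sub hQ) (x := ⟨x, hxL⟩) (y := ⟨y, hyL⟩)
    (mem_centralizer_iff.2 fun a ha => Subtype.ext (mem_centralizer_iff.1 hx a ha))
    (mem_centralizer_iff.2 fun a ha => Subtype.ext (mem_centralizer_iff.1 hy a ha)), rfl⟩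

theorem le_coreOf_of_norm {L S Y : Subgroup G} (hs : IsPSolvable p L) (hS : IsSylowIn p S L) (hY : ¬ p ∣ Nat.card Y)
    (hYL : Y ≤ L) (h : S ≤ 𝒩(Y)) : Y ≤ pPrimeCoreOf p L := fun y hy =>
  ⟨⟨y, hYL hy⟩, le_core_of_norm hs (syl_sub hS) (not_dvd_subgroupOf hY L) (norm_subgroupOf h L) hy, rfl⟩

theorem not_dvd_coreOf (L : Subgroup G) : ¬ p ∣ Nat.card (pPrimeCoreOf p L) :=
  (Nat.Prime.coprime_iff_not_dvd hp.out).1 (pPrimeCoreOf_coprime p L).symm

theorem sup_coreOf {L P : Subgroup G} {x : L} (h : x ∈ P.subgroupOf L ⊔ pPrimeCore p L) :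
    (x : G) ∈ P ⊔ pPrimeCoreOf p L := by
  obtain ⟨a, ha, b, hb, rfl⟩ := (mem_sup_nr le_normalizer_of_normal).1 h
  exact mul_mem_sup ha ⟨b, hb, rfl⟩

/-! ### The elements central in a Sylow subgroup -/

/-- The elements central in some Sylow `p`-subgroup. -/
def dS (p : ℕ) (G : Type*) [Group G] : Set G := {d | ∃ T : Subgroup G, IsSylowIn p T ⊤ ∧ d ∈ T ∧ d ∈ 𝒞(T)}

/-- The weak closure of the centre. -/
def wc (p : ℕ) (T : Subgroup G) : Subgroup G := closure (dS p G ∩ T)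

/-- Any two Sylow subgroups generate a `p`-soluble group. -/
def H2 (p : ℕ) (G : Type*) [Group G] : Prop :=
  ∀ T T' : Subgroup G, IsSylowIn p T ⊤ → IsSylowIn p T' ⊤ → IsPSolvable p (T ⊔ T' : Subgroup G)

theorem syl_cj_top {T : Subgroup G} (hT : IsSylowIn p T ⊤) (g : G) : IsSylowIn p (cj g T) ⊤ :=
  cj_top g ▸ syl_cj hT g

theorem dS_conj {d : G} (hd : d ∈ dS p G) (g : G) : g * d * g⁻¹ ∈ dS p G := by
  obtain ⟨T, hT, h1, h2⟩ := hd
  exact ⟨cj g T, syl_cj_top hT g, conj_mem_cj g h1, cj_cent g T ▸ conj_mem_cj g h2⟩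

theorem wc_le (T : Subgroup G) : wc p T ≤ T := (closure_le _).2 Set.inter_subset_right

theorem cj_wc_le (g : G) {T T' : Subgroup G} (h : cj g T ≤ T') : cj g (wc p T) ≤ wc p T' := by
  rw [map_le_iff_le_comap]
  exact (closure_le _).2 fun d hd => subset_closure ⟨dS_conj hd.1 g, h (conj_mem_cj g hd.2)⟩

theorem dS_ex {d : G} (hd : d ∈ dS p G) {U : Subgroup G} (hU : IsPGroup p U) (h : U ≤ centralizer {d}) :
    ∃ T, IsSylowIn p T ⊤ ∧ U ≤ T ∧ d ∈ T ∧ d ∈ 𝒞(T) := by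
  obtain ⟨T, hT, h1, h2⟩ := hd
  obtain ⟨g, hg, hle⟩ := syl_conj_le (hT.of_le (K := centralizer {d})
    (fun t ht => mem_centralizer_singleton_iff.2 (comm_of_mem h2 ht)) le_top) hU h
  have e : g⁻¹ * d * g⁻¹⁻¹ = d := by rw [mul_assoc, inv_inv, ← mem_centralizer_singleton_iff.1 hg]; group
  exact ⟨cj g⁻¹ T, syl_cj_top hT _, cj_le_iff.1 hle, e ▸ conj_mem_cj _ h1, cj_cent g⁻¹ T ▸ e ▸ conj_mem_cj _ h2⟩

theorem H2.pair (h : H2 p G) {d d' : G} (hd : d ∈ dS p G) (hd' : d' ∈ dS p G) {U U' : Subgroup G}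
    (hU : IsPGroup p U) (hU' : IsPGroup p U') (h1 : U ≤ centralizer {d}) (h2 : U' ≤ centralizer {d'}) :
    ∃ Y : Subgroup G, ¬ p ∣ Nat.card Y ∧ U ≤ 𝒩(Y) ∧ U' ≤ 𝒩(Y) ∧ ⁅d, d'⁆ ∈ Y := by
  obtain ⟨T, hT, a1, a2, a3⟩ := dS_ex hd hU h1
  obtain ⟨T', hT', b1, b2, b3⟩ := dS_ex hd' hU' h2
  exact ⟨pPrimeCoreOf p (T ⊔ T'), not_dvd_coreOf _, a1.trans (le_sup_left.trans (le_normalizer_pPrimeCoreOf p _)),
    b1.trans (le_sup_right.trans (le_normalizer_pPrimeCoreOf p _)), comm_coreOf (h T T' hT hT')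
      (hT.of_le le_sup_left le_top) (hT'.of_le le_sup_right le_top) (mem_sup_left a2) (mem_sup_right b2) a3 b3⟩

theorem H2.wc_comm (h : H2 p G) {T : Subgroup G} (hT : IsPGroup p T) :
    ∀ a ∈ wc p T, ∀ b ∈ wc p T, a * b = b * a := closure_comm fun a ha b hb => by
  obtain ⟨Y, hY, -, -, h1⟩ := h.pair ha.1 hb.1 IsPGroup.of_bot IsPGroup.of_bot bot_le bot_le
  exact commutatorElement_eq_one_iff_mul_comm.1 (Even.eq_one_of_coprime_of_mem hT (cop_of_mem hY h1)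
    (mul_mem (mul_mem (mul_mem ha.2 hb.2) (inv_mem ha.2)) (inv_mem hb.2)))

theorem H2.wc_le_sup (h : H2 p G) {T T' : Subgroup G} (hT : IsSylowIn p T ⊤) (hT' : IsSylowIn p T' ⊤) :
    wc p T' ≤ wc p T ⊔ pPrimeCoreOf p (T ⊔ T') := by
  refine (closure_le _).2 fun d hd => ?_
  set L := T ⊔ T'
  have hdL : d ∈ L := mem_sup_right hd.2
  have hn : T ≤ 𝒩(pPrimeCoreOf p L) := le_sup_left.trans (le_normalizer_pPrimeCoreOf p _)
  have hdp := isPGroup_iff_forall.1 hT'.isPGroup d hd.2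
  have h1 : d ∈ T ⊔ pPrimeCoreOf p L := by
    refine sup_coreOf (x := ⟨d, hdL⟩) (mem_sup_core (syl_sub (hT.of_le le_sup_left le_top))
      (hdp.imp fun k hk => Subtype.ext hk) fun m => ?_)
    have hU : IsPGroup p (T' ⊓ centralizer {d} : Subgroup G) := hT'.isPGroup.to_le inf_le_left
    obtain ⟨Y, hY, a1, a2, a3⟩ := h.pair hd.1 (dS_conj hd.1 m) hU (isPGroup_cj hU m) inf_le_right (by
      rintro _ ⟨x, hx, rfl⟩
      exact mem_centralizer_singleton_iff.2 (Commute.conj (mem_centralizer_singleton_iff.1 hx.2) (m : G)))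
    refine quad_core (h T T' hT hT') (syl_sub (hT'.of_le le_sup_right le_top)) (not_dvd_subgroupOf hY L) hd.2
      (fun r hr => mem_centralizer_singleton_iff.2 (Subtype.ext ?_))
      (fun x hx => norm_subgroupOf a1 L ⟨hx.1, mem_centralizer_singleton_iff.2
        (congrArg Subtype.val (mem_centralizer_singleton_iff.1 hx.2))⟩) ?_ a3
    · have h2 : d ∈ wc p T' := subset_closure hd
      exact h.wc_comm hT'.isPGroup _ (mul_mem (subset_closure ⟨dS_conj hd.1 r,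
        mul_mem (mul_mem hr hd.2) (inv_mem hr)⟩) (inv_mem h2)) d h2
    · rintro _ ⟨x, hx, rfl⟩
      exact norm_subgroupOf a2 L (conj_mem_cj (m : G) ⟨hx.1, mem_centralizer_singleton_iff.2
        (congrArg Subtype.val (mem_centralizer_singleton_iff.1 hx.2))⟩)
  obtain ⟨j, hj⟩ := hdp
  obtain ⟨k, hk, hk'⟩ := conj_into hT.isPGroup (not_dvd_coreOf L) hn (isPGroup_zpowers hj) (zpowers_le.2 h1)
  have h2 : k * d * k⁻¹ ∈ wc p T := subset_closure ⟨dS_conj hd.1 k, hk' d (mem_zpowers d)⟩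
  rw [show d = k⁻¹ * (k * d * k⁻¹) * k by group]
  exact mul_mem (mul_mem (mem_sup_right (inv_mem hk)) (mem_sup_left h2)) (mem_sup_right hk)

theorem H2.hyp (h : H2 p G) {P : Subgroup G} (hP : IsSylowIn p P ⊤)
    (hc : ∀ c ∈ P, c ≠ 1 → IsPSolvable p (centralizer ({c} : Set G))) : Hyp p (wc p P) := fun g => by
  have hW : IsPGroup p (wc p P) := hP.isPGroup.to_le (wc_le P)
  have key : ∀ T, IsSylowIn p T ⊤ → wc p P ≤ T →
      wc p P ⊔ cj g (wc p P) ≤ wc p P ⊔ pPrimeCoreOf p (T ⊔ cj g P) := fun T hT hle => by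
    have e : wc p P = wc p T := by
      obtain ⟨x, -, hx⟩ := syl_conj hT hP
      refine eq_of_le_of_card_ge ((closure_le _).2 fun d hd => subset_closure ⟨hd.1, hle (subset_closure hd)⟩) ?_
      rw [← card_cj x]
      exact card_le_of_le (cj_wc_le x hx.le)
    refine sup_le le_sup_left ((cj_wc_le g le_rfl).trans ?_)
    rw [e]
    exact h.wc_le_sup hT (syl_cj_top hP g)
  have hn : wc p P ≤ 𝒩(pPrimeCoreOf p (P ⊔ cj g P)) :=
    (wc_le P).trans (le_sup_left.trans (le_normalizer_pPrimeCoreOf p _))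
  have hK : ¬ p ∣ Nat.card (pPrimeCoreOf p (P ⊔ cj g P) ⊓ (wc p P ⊔ cj g (wc p P)) : Subgroup G) :=
    fun hd => not_dvd_coreOf _ (hd.trans (card_dvd_of_le inf_le_left))
  refine ⟨_, hK, le_norm_inf hn (le_norm_of_le le_sup_left), fun w hw => ?_, fun c hcW h1 y hy => ?_⟩
  · rw [← inf_sup_eq_of_le_norm (Or.inl hn) le_sup_left]
    exact ⟨key P hP (wc_le P) (mem_sup_right (conj_mem_cj g hw)), mem_sup_right (conj_mem_cj g hw)⟩
  · obtain ⟨S, hS, hWS⟩ := exists_isSylowIn_ge hW (H := centralizer {c})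
      fun w hw => mem_centralizer_singleton_iff.2 (h.wc_comm hP.isPGroup w hw c hcW)
    obtain ⟨T, hT, hST⟩ := exists_isSylowIn_ge hS.isPGroup le_top
    have hn' : T ≤ 𝒩(pPrimeCoreOf p (T ⊔ cj g P)) := le_sup_left.trans (le_normalizer_pPrimeCoreOf p _)
    refine le_coreOf_of_norm (Y := pPrimeCoreOf p (T ⊔ cj g P) ⊓ centralizer {c}) (hc c (wc_le P hcW) h1) hS
      (fun hd => not_dvd_coreOf _ (hd.trans (card_dvd_of_le inf_le_left))) inf_le_right
      (le_norm_inf (hST.trans hn') (le_norm_of_le hS.le)) ⟨?_, hy.2⟩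
    exact res_sup_le_of_isPGroup hW ((hWS.trans hST).trans hn')
      (mem_res (key T hT (hWS.trans hST) hy.1.2) (cop_of_mem hK hy.1))

theorem H2.solv (n : ℕ) : ∀ (G : Type u) [Group G] [Finite G], Nat.card G = n → H2 p G → IsPSolvable p G := by
  induction n using Nat.strong_induction_on with
  | _ n ih =>
  intro G _ _ hn h
  have hsub : ∀ H : Subgroup G, H ≠ ⊤ → IsPSolvable p H := fun H hH =>
    ih _ (hn ▸ card_lt_of_ne_top hH) H rfl fun T T' hT hT' => by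
      obtain ⟨S, hS, h1⟩ := exists_isSylowIn_ge (hT.isPGroup.map H.subtype) le_top
      obtain ⟨S', hS', h2⟩ := exists_isSylowIn_ge (hT'.isPGroup.map H.subtype) le_top
      exact isPSolvable_of_equiv (equivMapOfInjective _ _ H.subtype_injective).symm
        (isPSolvable_of_le (h S S' hS hS') (by rw [Subgroup.map_sup]; exact sup_le_sup h1 h2))
  by_contra hG
  have hN : ∀ N : Subgroup G, N.Normal → N ≠ ⊥ → N = ⊤ := fun N _ h1 => by
    by_contra h2
    refine hG (isPSolvable_of_normal N (hsub N h2) (ih _ (hn ▸ card_quotient_lt h1) _ rfl fun T T' hT hT' => ?_))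
    have key : ∀ T : Subgroup (G ⧸ N), IsSylowIn p T ⊤ → ∃ S, IsSylowIn p S ⊤ ∧ S.map (QuotientGroup.mk' N) = T :=
      fun T hT => by
        obtain ⟨Q, rfl⟩ := isSylowIn_top_iff.1 hT
        obtain ⟨S, rfl⟩ := Sylow.mapSurjective_surjective (QuotientGroup.mk'_surjective N) p Q
        exact ⟨S, isSylowIn_top S, rfl⟩
    obtain ⟨S, hS, rfl⟩ := key T hT
    obtain ⟨S', hS', rfl⟩ := key T' hT'
    rw [← Subgroup.map_sup]
    exact isPSolvable_map (h S S' hS hS') _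
  obtain ⟨P, hP⟩ := exists_isSylowIn (p := p) (⊤ : Subgroup G)
  have hpg : ∀ U : Subgroup G, IsPGroup p U → U ≠ ⊤ := fun U hU e =>
    hG (isPSolvable_top_iff.1 (isPSolvable_of_isPGroup (e ▸ hU)))
  have hO : pPrimeCore p G = ⊥ := by
    by_contra h1
    exact hG (isPSolvable_of_coprime (pPrimeCore_eq_top_iff.1 (hN _ inferInstance h1)))
  have hP1 : P ≠ ⊥ := fun e => hG (isPSolvable_of_not_dvd (by
    have := hP.not_dvd
    rwa [e, relIndex_top_right, index_bot] at this))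
  obtain ⟨⟨z, hz⟩, hz1⟩ := ne_bot_iff_exists_ne_one.1
    (inf_cent_ne_bot hP.isPGroup hP.isPGroup le_normalizer hP1)
  have hzW : z ∈ wc p P := subset_closure ⟨⟨P, hP, hz.1, hz.2⟩, hz.1⟩
  have h1 := (h.hyp hP fun c hc h1 => hsub _ fun e => ?_).main (hP.isPGroup.to_le (wc_le P))
    (h.wc_comm hP.isPGroup)
  · rw [hO, sup_bot_eq, hN (normalClosure (wc p P : Set G)) inferInstance fun e =>
      hz1 (Subtype.ext (mem_bot.1 (e.le (le_normalClosure hzW))))] at h1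
    exact hpg P hP.isPGroup (top_le_iff.1 (h1.trans (wc_le P)))
  · have : (zpowers c).Normal := ⟨fun x hx g => by
      have h2 : g ∈ 𝒞(zpowers c) := by rw [CL.Blk.centralizer_zpowers_eq, e]; trivial
      rwa [conj_eq_of_mem h2 hx]⟩
    exact hpg _ (hP.isPGroup.to_le (zpowers_le.2 hc)) (hN _ this (by simpa using h1))

end CL.Avg
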