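import Cfsg.Agent.Even.AvgBlk
import Cfsg.Agent.Loc.Bal2
import Cfsg.Agent.S0215

/-!
# An abelian `p`-subgroup all of whose conjugates are `p'`-conjugate to it
-/

set_option autoImplicit false
set_option linter.unusedSectionVars false

open scoped ComplexConjugate Classical Pointwise
open Cfsg CL.Char CL.Blk CL.Even CL.Grp Subgroup Finset

namespace CL.Avg

/-- Every conjugate of `W` lies in `W K` for a `W`-invariant `p'`-group `K` which is balanced. -/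
def Hyp {G : Type*} [Group G] (p : ℕ) (W : Subgroup G) : Prop :=
  ∀ g : G, ∃ K : Subgroup G, ¬ p ∣ Nat.card K ∧ W ≤ 𝒩(K) ∧ (∀ w ∈ W, g * w * g⁻¹ ∈ W ⊔ K) ∧
    ∀ c ∈ W, c ≠ 1 → K ⊓ centralizer {c} ≤ centralizerPPrimeCore p c

section Fin

variable {G : Type*} [Group G] [Fintype G] {p : ℕ} [hp : Fact p.Prime] {M : Ideal AlgInt} {W : Subgroup G}

theorem Hyp.ex (h : Hyp p W) (hW : IsPGroup p W) (g : G) :
    ∃ K : Subgroup G, ¬ p ∣ Nat.card K ∧ W ≤ 𝒩(K) ∧ (∃ k ∈ K, ∃ n ∈ 𝒩(W), g = k * n) ∧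
      ∀ M : Ideal AlgInt, IsPModular p M → ∀ χ ∈ principalBlock M G, ∀ c ∈ W, c ≠ 1 → ∀ y ∈ K,
        (χ : G → ℂ) (c * y) = (χ : G → ℂ) c := by
  obtain ⟨K, hK, hn, hg, hc⟩ := h g
  obtain ⟨k, hk, hk'⟩ := conj_into hW hK hn (isPGroup_cj hW g) (by rintro _ ⟨w, hw, rfl⟩; exact hg w hw)
  refine ⟨K, hK, hn, ⟨k⁻¹, inv_mem hk, k * g, mem_norm_of_cj_le ?_, by group⟩,
    fun M hM χ hχ c hcW h1 y hy => apply_coset hM hχ hK (ord_pow hW hcW) (hn hcW) (hc c hcW h1) hy⟩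
  rintro _ ⟨w, hw, rfl⟩
  have := hk' _ (conj_mem_cj g hw)
  simpa [mul_assoc] using this

theorem ps_mul {χ : G → ℂ} (k : G) {n : G} (hn : n ∈ 𝒩(W)) : ps W χ (k * n) = ps W χ k := by
  refine sum_congr rfl fun a _ => Fintype.sum_equiv (W.normalizerMonoidHom ⟨n, hn⟩).toEquiv _ _ fun b => ?_
  simp [mul_assoc]

theorem xs_le_of_ps {χ : G → ℂ} (hχ : IsIrrCharacter G χ) (h1 : 1 < Nat.card W)
    (hlt : xs W χ < ((Nat.card W : ℝ) - 1) * dg χ)
    (h : ∀ g, (Nat.card W : ℝ) ^ 2 * xs W χ ≤ ((Nat.card W : ℝ) - 1) * (ps W χ g).re) :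
    xs W χ ≤ ((Nat.card W : ℝ) - 1)⁻¹ * dg χ := by
  have hq : (0 : ℝ) < (Nat.card W : ℝ) - 1 := by rw [sub_pos]; exact_mod_cast h1
  have h2 := le_sq_of_ps hχ W (m := (Nat.card W : ℝ) ^ 2 * xs W χ / ((Nat.card W : ℝ) - 1))
    fun g => by rw [div_le_iff₀ hq, mul_comm _ (_ - _)]; exact h g
  rw [div_mul_eq_mul_div, div_le_iff₀ hq] at h2
  rw [inv_mul_eq_div, le_div_iff₀ hq]
  by_contra h3
  nlinarith [mul_pos (sub_pos.2 (not_le.1 h3)) (sub_pos.2 hlt)]

theorem Hyp.cubic (h : Hyp p W) (hW : IsPGroup p W) (hM : IsPModular p M) :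
    ∑ χ ∈ bz M G, xs W χ.1 ^ 3 / dg χ.1 = ((Nat.card W : ℝ) - 2) * ∑ χ ∈ bz M G, xs W χ.1 ^ 2 := by
  have h1 : ∀ g, ∑ χ ∈ bz M G, ps W χ.1 g * (xs W χ.1 : ℂ) =
      ((Nat.card W * ∑ χ ∈ bz M G, xs W χ.1 ^ 2 : ℝ) : ℂ) := fun g => by
    obtain ⟨K, hK, hn, ⟨k, hk, n, hn', rfl⟩, hc⟩ := h.ex hW g
    rw [sum_congr rfl fun χ hχ => by
      rw [ps_mul k hn', ps_eq χ.2 hn hk (hc M hM χ (mem_bz.1 hχ)), add_mul, sum_mul], sum_add_distrib, sum_comm,
      sum_eq_zero fun (b : W) _ => orth_reg hM hW ((Nat.Prime.coprime_iff_not_dvd hp.out).1 (cop_of_mem hK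
        (mul_mem (conj_mem' (hn b.2) hk) (inv_mem hk))).symm), zero_add]
    push_cast
    rw [mul_sum]
    exact sum_congr rfl fun χ _ => by ring
  have h2 := sum_congr (s₁ := (univ : Finset G)) rfl fun g _ => h1 g
  rw [sum_comm, sum_congr rfl fun χ _ => by rw [← sum_mul, sum_ps χ.2, ← Complex.ofReal_mul], sum_const,
    card_univ, ← Nat.card_eq_fintype_card, nsmul_eq_mul, ← Complex.ofReal_natCast, ← Complex.ofReal_mul,
    ← Complex.ofReal_sum, Complex.ofReal_inj] at h2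
  have h3 : ∑ χ ∈ bz M G, Nat.card G * (dg χ.1 + xs W χ.1) ^ 2 / dg χ.1 * xs W χ.1 =
      Nat.card G * (∑ χ ∈ bz M G, dg χ.1 * xs W χ.1 + 2 * ∑ χ ∈ bz M G, xs W χ.1 ^ 2 +
        ∑ χ ∈ bz M G, xs W χ.1 ^ 3 / dg χ.1) := by
    rw [mul_sum, ← sum_add_distrib, ← sum_add_distrib, mul_sum]
    exact sum_congr rfl fun χ _ => by have := (dg_pos χ.2).ne'; field_simp; ring
  rw [h3, sum_dx hM hW] at h2
  have h4 := mul_left_cancel₀ (by exact_mod_cast Nat.card_pos.ne' : (Nat.card G : ℝ) ≠ 0) h2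
  linarith

theorem Hyp.nofusion (h : Hyp p W) (hW : IsPGroup p W) (hab : ∀ a ∈ W, ∀ b ∈ W, a * b = b * a)
    (htop : normalClosure (W : Set G) = ⊤) {a b : G} (ha : a ∈ W) (hb : b ∈ W) (hc : IsConj a b) : a = b := by
  by_contra hne
  obtain ⟨M, hM⟩ := exists_isPModular' hp.out
  have ha1 : a ≠ 1 := fun e => hne (by rw [e] at hc ⊢; exact (isConj_one_right.1 hc).symm)
  have hb1 : b ≠ 1 := fun e => hne (by rw [e] at hc ⊢; exact isConj_one_left.1 hc)
  have hA : (⟨a, ha⟩ : W) ∈ (univ : Finset W).erase 1 := mem_erase.2 ⟨fun e => ha1 (congrArg Subtype.val e), mem_univ _⟩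
  have hB : (⟨b, hb⟩ : W) ∈ (univ : Finset W).erase 1 := mem_erase.2 ⟨fun e => hb1 (congrArg Subtype.val e), mem_univ _⟩
  have hAB : (⟨a, ha⟩ : W) ≠ ⟨b, hb⟩ := fun e => hne (congrArg Subtype.val e)
  have h2 : 2 ≤ ((univ : Finset W).erase 1).card := one_lt_card.2 ⟨_, hA, _, hB, hAB⟩
  have hq : (3 : ℝ) ≤ Nat.card W := by
    have h3 : (2 : ℝ) ≤ ((univ : Finset W).erase 1).card := by exact_mod_cast h2
    rw [card_erase] at h3
    linarith
  have h1 : 1 < Nat.card W := by exact_mod_cast (show (1 : ℝ) < Nat.card W by linarith)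
  have hlt := cubic_lt' hM hW h1 (t := ((Nat.card W : ℝ) - 1)⁻¹) (inv_nonneg.2 (by linarith)) fun χ hχ hχ1 =>
    xs_le_of_ps χ.2 h1 (xs_lt χ.2 (not_le_ker htop hχ1)) fun g => by
      obtain ⟨K, hK, hn, ⟨k, hk, n, hn', rfl⟩, hc⟩ := h.ex hW g
      rw [ps_mul k hn']
      exact ps_ge χ.2 hn hk (hc M hM χ hχ)
  have hS : (Nat.card W : ℝ) * (Nat.card W + 1) ≤ ∑ χ ∈ bz M G, xs W χ.1 ^ 2 := by
    rw [sum_sq hM hW]
    have h4 : ∀ c ∈ (univ : Finset W).erase 1, (Nat.card W : ℝ) * (1 + (if c = ⟨a, ha⟩ then 1 else 0) +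
        (if c = ⟨b, hb⟩ then 1 else 0)) ≤ (orb W c).card * (degSq M (centralizer ({(c : G)} : Set G))).re := by
      intro c hc'
      rw [mul_comm]
      refine mul_le_mul ?_ (card_le_degSq_cent hM hW fun w hw => mem_centralizer_singleton_iff.2 (hab w hw c c.2))
        (by linarith) (Nat.cast_nonneg _)
      have h5 : c ∈ orb W c := mem_filter.2 ⟨hc', IsConj.refl _⟩
      split_ifs with e1 e2 e2
      · exact (hAB (e1.symm.trans e2)).elim
      · subst e1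
        have : 1 < (orb W a).card := one_lt_card.2 ⟨_, h5, _, mem_filter.2 ⟨hB, hc⟩, hAB⟩
        norm_num; exact_mod_cast this
      · subst e2
        have : 1 < (orb W b).card := one_lt_card.2 ⟨_, h5, _, mem_filter.2 ⟨hA, hc.symm⟩, hAB.symm⟩
        norm_num; exact_mod_cast this
      · norm_num; exact ⟨_, h5⟩
    refine le_trans (le_of_eq ?_) (sum_le_sum h4)
    rw [← mul_sum, sum_add_distrib, sum_add_distrib, sum_ite_eq', sum_ite_eq', if_pos hA, if_pos hB, sum_const,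
      nsmul_eq_mul, card_erase]
    ring
  rw [h.cubic hW hM, inv_mul_eq_div, lt_div_iff₀ (by linarith)] at hlt
  generalize (∑ χ ∈ bz M G, xs W χ.1 ^ 2) = S at hlt hS
  generalize (Nat.card W : ℝ) = q at hlt hS hq
  have h6 : 0 ≤ q ^ 2 - 3 * q + 1 := by nlinarith
  have h7 : 0 ≤ q * (2 * q - 1) * (q - 3) := mul_nonneg (mul_nonneg (by linarith) (by linarith)) (by linarith)
  nlinarith [mul_le_mul_of_nonneg_left hS h6]

theorem Hyp.comm_mem (h : Hyp p W) (hW : IsPGroup p W) (hab : ∀ a ∈ W, ∀ b ∈ W, a * b = b * a)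
    (htop : normalClosure (W : Set G) = ⊤) {b : G} (hb : b ∈ W) (g : G) :
    b * g * b⁻¹ * g⁻¹ ∈ pPrimeCore p G := by
  obtain ⟨P, hP⟩ := hW.exists_le_sylow
  have hP' : ∀ a ∈ W, ∀ g, g * a * g⁻¹ ∈ (P : Subgroup G) → g * a * g⁻¹ = a := fun a ha g hg => by
    obtain ⟨K, hK, hn, hg', -⟩ := h g
    have e := (isSylowIn_sup_of_coprime hW ((Nat.Prime.coprime_iff_not_dvd hp.out).2 hK).symm hn).eq_of_le
      (P.isPGroup'.to_inf_left (K := W ⊔ K)) (le_inf hP le_sup_left) inf_le_right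
    exact (h.nofusion hW hab htop ha (e.le ⟨hg, hg' a ha⟩) (isConj_iff.2 ⟨g, rfl⟩)).symm
  by_cases h3 : 3 ≤ Nat.card W
  · obtain ⟨M, hM⟩ := exists_isPModular' hp.out
    refine comm_mem_core hM h3 (fun a ha => not_dvd_index_centralizer_of_sylow_le P fun x hx =>
      mem_centralizer_singleton_iff.2 (mul_inv_eq_iff_eq_mul.1
        (hP' a ha x (mul_mem (mul_mem hx (hP ha)) (inv_mem hx))))) (fun χ hχ a ha b hb h1 g => ?_) hb g
    obtain ⟨K, hK, hn, ⟨k, hk, n, hn', rfl⟩, hc⟩ := h.ex hW g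
    have e := h.nofusion hW hab htop hb (conj_mem hn' hb) (isConj_iff.2 ⟨n, rfl⟩)
    rw [← hc M hM χ hχ _ (mul_mem ha hb) h1 _ (mul_mem (conj_mem' (hn hb) hk) (inv_mem hk)),
      show k * n * b * (k * n)⁻¹ = k * (n * b * n⁻¹) * k⁻¹ by group, ← e]
    group
  · by_cases h1 : b = 1
    · simp [h1]
    have h2 : orderOf b = 2 := by
      have h4 := Nat.le_of_dvd Nat.card_pos (orderOf_dvd_natCard W hb)
      have h5 := orderOf_pos b
      have h6 : orderOf b ≠ 1 := fun e => h1 (orderOf_eq_one_iff.1 e)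
      omega
    obtain ⟨k, hk⟩ := ord_pow hW hb
    obtain rfl : p = 2 := by
      rw [h2] at hk
      exact (Nat.prime_dvd_prime_iff_eq hp.out Nat.prime_two).1 (hk ▸ dvd_pow_self p (by rintro rfl; simp at hk))
    obtain ⟨N, hN, ho, hN'⟩ := Cfsg.Agent.S0215.result P b h2 (hP hb) (hP' b hb)
    exact le_pPrimeCore (Nat.coprime_two_right.2 ho) (hN' g)

end Fin

variable {G : Type*} [Group G] [Finite G] {p : ℕ} [hp : Fact p.Prime] {W : Subgroup G}

theorem sup_subgroupOf {W K L : Subgroup G} (hn : W ≤ 𝒩(K)) (hL : W ≤ L) {x : L} (hx : (x : G) ∈ W ⊔ K) :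
    x ∈ W.subgroupOf L ⊔ K.subgroupOf L := by
  obtain ⟨a, ha, b, hb, e⟩ := (mem_sup_nr hn).1 hx
  have hb' : b ∈ L := by rw [show b = a⁻¹ * x by rw [← e]; group]; exact mul_mem (inv_mem (hL ha)) x.2
  rw [show x = ⟨a, hL ha⟩ * ⟨b, hb'⟩ from Subtype.ext e.symm]
  exact mul_mem_sup ha hb

theorem norm_subgroupOf {W K : Subgroup G} (hn : W ≤ 𝒩(K)) (L : Subgroup G) :
    W.subgroupOf L ≤ 𝒩(K.subgroupOf L) := fun _ hw =>
  mem_normalizer_iff.2 fun x => mem_normalizer_iff.1 (hn hw) (x : G)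

theorem not_dvd_subgroupOf {K : Subgroup G} (hK : ¬ p ∣ Nat.card K) (L : Subgroup G) :
    ¬ p ∣ Nat.card (K.subgroupOf L) := fun h =>
  hK (h.trans (card_comap_dvd_of_injective K L.subtype L.subtype_injective))

theorem Hyp.subgroupOf (h : Hyp p W) {L : Subgroup G} (hL : W ≤ L) : Hyp p (W.subgroupOf L) := fun g => by
  obtain ⟨K, hK, hn, hg, hc⟩ := h g
  exact ⟨K.subgroupOf L, not_dvd_subgroupOf hK L, norm_subgroupOf hn L, fun w hw => sup_subgroupOf hn hL (hg w hw),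
    fun c hcW h1 y hy => CL.Loc.mem_core_subtype (hc c hcW (fun e => h1 (Subtype.ext e)) ⟨hy.1,
      mem_centralizer_singleton_iff.2 (congrArg Subtype.val (mem_centralizer_singleton_iff.1 hy.2))⟩)⟩

/-- If every conjugate of `W` is conjugate into `W` inside the normal closure, the closure is its own closure. -/
theorem closure_subgroupOf_top {W : Subgroup G}
    (h : ∀ w ∈ W, ∀ g : G, ∃ k ∈ normalClosure (W : Set G), k * (g * w * g⁻¹) * k⁻¹ ∈ W) :
    normalClosure (W.subgroupOf (normalClosure (W : Set G)) : Set (normalClosure (W : Set G))) = ⊤ := by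
  rw [eq_top_iff, ← map_le_map_iff_of_injective (subtype_injective _), ← MonoidHom.range_eq_map, range_subtype]
  refine (closure_le _).2 fun x hx => ?_
  obtain ⟨w, hw, hc⟩ := Group.mem_conjugatesOfSet_iff.1 hx
  obtain ⟨g, rfl⟩ := isConj_iff.1 hc
  obtain ⟨k, hk, hk'⟩ := h w hw g
  refine ⟨(⟨k, hk⟩ : normalClosure (W : Set G))⁻¹ * ⟨_, le_normalClosure hk'⟩ * (⟨k, hk⟩ : _)⁻¹⁻¹,
    normalClosure_normal.conj_mem _ (subset_normalClosure (by exact hk')) _, ?_⟩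
  simp [mul_assoc]

theorem le_sup_of_comm {W : Subgroup G}
    (htop : normalClosure (W.subgroupOf (normalClosure (W : Set G)) : Set (normalClosure (W : Set G))) = ⊤)
    (h : ∀ b ∈ W.subgroupOf (normalClosure (W : Set G)), ∀ g, b * g * b⁻¹ * g⁻¹ ∈
      pPrimeCore p (normalClosure (W : Set G))) : normalClosure (W : Set G) ≤ W ⊔ pPrimeCore p G := by
  set L := normalClosure (W : Set G)
  have hn : (W.subgroupOf L ⊔ pPrimeCore p L).Normal := ⟨fun x hx g => by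
    obtain ⟨a, ha, b, hb, rfl⟩ := (mem_sup_nr (le_normalizer_of_normal)).1 hx
    rw [show g * (a * b) * g⁻¹ = a * ((a⁻¹ * g * a⁻¹⁻¹ * g⁻¹) * (g * b * g⁻¹)) by group]
    exact mul_mem_sup ha (mul_mem (h _ (inv_mem ha) g) (Normal.conj_mem inferInstance _ hb g))⟩
  have h1 : ⊤ ≤ W.subgroupOf L ⊔ pPrimeCore p L := htop ▸ normalClosure_le_normal (fun x hx => mem_sup_left hx)
  intro x hx
  obtain ⟨a, ha, b, hb, e⟩ := (mem_sup_nr (le_normalizer_of_normal)).1 (h1 (mem_top (⟨x, hx⟩ : L)))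
  rw [show x = a * b from (congrArg Subtype.val e).symm]
  exact mul_mem_sup ha (pPrimeCoreOf_le_pPrimeCore_of_isSubnormal (Normal.isSubnormal inferInstance) ⟨b, hb, rfl⟩)

/-- The main theorem on `Hyp`. -/
theorem Hyp.main (h : Hyp p W) (hW : IsPGroup p W) (hab : ∀ a ∈ W, ∀ b ∈ W, a * b = b * a) :
    normalClosure (W : Set G) ≤ W ⊔ pPrimeCore p G := by
  have htop := closure_subgroupOf_top (W := W) fun w hw g => by
    obtain ⟨K, hK, hn, hg, -⟩ := h g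
    obtain ⟨k, hk, hk'⟩ := conj_into (K := K ⊓ normalClosure (W : Set G)) hW
      (fun hd => hK (hd.trans (card_dvd_of_le inf_le_left))) (le_norm_inf hn le_normalizer_of_normal)
      (isPGroup_cj hW g) (by
        rintro _ ⟨v, hv, rfl⟩
        rw [← inf_sup_eq_of_le_norm (Or.inl hn) le_normalClosure]
        exact ⟨hg v hv, normalClosure_normal.conj_mem _ (le_normalClosure hv) g⟩)
    exact ⟨k, hk.2, hk' _ (conj_mem_cj g hw)⟩
  have := Fintype.ofFinite (normalClosure (W : Set G))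
  exact le_sup_of_comm htop fun b hb g => (h.subgroupOf le_normalClosure).comm_mem hW.comap_subtype
    (fun a ha b hb => Subtype.ext (hab a ha b hb)) htop hb g

end CL.Avg
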