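/-
Rank one facts shared by `SL₂(q)`, `Sz(q)` and the dihedral groups.
-/
import Cfsg.Agent.Even.ParChar
import Cfsg.Agent.Even.PMin
import Cfsg.Agent.Cls.SL2Tori
import Cfsg.Agent.Cls.SL2Sylow2
import Cfsg.Agent.Chev.SzTorus2
import Cfsg.Agent.Chev.SzInst
import Cfsg.Agent.Chev.SzField

namespace CL.Even

open Cfsg Subgroup CL.Grp
open scoped commutatorElement MatrixGroups

variable {G : Type*} [Group G] {p : ℕ}

/-- every nontrivial `p'`-element is, up to a commuting element of order dividing `p`, a product of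
two elements of order `p` -/
def PDec (p : ℕ) (G : Type*) [Group G] : Prop :=
  ∀ h : G, h ≠ 1 → (orderOf h).Coprime p → ∃ u y₁ y₂ : G, u ^ p = 1 ∧ Commute h u ∧ y₁ ^ p = 1 ∧
    y₂ ^ p = 1 ∧ y₁ ≠ 1 ∧ y₂ ≠ 1 ∧ h * u = y₁ * y₂

structure RK1 (p : ℕ) (Y : Subgroup G) : Prop where
  mem : ∀ x ∈ 𝒩(Y), x ^ p = 1 → x ∈ Y
  irr : ∀ V : Subgroup G, V ≤ Y → V ≠ ⊥ → 𝒩(Y) ≤ 𝒩(V) → V = Y
  dec : PDec p G

theorem PDec.of_equiv {G' : Type*} [Group G'] (e : G ≃* G') (h : PDec p G') : PDec p G := by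
  intro x hx hc
  obtain ⟨u, y₁, y₂, h1, h2, h3, h4, h5, h6, h7⟩ := h (e x) (by simpa using hx)
    (by rwa [e.orderOf_eq])
  refine ⟨e.symm u, e.symm y₁, e.symm y₂, by rw [← map_pow, h1, map_one], ?_,
    by rw [← map_pow, h3, map_one], by rw [← map_pow, h4, map_one], by simpa using h5,
    by simpa using h6, by rw [← map_mul, ← h7, map_mul, e.symm_apply_apply]⟩
  have := h2.map e.symm
  rwa [e.symm_apply_apply] at this

theorem RK1.of_map {G' : Type*} [Group G'] (e : G ≃* G') {Y : Subgroup G}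
    (h : RK1 p (Y.map e.toMonoidHom)) : RK1 p Y := by
  have hn : 𝒩(Y).map e.toMonoidHom = 𝒩(Y.map e.toMonoidHom) :=
    map_normalizer_eq_of_bijective Y e.bijective
  refine ⟨fun x hx hp => ?_, fun V h1 h2 h3 => map_injective (f := e.toMonoidHom) e.injective
    (h.irr _ (map_mono h1) (fun e' => h2 ((map_eq_bot_iff_of_injective _ e.injective).mp e')) ?_),
    h.dec.of_equiv e⟩
  · have := h.mem (e x) (hn ▸ mem_map_of_mem e.toMonoidHom hx) (by rw [← map_pow, hp, map_one])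
    exact (mem_map_iff_mem e.injective).mp this
  · rw [← hn]; exact map_le_norm_map _ h3

theorem RK1.of_cj {Y : Subgroup G} (g : G) (h : RK1 p (cj g Y)) : RK1 p Y :=
  RK1.of_map (MulAut.conj g) h

theorem pDec_two_of_inverts
    (h : ∀ x : G, x ≠ 1 → (orderOf x).Coprime 2 → ∃ t : G, t ≠ 1 ∧ t * t = 1 ∧ t * x * t⁻¹ = x⁻¹) :
    PDec 2 G := fun x hx hc => by
  obtain ⟨t, h1, h2, h3⟩ := h x hx hc
  have ht : t⁻¹ = t := inv_eq_of_mul_eq_one_right h2
  refine ⟨1, t, t * x, one_pow _, Commute.one_right _, by rw [pow_two, h2], ?_, h1, fun e => hx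
    (eq_one_of_coprime_of_pow (k := 1) hc ?_), by rw [← mul_assoc, h2, mul_one, one_mul]⟩
  · rw [pow_two, ← mul_assoc, ← ht, ht, show t * x * t = t * x * t⁻¹ by rw [ht], h3, inv_mul_cancel]
  · rw [← inv_eq_of_mul_eq_one_right e, ht, pow_one, pow_two, h2]

/-- a group generated by two involutions -/
theorem rk1_of_card_two [Finite G] {Y : Subgroup G} (hY : Nat.card Y = 2) {g : G}
    (hg : Y ⊔ cj g Y = ⊤) (hO : pCore 2 G = ⊥) : RK1 2 Y := by
  have : Fact (Nat.Prime 2) := ⟨Nat.prime_two⟩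
  obtain ⟨⟨t, htY⟩, ht, hu⟩ := (Nat.card_eq_two_iff' (1 : Y)).mp hY
  have ht1 : t ≠ 1 := fun e => ht (Subtype.ext e)
  have hYm : ∀ y ∈ Y, y = 1 ∨ y = t := fun y hy => by
    by_cases e : y = 1
    · exact Or.inl e
    · exact Or.inr (congrArg Subtype.val (hu ⟨y, hy⟩ fun e' => e (congrArg Subtype.val e')))
  have htt : t * t = 1 := (hYm _ (Y.mul_mem htY htY)).resolve_right fun e => ht1 (by simpa using e)
  have hti : t⁻¹ = t := inv_eq_of_mul_eq_one_right htt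
  set c := t * (g * t * g⁻¹) with hc
  have hinv : ∀ k ∈ zpowers c, t * k * t⁻¹ = k⁻¹ := by
    rintro _ ⟨n, rfl⟩
    change t * c ^ n * t⁻¹ = (c ^ n)⁻¹
    rw [← conj_zpow, ← inv_zpow]
    congr 1
    rw [hc, ← mul_assoc, htt]
    simp only [mul_inv_rev, inv_inv, hti, one_mul, mul_assoc]
  have htn : Y ≤ 𝒩(zpowers c) := le_norm_of_cj_le fun y hy x hx => by
    rcases hYm y hy with rfl | rfl
    · rwa [cj_one] at hx
    · have := hinv _ (mem_cj.mp hx)
      rw [show y * (y⁻¹ * x * y) * y⁻¹ = x by group] at this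
      rw [this]; exact inv_mem (mem_cj.mp hx)
  have hdec : ∀ x : G, x ∈ zpowers c ∨ x * t ∈ zpowers c := fun x => by
    have hx : x ∈ zpowers c ⊔ Y := by
      refine (hg.ge.trans (sup_le le_sup_right fun y hy => ?_) : ⊤ ≤ zpowers c ⊔ Y) (mem_top x)
      rcases hYm _ (mem_cj.mp hy) with e | e
      · rw [show y = g * (g⁻¹ * y * g) * g⁻¹ by group, e]; simp
      · rw [show y = t⁻¹ * (t * (g * (g⁻¹ * y * g) * g⁻¹)) by group, e]
        exact mul_mem (mem_sup_right (inv_mem htY)) (mem_sup_left (mem_zpowers c))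
    obtain ⟨k, hk, y, hy, rfl⟩ := (mem_sup_nl htn).mp hx
    rcases hYm y hy with rfl | rfl
    · left; simpa using hk
    · right; rwa [mul_assoc, htt, mul_one]
  have hodd : ∀ k ∈ zpowers c, k * t = t * k → k = 1 := fun k hk e => by
    have h1 : k ∈ center G := mem_center_iff.mpr fun x => by
      have h2 : ∀ x ∈ zpowers c, x * k = k * x := by
        rintro _ ⟨m, rfl⟩
        obtain ⟨n, rfl⟩ := hk
        exact zpow_mul_comm c m n
      rcases hdec x with h | h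
      · exact h2 x h
      · have := h2 _ h
        rw [mul_assoc, ← e, ← mul_assoc, ← mul_assoc] at this
        exact mul_right_cancel this
    have h2 : k ^ 2 ^ 1 = 1 := by
      have := hinv k hk
      rw [← e, mul_inv_cancel_right] at this
      rw [pow_one, pow_two]; nth_rewrite 1 [this]; exact inv_mul_cancel k
    have h3 := le_pCore_of (normal_iff_top_le.mpr (le_trans (le_centralizer_iff.mp
      ((zpowers_le.mpr h1).trans (center_le_centralizer _))) (cent_le_norm _))) (isPGroup_zpowers h2)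
    rw [hO] at h3
    exact h3 (mem_zpowers k)
  have hN : ∀ x ∈ 𝒩(Y), x * t = t * x := fun x hx => by
    rcases hYm _ (conj_mem hx htY) with e | e
    · exact absurd (by simpa using e) ht1
    · exact mul_inv_eq_iff_eq_mul.mp e
  refine ⟨fun x hx _ => ?_, fun V h1 h2 _ => ?_, pDec_two_of_inverts fun x hx hc => ⟨t, ht1, htt, ?_⟩⟩
  · rcases hdec x with h | h
    · rw [hodd x h (hN x hx)]; exact one_mem _
    · rw [eq_inv_of_mul_eq_one_left (hodd _ h (hN _ (mul_mem hx (le_normalizer htY))))]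
      exact inv_mem htY
  · obtain ⟨⟨v, hv⟩, hv1⟩ := ne_bot_iff_exists_ne_one.mp h2
    refine le_antisymm h1 fun y hy => ?_
    rcases hYm y hy with rfl | rfl
    · exact one_mem _
    · exact ((hYm v (h1 hv)).resolve_left fun e => hv1 (Subtype.ext e)) ▸ hv
  · refine hinv x ((hdec x).resolve_right fun h => hx (eq_one_of_coprime_of_pow (k := 1) hc ?_))
    have := hinv _ h
    rw [show t * (x * t) * t⁻¹ = t * x by group, mul_inv_rev, hti] at this
    rw [pow_one, pow_two]; nth_rewrite 1 [mul_left_cancel this]; exact inv_mul_cancel x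

/-! ### `SL₂(q)` -/

section SL2

open CL.SL2 CL.GL2 Matrix

variable {F : Type*} [Field F]

theorem sl_mul_apply (a b : SL(2, F)) (i j : Fin 2) :
    (a * b) i j = a i 0 * b 0 j + a i 1 * b 1 j := by
  change (a.1 * b.1) i j = _
  rw [mul_apply, Fin.sum_univ_two]

theorem sl_ext {a b : SL(2, F)} (h₁ : a 0 0 = b 0 0) (h₂ : a 0 1 = b 0 1) (h₃ : a 1 0 = b 1 0)
    (h₄ : a 1 1 = b 1 1) : a = b := by
  ext i j
  fin_cases i <;> fin_cases j <;> assumption

theorem sl_det (g : SL(2, F)) : g 0 0 * g 1 1 - g 0 1 * g 1 0 = 1 := by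
  rw [← det_fin_two]; exact g.det_coe

theorem sl_pow_of_trace (p : ℕ) [CharP F p] {g : SL(2, F)}
    (h : g 0 0 + g 1 1 = 2) : g ^ p = 1 := by
  have hd := sl_det g
  have h1 : ∀ k : ℕ, (g ^ k) 0 0 = 1 + k * (g 0 0 - 1) ∧ (g ^ k) 0 1 = k * g 0 1 ∧
      (g ^ k) 1 0 = k * g 1 0 ∧ (g ^ k) 1 1 = 1 + k * (g 1 1 - 1) := fun k => by
    induction k with
    | zero => simp
    | succ k ih =>
      simp only [pow_succ, sl_mul_apply, ih.1, ih.2.1, ih.2.2.1, ih.2.2.2, Nat.cast_succ]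
      refine ⟨?_, ?_, ?_, ?_⟩ <;> grind
  obtain ⟨h2, h3, h4, h5⟩ := h1 p
  rw [CharP.cast_eq_zero] at h2 h3 h4 h5
  refine sl_ext ?_ ?_ ?_ ?_ <;> simp [h2, h3, h4, h5]

theorem sl_exists_dec (p : ℕ) [CharP F p] {g : SL(2, F)} (h : g 0 0 + g 1 1 ≠ 2)
    (hs : g 0 1 ≠ 0 ∨ g 1 0 ≠ 0 ∨ g 0 0 ≠ g 1 1) :
    ∃ y₁ y₂ : SL(2, F), y₁ ^ p = 1 ∧ y₂ ^ p = 1 ∧ y₁ ≠ 1 ∧ y₂ ≠ 1 ∧ g = y₁ * y₂ := by
  have key : ∀ v : SL(2, F), v 0 0 + v 1 1 = 2 → (v * g) 0 0 + (v * g) 1 1 = 2 →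
      ∃ y₁ y₂ : SL(2, F), y₁ ^ p = 1 ∧ y₂ ^ p = 1 ∧ y₁ ≠ 1 ∧ y₂ ≠ 1 ∧ g = y₁ * y₂ := fun v h1 h2 =>
    ⟨v⁻¹, v * g, by rw [inv_pow, sl_pow_of_trace p h1, inv_one], sl_pow_of_trace p h2,
      fun e => h (by rwa [inv_eq_one.mp e, one_mul] at h2), fun e => h (by
        rw [eq_inv_of_mul_eq_one_right e, SpecialLinearGroup.SL2_inv_expl]
        simpa [add_comm] using h1), by group⟩
  by_cases h1 : g 1 0 = 0
  · by_cases h2 : g 0 1 = 0
    · have h3 : g 0 0 - g 1 1 ≠ 0 := sub_ne_zero.mpr ((hs.resolve_left (not_not.mpr h2)).resolve_left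
        (not_not.mpr h1))
      obtain ⟨t, ht⟩ : ∃ t, t * (g 0 0 - g 1 1) = 2 - (g 0 0 + g 1 1) := ⟨_, div_mul_cancel₀ _ h3⟩
      obtain ⟨v, hv⟩ : ∃ v : SL(2, F), v.1 = !![1 + t, -t; t, 1 - t] :=
        ⟨⟨_, by rw [det_fin_two_of]; ring⟩, rfl⟩
      refine key v (by simp [hv]; ring) ?_
      simp only [sl_mul_apply, h1, h2, hv]
      simp
      grind
    · obtain ⟨t, ht⟩ : ∃ t, t * g 0 1 = 2 - (g 0 0 + g 1 1) := ⟨_, div_mul_cancel₀ _ h2⟩
      refine key (loT t) (by simp [coe_loT]; ring) ?_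
      simp only [sl_mul_apply, coe_loT]
      simp
      grind
  · obtain ⟨t, ht⟩ : ∃ t, t * g 1 0 = 2 - (g 0 0 + g 1 1) := ⟨_, div_mul_cancel₀ _ h1⟩
    refine key (upT t) (by simp [coe_upT]; ring) ?_
    simp only [sl_mul_apply, coe_upT]
    simp
    grind

theorem pDec_sl (p : ℕ) [CharP F p] : PDec p SL(2, F) := fun h h1 hc => by
  have hp : ∀ g : SL(2, F), (orderOf g).Coprime p → g 0 0 + g 1 1 = 2 → g = 1 := fun g hg e =>
    eq_one_of_coprime_of_pow (k := 1) hg (by rw [pow_one]; exact sl_pow_of_trace p e)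
  by_cases hs : h 0 1 ≠ 0 ∨ h 1 0 ≠ 0 ∨ h 0 0 ≠ h 1 1
  · obtain ⟨y₁, y₂, h2, h3, h4, h5, h6⟩ := sl_exists_dec p (fun e => h1 (hp h hc e)) hs
    exact ⟨1, y₁, y₂, one_pow _, Commute.one_right _, h2, h3, h4, h5, by rwa [mul_one]⟩
  · push Not at hs
    have hd := sl_det h
    obtain ⟨y₁, y₂, h2, h3, h4, h5, h6⟩ := sl_exists_dec p (g := h * upT 1) (fun e => h1 (hp h hc (by
      simpa [sl_mul_apply, coe_upT, hs.1, hs.2.1] using e))) (Or.inl (by
      simp only [sl_mul_apply, coe_upT, hs.1]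
      simp
      grind))
    refine ⟨upT 1, y₁, y₂, transvection_pow_char p _ _, ?_, h2, h3, h4, h5, h6⟩
    refine sl_ext ?_ ?_ ?_ ?_ <;> simp [sl_mul_apply, coe_upT, hs.1, hs.2.1, hs.2.2]

theorem diagSL_conj_upT (a : Fˣ) (b : F) :
    (diagSL a : SL(2, F)) * upT b * (diagSL a)⁻¹ = upT ((a : F) ^ 2 * b) := by
  rw [← map_inv]
  refine sl_ext ?_ ?_ ?_ ?_ <;> simp [sl_mul_apply, coe_upT]
  ring

theorem upT_add (a b : F) : (upT (a + b) : SL(2, F)) = upT a * upT b := by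
  refine sl_ext ?_ ?_ ?_ ?_ <;> simp [sl_mul_apply, coe_upT, add_comm]

theorem upT_zero : (upT 0 : SL(2, F)) = 1 := by
  refine sl_ext ?_ ?_ ?_ ?_ <;> simp [coe_upT]

theorem upT_neg (a : F) : (upT (-a) : SL(2, F)) = (upT a)⁻¹ := by
  rw [eq_inv_iff_mul_eq_one, ← upT_add, neg_add_cancel, upT_zero]

theorem rk1_sl [Fintype F] [Fact p.Prime] {Y : Subgroup SL(2, F)} (hY : IsPGroup p Y)
    (hc : Nat.card Y = Fintype.card F) : RK1 p Y := by
  have hne : Y ≠ ⊥ := ne_bot_of_card_eq (hc.trans Nat.card_eq_fintype_card.symm)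
  have hchar : CharP F p := by
    obtain ⟨n, hn⟩ := hY.exists_card_eq
    obtain ⟨q, hq⟩ := CharP.exists F
    obtain ⟨m, hq', hm⟩ := FiniteField.card F q
    have : q ∣ p ^ n := by rw [← hn, hc, hm]; exact dvd_pow_self q m.ne_zero
    rwa [← (Nat.prime_dvd_prime_iff_eq hq' Fact.out).mp (hq'.dvd_of_dvd_pow this)]
  obtain ⟨x, hx⟩ := (uhyp_sl p).exists_le_Q hY hne
  obtain ⟨g, rfl⟩ := MulAction.exists_smul_eq SL(2, F) (pinf : P1 F) x
  have e : Y = cj g ((uhyp_sl p).Q (pinf : P1 F)) := by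
    rw [← UHyp.Q_smul]
    exact eq_of_le_of_card_ge hx (by rw [card_Q_sl, hc, Nat.card_eq_fintype_card])
  refine RK1.of_cj g⁻¹ ?_
  rw [e, cj_inv_cj]
  have hN := (uhyp_sl p).normalizer_Q (Q_sl_ne_bot p (pinf : P1 F))
  refine ⟨fun x h1 h2 => (UHyp.mem_Q _).mpr ⟨by rwa [hN] at h1, h2⟩, fun V h1 h2 h3 => ?_, pDec_sl p⟩
  obtain ⟨⟨v, hv⟩, hv1⟩ := ne_bot_iff_exists_ne_one.mp h2
  obtain ⟨b, rfl⟩ := (mem_Q_sl_pinf p).mp (h1 hv)
  have hb : b ≠ 0 := fun e => hv1 (Subtype.ext (by subst e; exact upT_zero))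
  have hsq : ∀ a : F, upT (a ^ 2 * b) ∈ V := fun a => by
    by_cases ha : a = 0
    · rw [ha, zero_pow two_ne_zero, zero_mul, upT_zero]; exact one_mem _
    · have := conj_mem (h3 (hN.ge (diagSL_smul_pinf (Units.mk0 a ha)))) hv
      rwa [diagSL_conj_upT] at this
  refine le_antisymm h1 fun y hy => ?_
  obtain ⟨c, rfl⟩ := (mem_Q_sl_pinf p).mp hy
  by_cases h2 : (2 : F) = 0
  · obtain ⟨a, ha⟩ := FiniteField.isSquare_of_char_two (F := F) (by
      have : CharP F 2 := (CharP.charP_iff_prime_eq_zero Nat.prime_two).mpr (by exact_mod_cast h2)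
      exact ringChar.eq F 2) (c / b)
    have := hsq a
    rwa [pow_two, ← ha, div_mul_cancel₀ _ hb] at this
  · have := V.mul_mem (hsq ((c / b + 1) / 2)) (V.inv_mem (hsq ((c / b - 1) / 2)))
    rw [← upT_neg, ← upT_add] at this
    convert this using 2
    field_simp
    ring

end SL2

/-! ### `Sz(q)` -/

open CL.Chev.Sz in
theorem rk1_sz {F : Type*} [Field F] [Finite F] (M : Model G F) {Y : Subgroup G}
    (hY : IsElementaryAbelian 2 Y) (hc : Nat.card Y = Nat.card F) : RK1 2 Y := by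
  have : Fact (Nat.Prime 2) := ⟨Nat.prime_two⟩
  have := M.finite
  obtain ⟨m, hm, hq⟩ := M.toTits.exists_card
  obtain ⟨g, hg⟩ := M.exists_le_conj_U (elem_isP hY)
  generalize M.conj g = M at hg
  have e : Y = M.Z := eq_of_le_of_card_ge (fun y hy => M.mem_Z_of_sq (M.U_le_B (hg hy)) (by
    rw [← pow_two]; exact (elem_iff.mp hY).2 y hy)) (by rw [M.card_Z, hc])
  subst e
  refine ⟨fun x h1 h2 => M.mem_Z_of_sq (M.normalizer_Z ▸ h1) (by rwa [← pow_two]),
    fun V h1 h2 h3 => ?_, pDec_two_of_inverts fun x hx hx2 => ?_⟩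
  · obtain ⟨⟨v, hv⟩, hv1⟩ := ne_bot_iff_exists_ne_one.mp h2
    obtain ⟨b, rfl⟩ := M.mem_Z.mp (h1 hv)
    have hb : b ≠ 0 := fun e => hv1 (Subtype.ext (M.T_eq_one.mpr ⟨rfl, e⟩))
    refine le_antisymm h1 fun y hy => ?_
    obtain ⟨c, rfl⟩ := M.mem_Z.mp hy
    by_cases hc : c = 0
    · rw [M.T_eq_one.mpr ⟨rfl, hc⟩]; exact one_mem _
    · obtain ⟨d, hd⟩ := M.toTits.exists_unit_σ_mul_sq hb hc
      have := conj_mem (h3 (M.normalizer_Z ▸ M.D_mem_B d)) hv
      rwa [M.D_conj_T, mul_zero, hd] at this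
  · rcases M.centralizer_cases hx with ⟨k, h1, -⟩ | ⟨k, h1, -⟩ | h1
    · exact absurd (eq_one_of_coprime_of_mem (M.conj k).isPGroup_U hx2 h1) hx
    · obtain ⟨c, rfl⟩ := (M.conj k).mem_H.mp h1
      have hw : (M.conj k).w * (M.conj k).w = 1 := by
        rw [← pow_two, ← (M.conj k).orderOf_w, pow_orderOf_eq_one]
      exact ⟨_, (M.conj k).w_ne_one, hw, by
        rw [inv_eq_of_mul_eq_one_right hw, (M.conj k).w_conj_D]⟩
    · obtain ⟨t, ht⟩ := exists_prime_orderOf_dvd_card' (G := normalizer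
        (centralizer ({x} : Set G) : Set G)) 2 (by
        rw [h1.card_normalizer hm hq]; exact Dvd.dvd.mul_right (by norm_num) _)
      have ht2 : (t : G) * t = 1 := by
        rw [← pow_two, ← ht, ← orderOf_coe, pow_orderOf_eq_one]
      have ht1 : (t : G) ≠ 1 := fun e => by
        rw [← orderOf_coe, e, orderOf_one] at ht; exact absurd ht (by norm_num)
      refine ⟨t, ht1, ht2, inverts_of_inf_cent_eq_bot ht2 t.2 (eq_bot_iff.mpr fun y hy => ?_)
        (mem_cent_singleton.mpr rfl)⟩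
      by_contra hy1
      have h2 := (h1.of_mem hy1 hy.1).of_comm ht1 (mem_cent_singleton.mp hy.2)
      refine M.odd_sq_add_one (dvd_trans ?_ h2.orderOf_dvd)
      rw [orderOf_coe, ht]

end CL.Even
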