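/-
The family `𝔏_G(Y_M)`.
-/
import Cfsg.Agent.Even.RK1
import Cfsg.Agent.Even.FrakM

namespace CL.Even

open Cfsg Subgroup CL.Grp
open scoped commutatorElement MatrixGroups

variable {G : Type*} [Group G] {p : ℕ} [Finite G] [Fact p.Prime]

/-- the structure of `L / C_Y(L)` for `L ∈ 𝔏_G(Y)` -/
structure FLq (p : ℕ) (Y M A : Subgroup G) {X : Type*} [Group X] (φ : G →* X) : Prop where
  elem : IsElementaryAbelian p Y
  isP : IsPGroup p A
  umax : UMax Y M ⊤
  le_norm : M ≤ 𝒩(Y)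
  ncl_Y : ncl ⊤ Y = ⊤
  ncl_A : ncl ⊤ (Y ⊓ A) = A
  A_le : A ≤ 𝒩(Y)
  ti : ∀ g ∉ M, Y ⊓ cj g Y = ⊥
  surj : Function.Surjective φ
  ker : φ.ker = A
  core : pCore p X = ⊥
  rk : RK1 p (Y.map φ)

namespace FLq

variable {Y M A : Subgroup G} {X : Type*} [Group X] {φ : G →* X} (h : FLq p Y M A φ)
include h

omit [Finite G] [Fact p.Prime] in
theorem normal : A.Normal := h.ker ▸ φ.normal_ker

omit [Finite G] [Fact p.Prime] in
theorem cj_A (g : G) : cj g A = A := cj_eq (normal_iff_top_le.mp h.normal (mem_top g))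

omit [Finite G] [Fact p.Prime] in
theorem A_le_cj (g : G) : A ≤ 𝒩(cj g Y) := by
  rw [← cj_norm, ← h.cj_A g]; exact cj_mono g h.A_le

omit [Finite G] [Fact p.Prime] in
theorem cj_le_cent (g : G) : cj g Y ≤ 𝒞(cj g Y) := elem_le_cent (elem_map _ h.elem)

omit [Fact p.Prime] in
theorem sup_cj {g : G} (hg : g ∉ M) : Y ⊔ cj g Y = ⊤ := h.umax.sup_cj_eq h.ncl_Y (mem_top g) hg

omit [Fact p.Prime] in
theorem A_eq {g : G} (hg : g ∉ M) : (Y ⊓ A) ⊔ (cj g Y ⊓ A) = A := by
  have := h.normal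
  refine le_antisymm (sup_le inf_le_right inf_le_right) ?_
  conv_lhs => rw [← h.ncl_A]
  refine ncl_le le_sup_left ?_
  rw [← h.sup_cj hg]
  refine sup_le (le_norm_of_commutator_le ?_) (le_norm_of_commutator_le ?_)
  · exact le_sup_of_le_left ((commutator_mono (sup_le inf_le_right inf_le_right) le_rfl).trans
      (le_inf (commutator_le_of_le_norm' h.A_le) (commutator_le_left _ _)))
  · exact le_sup_of_le_right ((commutator_mono (sup_le inf_le_right inf_le_right) le_rfl).trans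
      (le_inf (commutator_le_of_le_norm' (h.A_le_cj g)) (commutator_le_left _ _)))

omit [Fact p.Prime] in
theorem exists_mul {g : G} (hg : g ∉ M) {a : G} (ha : a ∈ A) :
    ∃ u ∈ Y ⊓ A, ∃ v ∈ cj g Y ⊓ A, u * v = a :=
  (mem_sup_nl (inf_le_right.trans (le_norm_inf h.A_le le_normalizer))).mp ((h.A_eq hg).ge ha)

omit [Finite G] [Fact p.Prime] in
theorem exists_not_mem : ∃ g, g ∉ M := by
  by_contra e
  push Not at e
  exact h.umax.not_le fun x _ => e x

omit [Fact p.Prime] in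
theorem A_le_cent : A ≤ 𝒞(A) := by
  obtain ⟨g, hg⟩ := h.exists_not_mem
  have h1 : Y ⊓ A ≤ 𝒞(cj g Y ⊓ A) := by
    rw [← commutator_eq_bot_iff', eq_bot_iff, ← h.ti g hg]
    exact le_inf ((commutator_mono inf_le_right inf_le_left).trans (commutator_le_of_le_norm' h.A_le))
      ((commutator_mono inf_le_left inf_le_right).trans (commutator_le_of_le_norm (h.A_le_cj g)))
  rw [← h.A_eq hg, cent_sup]
  exact le_inf (sup_le (inf_le_left.trans ((elem_le_cent h.elem).trans (cent_mono inf_le_left)))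
    (le_centralizer_iff.mp h1))
    (sup_le h1 (inf_le_left.trans ((h.cj_le_cent g).trans (cent_mono inf_le_left))))

omit [Finite G] [Fact p.Prime] in
theorem eq_one_of_central {g : G} (hg : g ∉ M) {v : G} (hv : v ∈ cj g Y)
    (hc : ⊤ ≤ centralizer ({v} : Set G)) : v = 1 := by
  have h1 := mem_cj.mp hv
  rw [mul_assoc, ← mem_cent_singleton.mp (hc (mem_top g)), inv_mul_cancel_left] at h1
  exact (h.ti g hg).le ⟨h1, hv⟩

omit [Fact p.Prime] in
theorem mem_A_of_mem {g : G} (hg : g ∉ M) {y : G} (hy : y ∈ Y) (hy' : y ∈ cj g M) : y ∈ A := by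
  have h0 : ∀ k : X, φ y ∈ cj k (Y.map φ) → cj k (Y.map φ) ≤ centralizer ({φ y} : Set X) :=
    fun k hk => (elem_le_cent (elem_map _ (elem_map φ h.elem))).trans (cent_le_cent_singleton hk)
  have h1 : φ y ∈ cj (φ g) (Y.map φ) := by
    rw [mem_cj, ← map_inv, ← map_mul, ← map_mul]
    refine h.rk.mem _ (map_le_norm_map φ h.le_norm (mem_map_of_mem φ (mem_cj.mp hy'))) ?_
    rw [← map_pow, ← inv_inv g, inv_inv g⁻¹, conj_pow, (elem_iff.mp h.elem).2 y hy]
    simp
  have h2 : ⊤ ≤ centralizer ({φ y} : Set X) := by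
    rw [← map_top_of_surjective φ h.surj, ← h.sup_cj hg, Subgroup.map_sup, cj_map]
    have := h0 1 (by rw [cj_one]; exact mem_map_of_mem φ hy)
    rw [cj_one] at this
    exact sup_le this (h0 _ h1)
  have h3 := le_pCore_of (normal_iff_top_le.mpr ((h2.trans (cent_zpowers _).ge).trans
    (cent_le_norm _))) (isPGroup_zpowers (p := p) (k := 1) (x := φ y) (by
      rw [pow_one, ← map_pow, (elem_iff.mp h.elem).2 y hy, map_one]))
  rw [h.core] at h3
  rw [← h.ker]
  exact h3 (mem_zpowers _)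

omit [Fact p.Prime] in
theorem mem_Y_of_comm {y a : G} (hy : y ∈ Y) (hyA : y ∉ A) (ha : a ∈ A) (hc : y * a = a * y) :
    a ∈ Y := by
  obtain ⟨g, hg⟩ := h.exists_not_mem
  obtain ⟨u, hu, v, hv, rfl⟩ := h.exists_mul hg ha
  have h1 : y * v = v * y := by
    rw [← mul_assoc, comm_of_mem (elem_le_cent h.elem hu.1) hy, mul_assoc, mul_assoc] at hc
    exact mul_left_cancel hc
  have h2 : ⊤ ≤ centralizer ({v} : Set G) := by
    by_contra e
    exact hyA (h.mem_A_of_mem hg hy ((h.umax.cj_mem (mem_top g)).le_of_not_le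
      ((h.cj_le_cent g).trans (cent_le_cent_singleton hv.1)) le_top e (mem_cent_singleton.mpr h1)))
  rw [h.eq_one_of_central hg hv.1 h2, mul_one]
  exact hu.1

omit [Fact p.Prime] in
theorem mem_cj_of_comm {k y a : G} (hy : y ∈ cj k Y) (hyA : y ∉ A) (ha : a ∈ A)
    (hc : y * a = a * y) : a ∈ cj k Y := by
  refine mem_cj.mpr (h.mem_Y_of_comm (mem_cj.mp hy) (fun e => hyA ?_) ?_ ?_)
  · rw [← h.cj_A k]; exact mem_cj.mpr e
  · rw [← h.cj_A k] at ha; exact mem_cj.mp ha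
  · calc _ = k⁻¹ * (y * a) * k := by group
      _ = _ := by rw [hc]; group

theorem exists_cj {y : G} (hy : φ y ^ p = 1) : ∃ k : G, ∃ z ∈ cj k Y, φ z = φ y := by
  obtain ⟨T, hT, hYT⟩ := exists_isSylowIn_ge (elem_isP h.elem) h.umax.le
  obtain ⟨n, hn⟩ := isPGroup_iff_forall.mp h.isP (y ^ p) (by rwa [← h.ker, MonoidHom.mem_ker, map_pow])
  obtain ⟨k, -, hk⟩ := syl_conj_le (h.umax.syl h.ncl_Y hT hYT) (isPGroup_zpowers (k := n + 1) (x := y)
    (by rwa [pow_succ', pow_mul])) le_top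
  obtain ⟨z, hz, e⟩ := h.rk.mem _ (map_le_norm_map φ h.le_norm (mem_map_of_mem φ (hT.le
    (hk (conj_mem_cj k (mem_zpowers y)))))) (by
      rw [← map_pow, conj_pow, map_mul, map_mul, map_pow, hy]; simp)
  refine ⟨k⁻¹, _, conj_mem_cj k⁻¹ hz, ?_⟩
  rw [map_mul, map_mul, e, ← map_mul, ← map_mul]
  congr 1
  group

omit [Fact p.Prime] in
theorem eq_one_of_comm_mul {k₁ k₂ y₁ y₂ a : G} (h₁ : y₁ ∈ cj k₁ Y) (h₂ : y₂ ∈ cj k₂ Y)
    (h₁' : y₁ ∉ A) (h₂' : y₂ ∉ A) (hn : ¬ Commute y₁ y₂) (ha : a ∈ A)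
    (hc : y₁ * y₂ * a = a * (y₁ * y₂)) : a = 1 := by
  have := h.normal
  have h0 : cj k₁ Y ⊓ cj k₂ Y = ⊥ := by
    have h1 := h.ti (k₁⁻¹ * k₂) fun e => hn (by
      have := cj_eq (h.le_norm e)
      rw [cj_mul, ← cj_inj (g := k₁), cj_cj_inv] at this
      rw [this] at h₂
      exact comm_of_mem (h.cj_le_cent k₁ h₂) h₁)
    rwa [← cj_eq_bot (g := k₁), cj_inf, cj_mul, cj_cj_inv] at h1
  have h1 : y₂ * a * y₂⁻¹ * a⁻¹ = y₁⁻¹ * a * y₁ * a⁻¹ := by
    calc _ = y₁⁻¹ * (y₁ * y₂ * a) * y₂⁻¹ * a⁻¹ := by group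
      _ = _ := by rw [hc]; group
  have h2 : y₂ * a * y₂⁻¹ * a⁻¹ = 1 := by
    refine h0.le (mem_inf.mpr ⟨?_, ?_⟩)
    · rw [h1, mul_assoc, mul_assoc, ← mul_assoc a]
      exact mul_mem (inv_mem h₁) (conj_mem (h.A_le_cj k₁ ha) h₁)
    · rw [mul_assoc, mul_assoc, ← mul_assoc a]
      exact mul_mem h₂ (conj_mem (h.A_le_cj k₂ ha) (inv_mem h₂))
  refine h0.le (mem_inf.mpr ⟨h.mem_cj_of_comm h₁ h₁' ha ?_, h.mem_cj_of_comm h₂ h₂' ha ?_⟩)
  · rw [h1] at h2
    calc _ = y₁ * (y₁⁻¹ * a * y₁ * a⁻¹) * a := by rw [h2, mul_one]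
      _ = _ := by group
  · calc _ = (y₂ * a * y₂⁻¹ * a⁻¹) * a * y₂ := by group
      _ = _ := by rw [h2, one_mul]

/-- `p'`-elements act fixed-point-freely on `A` -/
theorem fpf {x a : G} (hx : (orderOf x).Coprime p) (ha : a ∈ A) (hc : x * a = a * x) :
    x = 1 ∨ a = 1 := by
  have := h.normal
  refine or_iff_not_imp_left.mpr fun hx1 => by_contra fun ha1 => ?_
  have hker : ∀ {s t : G}, φ s = φ t → s⁻¹ * t ∈ A := fun e => by
    rw [← h.ker, MonoidHom.mem_ker, map_mul, map_inv, e, inv_mul_cancel]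
  have hcm : ∀ {s t b : G}, φ s = φ t → b ∈ A → s * b = b * s → t * b = b * t :=
    fun {s t b} e hb e' => by
      have := comm_of_mem (h.A_le_cent (hker e)) hb
      calc t * b = s * (s⁻¹ * t * b) := by group
        _ = _ := by rw [← this, ← mul_assoc, e']; group
  have hx' : (orderOf (φ x)).Coprime p := hx.coprime_dvd_left (orderOf_map_dvd φ x)
  have hx1' : φ x ≠ 1 := fun e => hx1 (eq_one_of_coprime_of_mem h.isP hx (by rwa [← h.ker]))
  obtain ⟨u, y₁, y₂, h1, h2, h3, h4, h5, h6, h7⟩ := h.rk.dec _ hx1' hx'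
  obtain ⟨u, rfl⟩ := h.surj u
  obtain ⟨y₁, rfl⟩ := h.surj y₁
  obtain ⟨y₂, rfl⟩ := h.surj y₂
  obtain ⟨k₁, z₁, hz₁, e₁⟩ := h.exists_cj h3
  obtain ⟨k₂, z₂, hz₂, e₂⟩ := h.exists_cj h4
  obtain ⟨n, hn⟩ := isPGroup_iff_forall.mp h.isP (u ^ p) (by rwa [← h.ker, MonoidHom.mem_ker, map_pow])
  have h8 : zpowers u ≤ 𝒩(A ⊓ centralizer ({x} : Set G)) := zpowers_le.mpr (mem_norm_of_cj_le (by
    rintro _ ⟨b, hb, rfl⟩
    have hb' : u * b * u⁻¹ ∈ A := this.conj_mem b hb.1 u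
    refine ⟨hb', mem_cent_singleton.mpr (hcm (s := u * x * u⁻¹) ?_ hb' ?_).symm⟩
    · rw [map_mul, map_mul, ← h2.eq, map_inv, mul_inv_cancel_right]
    · calc _ = u * (x * b) * u⁻¹ := by group
        _ = _ := by rw [← mem_cent_singleton.mp hb.2]; group))
  obtain ⟨⟨b, hb⟩, hb1⟩ := ne_bot_iff_exists_ne_one.mp (inf_cent_ne_bot (h.isP.to_le inf_le_left)
    (isPGroup_zpowers (k := n + 1) (x := u) (by rwa [pow_succ', pow_mul])) h8 fun e =>
      ha1 (e.le ⟨ha, mem_cent_singleton.mpr hc.symm⟩))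
  refine hb1 (Subtype.ext (h.eq_one_of_comm_mul hz₁ hz₂ (fun e => h5 ?_) (fun e => h6 ?_)
    (fun e => hx1' (eq_one_of_coprime_of_pow (k := 1) hx' ?_)) hb.1.1
    (hcm (s := x * u) (by rw [map_mul, map_mul, h7, e₁, e₂]) hb.1.1 ?_)))
  · rwa [← e₁, ← MonoidHom.mem_ker, h.ker]
  · rwa [← e₂, ← MonoidHom.mem_ker, h.ker]
  · have := e.map φ
    rw [e₁, e₂] at this
    have h9 := h2.mul_pow p
    rw [h7, this.mul_pow, h3, h4, h1, mul_one, mul_one] at h9
    rw [pow_one, ← h9]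
  · rw [mul_assoc, comm_of_mem hb.2 (mem_zpowers u), ← mul_assoc, ← mem_cent_singleton.mp hb.1.2,
      mul_assoc]

end FLq

theorem pCore_quotient_pCore : pCore p (G ⧸ pCore p G) = ⊥ :=
  pCore_quotient_eq_bot_iff.mpr fun _ hD hr =>
    le_pCore_of hD (isPGroup_of_res_le pCore_isP hr)

namespace FrakL

variable {M L : Subgroup G} (h : IsInFrakL p M L)
include h

theorem umax : UMax (largestPReducedOf p M) (L ⊓ 𝒩(largestPReducedOf p M)) L :=
  ⟨le_inf h.1 le_normalizer, h.2.2.2.2.2.1.1, h.2.2.2.2.2.1.2⟩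

theorem ncl_eq : ncl L (largestPReducedOf p M) = L := by
  have := congrArg (Subgroup.map L.subtype) (isMinimalOver_iff.mp h.2.2.2.1).1
  rwa [map_ncl, map_subtype_top, map_subgroupOf_eq_of_le h.1] at this

theorem not_le_core : ¬ largestPReducedOf p M ≤ pCoreOf p L := fun e => (umax h).not_le
  ((ncl_eq h).ge.trans ((ncl_le e (self_le_norm_core L)).trans (le_inf (core_le L) h.2.2.1)))

theorem rk1 : RK1 p (((largestPReducedOf p M).subgroupOf L).map (QuotientGroup.mk' (pCore p L))) := by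
  set Y := largestPReducedOf p M
  set f := QuotientGroup.mk' (pCore p L)
  have hel : IsElementaryAbelian p ((Y.subgroupOf L).map f) :=
    elem_map _ (elem_subgroupOf (Y_elem M) L)
  have hcard : Nat.card ((Y.subgroupOf L).map f) = (Y ⊓ pCoreOf p L).relIndex Y := by
    rw [← relIndex_ker, QuotientGroup.ker_mk', ← subgroupOf_core, relIndex_subgroupOf h.1,
      inf_relIndex_left]
  have htwo : p = 2 → Nat.card ((Y.subgroupOf L).map f) = 2 → RK1 p ((Y.subgroupOf L).map f) := by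
    rintro rfl e
    obtain ⟨g, hg, hg'⟩ := SetLike.not_le_iff_exists.mp (umax h).not_le
    refine rk1_of_card_two e (g := f ⟨g, hg⟩) ?_ pCore_quotient_pCore
    rw [← cj_map, ← Subgroup.map_sup, ← map_top_of_surjective f (QuotientGroup.mk'_surjective _)]
    congr 1
    apply map_injective L.subtype_injective
    rw [Subgroup.map_sup, cj_map, map_subgroupOf_eq_of_le h.1, map_subtype_top]
    exact (umax h).sup_cj_eq (ncl_eq h) hg hg'
  rcases h.2.2.2.2.2.2 with ⟨F, _, _, h1, ⟨e⟩⟩ | ⟨rfl, F, _, _, m, h1, h2, ⟨e⟩⟩ | ⟨rfl, r, h1, h2, ⟨e⟩⟩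
  · exact RK1.of_map e (rk1_sl ((elem_isP hel).map _) (by
      rw [card_map_of_injective e.injective, hcard, h1]))
  · rcases Nat.eq_zero_or_pos m with rfl | hm
    · exact htwo rfl (by rw [hcard, ← h2, h1]; rfl)
    · exact RK1.of_map e (rk1_sz (CL.Chev.Sz.modelLie hm h1) (elem_map _ hel) (by
        rw [card_map_of_injective e.injective, hcard, ← h2, Nat.card_eq_fintype_card]))
  · refine htwo rfl ?_
    obtain ⟨n, hn⟩ := (elem_isP hel).exists_card_eq
    have h3 := card_subgroup_dvd_card ((Y.subgroupOf L).map f)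
    rw [Nat.card_congr e.toEquiv, DihedralGroup.nat_card, hn] at h3
    have h4 := (Nat.Coprime.pow_left n ((Nat.coprime_primes Nat.prime_two h1).mpr h2.symm)
      ).dvd_of_dvd_mul_right h3
    rcases (Nat.dvd_prime Nat.prime_two).mp h4 with e' | e'
    · refine absurd ?_ (not_le_core h)
      rw [← hn, card_eq_one, map_mk'_eq_bot_iff, ← subgroupOf_core, le_subgroupOf_iff,
        map_subgroupOf_eq_of_le h.1] at e'
      exact e'
    · rw [hn, e']

theorem fpf {x a : G} (hx : x ∈ L) (hp : ¬ ∃ k : ℕ, x ^ p ^ k = 1) (ha : a ∈ pCoreOf p L)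
    (hc : x * a * x⁻¹ * a⁻¹ ∈ largestPReducedOf p M ⊓ 𝒞(L)) : a ∈ largestPReducedOf p M ⊓ 𝒞(L) := by
  have hu := umax h
  have hn := ncl_eq h
  have hrk := rk1 h
  have hA := h.2.1
  set Y := largestPReducedOf p M
  have hYL : Y ≤ L := h.1
  have hCL : L ≤ 𝒞(Y ⊓ 𝒞(L)) := le_centralizer_iff.mp inf_le_right
  have : ((Y ⊓ 𝒞(L)).subgroupOf L).Normal := (normal_subgroupOf_iff_le_normalizer
    (inf_le_left.trans hYL)).mpr (hCL.trans (cent_le_norm _))
  set π := QuotientGroup.mk' ((Y ⊓ 𝒞(L)).subgroupOf L)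
  have hs : Function.Surjective π := QuotientGroup.mk'_surjective _
  have hCA : (Y ⊓ 𝒞(L)).subgroupOf L ≤ (pCore p L).comap (MonoidHom.id L) := by
    rw [comap_id]
    exact le_pCore_of this ((Y_isP M).to_le inf_le_left).comap_subtype
  have hu' : UMax (Y.subgroupOf L) ((L ⊓ 𝒩(Y)).subgroupOf L) ⊤ := by
    rwa [umax_subtype_iff, map_subgroupOf_eq_of_le hYL, map_subgroupOf_eq_of_le inf_le_left]
  have hn' : ncl ⊤ (Y.subgroupOf L) = ⊤ := by
    apply map_injective L.subtype_injective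
    rw [map_ncl, map_subtype_top, map_subgroupOf_eq_of_le hYL, hn]
  have hN : ∀ K : Subgroup G, K ≤ L → K ≤ 𝒩(Y) → (K.subgroupOf L).map π ≤
      𝒩((Y.subgroupOf L).map π) := fun K h1 h2 => map_le_norm_map π (by
    rwa [← map_norm_of_injective L.subtype_injective, map_subgroupOf_eq_of_le h1,
      map_subgroupOf_eq_of_le hYL])
  have hq : FLq p ((Y.subgroupOf L).map π) (((L ⊓ 𝒩(Y)).subgroupOf L).map π) ((pCore p L).map π)
      (QuotientGroup.map _ _ (MonoidHom.id L) hCA) := by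
    refine ⟨elem_map _ (elem_subgroupOf (Y_elem M) L), pCore_isP.map _, ?_,
      hN _ inf_le_left inf_le_right, ?_, le_antisymm (ncl_le inf_le_right ?_) ?_, ?_, fun g hg => ?_,
      QuotientGroup.map_surjective_of_surjective _ _ (MonoidHom.id L)
        (QuotientGroup.mk'_surjective _) hCA, by rw [QuotientGroup.ker_map, comap_id],
      pCore_quotient_pCore, by rw [map_map]; exact hrk⟩
    · rw [← map_top_of_surjective π hs]
      refine hu'.map π (inf_le_left.trans ?_)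
      rw [QuotientGroup.ker_mk']
      exact (comap_mono inf_le_left).trans hu'.le
    · rw [← map_top_of_surjective π hs, ← map_ncl, hn']
    · exact normal_iff_top_le.mp (Normal.map inferInstance π hs)
    · have h1 : pCore p L = ncl ⊤ (Y.subgroupOf L ⊓ pCore p L) := by
        apply map_injective L.subtype_injective
        rw [ncl_top, ← subgroupOf_core, map_subgroupOf_eq_of_le (core_le L)]
        exact hA
      conv_lhs => rw [h1, map_ncl]
      exact ncl_mono le_top (map_inf_le _ _ _)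
    · rw [← subgroupOf_core]; exact hN _ (core_le L) h.2.2.1
    · obtain ⟨g, rfl⟩ := hs g
      have hg' : (g : G) ∉ L ⊓ 𝒩(Y) := fun e => hg (mem_map_of_mem π e)
      rw [← cj_map, eq_bot_iff]
      rintro _ ⟨⟨y, hy, rfl⟩, z, hz, e⟩
      have h1 : (z : G)⁻¹ * y ∈ Y ⊓ 𝒞(L) := mem_subgroupOf.mp (QuotientGroup.eq.mp e)
      have h2 : (z : G) ∈ cj (g : G) Y := mem_cj.mpr (mem_subgroupOf.mp (mem_cj.mp hz))
      have h3 : (y : G) ∈ cj (g : G) Y := by
        rw [← mul_inv_cancel_left (z : G) y]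
        refine mul_mem h2 (mem_cj.mpr ?_)
        rw [mul_assoc, ← comm_of_mem h1.2 g.2, inv_mul_cancel_left]
        exact h1.1
      refine (QuotientGroup.eq_one_iff y).mpr (mem_inf.mpr ⟨hy, ?_⟩)
      refine cent_mono (hu.sup_cj_eq hn g.2 hg').ge ?_
      rw [cent_sup]
      exact ⟨Y_le_cent M hy, elem_le_cent (elem_map _ (Y_elem M)) h3⟩
  obtain ⟨k, hk⟩ := exists_pow_coprime (p := p) (π ⟨x, hx⟩)
  have h1 : Commute (π ⟨x, hx⟩) (π ⟨a, core_le L ha⟩) := by
    rw [← commutatorElement_eq_one_iff_commute, ← map_commutatorElement]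
    exact (QuotientGroup.eq_one_iff _).mpr hc
  rcases hq.fpf hk (mem_map_of_mem π (show (⟨a, core_le L ha⟩ : L) ∈ pCore p L by
    rwa [← subgroupOf_core])) (h1.pow_left _).eq with e | e
  · rw [← map_pow] at e
    obtain ⟨n, hn⟩ := isPGroup_iff_forall.mp (Y_isP (p := p) M) _ ((QuotientGroup.eq_one_iff _).mp e).1
    exact absurd ⟨k + n, by rw [pow_add, pow_mul]; exact hn⟩ hp
  · exact mem_subgroupOf.mp ((QuotientGroup.eq_one_iff _).mp e)

end FrakL

end CL.Even
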