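/-
Klinger–Mason theorem, part 1: elementary abelian `p`-groups of maximal order acting on 2-groups in a group
that has both local characteristic `p` and local characteristic 2.
-/
import Cfsg.Agent.Loc.DihLemma
import Cfsg.Agent.Loc.Chief
import Cfsg.Agent.Even.ParChar
import Cfsg.Agent.Grp.PGroupCritical

set_option autoImplicit false

namespace CL.Even.KMa

open Cfsg Subgroup CL.Grp CL.Even
open scoped commutatorElement

variable {G : Type*} [Group G] {p n : ℕ}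

/-! ### index at most two -/

/-- `C` has index at most two in `H`. -/
def Two (C H : Subgroup G) : Prop := ∀ a ∈ H, ∀ b ∈ H, a ∉ C → b ∉ C → a * b ∈ C

theorem Two.comm_le {C H L : Subgroup G} (h : Two C H) (hCH : C ≤ H) (h1 : L ≤ 𝒩(H)) (h2 : L ≤ 𝒩(C)) :
    ⁅H, L⁆ ≤ C := by
  refine commutator_le.2 fun a ha l hl => ?_
  have e : ⁅a, l⁆ = a * (l * a⁻¹ * l⁻¹) := by rw [commutatorElement_def]; group
  rw [e]
  by_cases hc : a ∈ C
  · exact C.mul_mem hc (conj_mem (h2 hl) (C.inv_mem hc))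
  · refine h a ha _ (conj_mem (h1 hl) (H.inv_mem ha)) hc fun h' => hc ?_
    have := conj_mem' (h2 hl) h'
    simpa [mul_assoc] using this

theorem two_of_card [Finite G] {C H : Subgroup G} (hCH : C ≤ H) (h : Nat.card H ≤ 2 * Nat.card C) :
    Two C H := by
  have h1 := card_mul_relIndex hCH
  have h0 : 0 < Nat.card C := Nat.card_pos
  have h2 : C.relIndex H ≤ 2 := by
    by_contra h'
    nlinarith
  have h3 : C.relIndex H ≠ 0 := fun e => by
    rw [e] at h1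
    exact (Nat.card_pos (α := H)).ne' h1.symm
  intro a ha b hb ha' hb'
  rcases (by omega : C.relIndex H = 1 ∨ C.relIndex H = 2) with e | e
  · exact absurd (relIndex_eq_one.1 e ha) ha'
  · exact (mul_mem_iff_of_index_two (H := C.subgroupOf H) e (a := ⟨a, ha⟩) (b := ⟨b, hb⟩)).2
      ⟨fun h => absurd h ha', fun h => absurd h hb'⟩

theorem zp_cases {t x : G} (ht : t * t = 1) (hx : x ∈ zpowers t) : x = 1 ∨ x = t := by
  obtain ⟨n, rfl⟩ := mem_zpowers_iff.mp hx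
  have h2 : t ^ (2 : ℤ) = 1 := by rw [zpow_two, ht]
  rcases Int.even_or_odd' n with ⟨k, rfl | rfl⟩
  · left; rw [zpow_mul, h2, one_zpow]
  · right; rw [zpow_add, zpow_mul, h2, one_zpow, one_mul, zpow_one]

theorem elem_zp {t : G} (ht : t ^ p = 1) : IsElementaryAbelian p (zpowers t) :=
  ⟨inferInstance, by rintro _ ⟨k, rfl⟩; simp only; rw [← zpow_natCast, ← zpow_mul, mul_comm, zpow_mul,
    zpow_natCast, ht, one_zpow]⟩

theorem mul_card_le [Finite G] [hp : Fact p.Prime] {K L : Subgroup G} (hL : IsPGroup p L) (h : K ≤ L)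
    (h' : ¬ L ≤ K) : p * Nat.card K ≤ Nat.card L := by
  obtain ⟨k, hk⟩ := (hL.to_le h).exists_card_eq
  rw [hk, ← pow_succ']
  refine CL.Loc.pow_succ_le_card_of_lt hL (hk ▸ lt_of_le_of_ne (card_le_of_le h) fun e => h' ?_)
  exact (eq_of_le_of_card_ge h e.ge).ge

theorem card_dual [Finite G] [Fact p.Prime] {ι : Type*} (b x : ι → G) {D : Subgroup G}
    (hD : ∀ l, D ≤ centralizer {b l}) (h1 : ∀ l, x l ∉ centralizer {b l})
    (h2 : ∀ l m, m ≠ l → x l ∈ centralizer {b m}) (s : Finset ι) :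
    ∀ W : Subgroup G, IsPGroup p W → D ≤ W → (∀ l ∈ s, x l ∈ W) → Nat.card D * p ^ s.card ≤ Nat.card W := by
  classical
  induction s using Finset.induction_on with
  | empty => intro W _ h _; simpa using card_le_of_le h
  | insert l s hl ih =>
    intro W hW h hx
    have h3 := ih (W ⊓ centralizer {b l}) hW.to_inf_left (le_inf h (hD l)) fun m hm =>
      ⟨hx m (Finset.mem_insert_of_mem hm), h2 m l fun e => hl (e ▸ hm)⟩
    have h4 := mul_card_le hW (inf_le_left (b := centralizer {b l}))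
      fun h' => h1 l (h' (hx l (Finset.mem_insert_self _ _))).2
    rw [Finset.card_insert_of_notMem hl, pow_succ, ← mul_assoc, mul_comm _ p]
    exact (Nat.mul_le_mul_left _ h3).trans h4

/-- The standing hypothesis; `n` is the largest order of an elementary abelian `p`-subgroup of a 2-local
subgroup. -/
structure KM (G : Type*) [Group G] (p n : ℕ) : Prop where
  odd : p ≠ 2
  two : ∀ T : Subgroup G, IsPGroup 2 T → T ≠ ⊥ → IsCharP 2 𝒩(T)
  chp : ∀ T : Subgroup G, IsPGroup p T → T ≠ ⊥ → IsCharP p 𝒩(T)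
  max : ∀ B T : Subgroup G, IsElementaryAbelian p B → IsPGroup 2 T → T ≠ ⊥ → B ≤ 𝒩(T) → Nat.card B ≤ n
  big : p ^ 2 < n

variable [Finite G] [hp : Fact p.Prime]

theorem cop_of_pow {q : ℕ} (hq : q.Prime) (hne : p ≠ q) {x : G} (hx : x ^ p = 1) : (orderOf x).Coprime q :=
  ((Nat.coprime_primes hp.out hq).2 hne).coprime_dvd_left (orderOf_dvd_of_pow_eq_one hx)

namespace KM

variable (h : KM G p n)
include h

theorem cop {x : G} (hx : x ^ p = 1) : (orderOf x).Coprime 2 := cop_of_pow Nat.prime_two h.odd hx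

theorem copc {B T : Subgroup G} (hB : IsPGroup p B) (hT : IsPGroup 2 T) : (Nat.card B).Coprime (Nat.card T) :=
  IsPGroup.coprime_card_of_ne p 2 h.odd B T hB hT

theorem max' {B : Subgroup G} (hB : IsElementaryAbelian p B) {t : G} (ht : t * t = 1) (ht1 : t ≠ 1)
    (hBt : B ≤ centralizer {t}) : Nat.card B ≤ n :=
  h.max B (zpowers t) hB (elem_isP (elem_zp (by rwa [sq]))) (by simpa using ht1)
    (hBt.trans ((cent_zpowers t).ge.trans (cent_le_norm _)))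

theorem dual {D U : Subgroup G} (hD : IsElementaryAbelian p D) (hD1 : D ≠ ⊥) (hU : IsElementaryAbelian 2 U)
    (hUD : U ≤ 𝒞(D)) {k : ℕ} (hk : 2 ^ (k + 1) < Nat.card U) {z : G} (hz : z ∈ U) (hz1 : z ≠ 1) :
    ∃ t ∈ U, t ≠ 1 ∧ ∃ B' : Subgroup G, IsElementaryAbelian p B' ∧ B' ≤ centralizer {t} ∧
      Nat.card D * p ^ (k + 1) ≤ Nat.card B' ∧ ∃ x ∈ B', x ≠ 1 ∧ z * x * z⁻¹ = x⁻¹ := by
  classical
  have hC := (h.chp D (elem_isP hD) hD1).cent_of_norm
  set P := pCoreOf p 𝒞(D)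
  have hP : IsPGroup p P := core_isP _
  have hUP : U ≤ 𝒩(P) := hUD.trans (self_le_norm_core _)
  have hodd : ∀ Q : Subgroup G, IsPGroup p Q → ¬ 2 ∣ Nat.card Q := fun Q hQ h2 => by
    obtain ⟨m, hm⟩ := hQ.exists_card_eq
    exact h.odd ((Nat.prime_dvd_prime_iff_eq Nat.prime_two hp.out).1
      (Nat.prime_two.dvd_of_dvd_pow (hm ▸ h2))).symm
  obtain ⟨V, hVP, hUV, hV⟩ := CL.Loc.exists_invariant_selfCentralizing hU hUP (hodd P hP)
  have hVV : V ≤ 𝒞(V) := hV.ge.trans inf_le_right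
  have hDP : D ≤ P := le_core (elem_le_cent hD) (elem_isP hD) (cent_le_norm D)
  have hDV : D ≤ V := hV ▸ le_inf hDP (le_centralizer_iff.1 (hVP.trans (core_le _)))
  set W := omegaOne p V
  have hW : IsElementaryAbelian p W := CL.Loc.ea_omegaOne hVV
  have hDW : D ≤ W := fun d hd => (mem_omegaOne_of_comm hVV).2 ⟨hDV hd, hD.2 d hd⟩
  have hUW : U ≤ 𝒩(W) := hUV.trans (CL.Loc.normalizer_le_normalizer_omegaOne V)
  have hf : U ⊓ 𝒞(W) = ⊥ := eq_bot_iff.2 fun u hu => by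
    have hc : (orderOf u).Coprime p := cop_of_pow (p := 2) hp.out h.odd.symm (hU.2 u hu.1)
    have h1 := mem_centralizer_of_mem_centralizer_omegaOne h.odd (hP.to_le hVP) (hUV hu.1) hc hu.2
    refine hC.eq_one (hUD hu.1) hc (pxq_elt hP (hP.to_le hVP) (le_norm_of_le hVP) hc (hUP hu.1)
      (fun a ha => ?_) (hV.symm ▸ h1))
    rw [commutatorElement_eq_one_iff_mul_comm.2 (comm_of_mem h1 ha)]
    exact one_mem _
  obtain ⟨d, hd⟩ := (elem_isP hU).exists_card_eq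
  obtain ⟨b, x, h1, -, h2⟩ := CL.Loc.exists_dual_eig hU hUW (hodd W (elem_isP hW)) hf d U le_rfl hd
  have hkd : k + 1 < d := (Nat.pow_lt_pow_iff_right one_lt_two).1 (hd ▸ hk)
  obtain ⟨j, hj⟩ : ∃ j, z ∉ centralizer {x j} := by
    by_contra h'
    push Not at h'
    exact hz1 (mem_bot.1 (h2 ▸ ⟨hz, mem_iInf.2 h'⟩))
  have : Nontrivial (Fin d) := Fin.nontrivial_iff_two_le.2 (by omega)
  obtain ⟨i, hi⟩ := exists_ne j
  have sw : ∀ {u v : G}, u ∈ centralizer {v} → v ∈ centralizer {u} := fun h =>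
    mem_cent_singleton.2 (mem_cent_singleton.1 h).symm
  have hDb : ∀ l, D ≤ centralizer {b l} := fun l => le_cent_singleton (hUD (h1 l).1)
  refine ⟨b i, (h1 i).1, fun e => (h1 i).2.2.2.1 (e ▸ one_mem _), W ⊓ centralizer {b i},
    elem_of_le hW inf_le_left, inf_le_right, ?_, x j, ⟨(h1 j).2.1, sw ((h1 j).2.2.2.2 i hi)⟩,
    fun e => hj (by rw [e]; simp [mem_cent_singleton]), ?_⟩
  · refine le_trans (Nat.mul_le_mul_left _ (Nat.pow_le_pow_right hp.out.pos ?_))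
      (card_dual b x hDb (fun l h' => (h1 l).2.2.2.1 (sw h')) (fun l m hm => sw ((h1 l).2.2.2.2 m hm))
        (Finset.univ.erase i) _ (elem_isP hW).to_inf_left (le_inf hDW (hDb i)) fun l hl =>
          ⟨(h1 l).2.1, sw ((h1 l).2.2.2.2 i (Finset.ne_of_mem_erase hl).symm)⟩)
    rw [Finset.card_erase_of_mem (Finset.mem_univ _), Finset.card_univ, Fintype.card_fin]
    omega
  · exact ((h1 j).2.2.1 hz).resolve_left fun e => hj (mem_cent_singleton.2 (mul_inv_eq_iff_eq_mul.1 e))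

theorem rank {D U : Subgroup G} (hD : IsElementaryAbelian p D) (hD1 : D ≠ ⊥) (hU : IsElementaryAbelian 2 U)
    (hUD : U ≤ 𝒞(D)) {k : ℕ} (hk : n ≤ p ^ k * Nat.card D) : Nat.card U ≤ 2 ^ (k + 1) := by
  by_contra h'
  push Not at h'
  have hU1 : U ≠ ⊥ := by
    rintro rfl
    rw [card_bot] at h'
    exact absurd h' (not_lt.2 Nat.one_le_two_pow)
  obtain ⟨⟨z, hz⟩, hz1⟩ := ne_bot_iff_exists_ne_one.1 hU1
  obtain ⟨t, ht, ht1, B', h1, h2, h3, -⟩ := h.dual hD hD1 hU hUD h' hz fun e => hz1 (Subtype.ext e)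
  have h4 := h3.trans ((h.max' h1 (by rw [← sq, hU.2 t ht]) ht1 h2).trans hk)
  have h5 : 0 < p ^ k * Nat.card D := Nat.mul_pos (Nat.pow_pos hp.out.pos) Nat.card_pos
  have h6 := hp.out.two_le
  rw [pow_succ] at h4
  nlinarith

end KM

/-- `D` has index at most `p` in `B`. -/
def Hyp (p : ℕ) (B D : Subgroup G) : Prop := D ≤ B ∧ Nat.card B ≤ p * Nat.card D

theorem le_of_hyp {B T M : Subgroup G} (hB : IsElementaryAbelian p B) (hBT : B ≤ 𝒩(T))
    (hc : (Nat.card B).Coprime (Nat.card T)) (hM : ∀ D, Hyp p B D → T ⊓ 𝒞(D) ≤ M) : T ≤ M := by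
  have := hB.1
  exact le_of_forall_cocyclic_centralizer_le hBT hc fun D hD ⟨a, ha, e⟩ =>
    hM D ⟨hD, e ▸ CL.Loc.card_sup_zpowers_le hB hD ha⟩

theorem Hyp.dich {B D₁ D : Subgroup G} (hB : IsElementaryAbelian p B) (h1 : Hyp p B D₁) (h : Hyp p B D) :
    D₁ ≤ D ∨ D₁ ⊔ D = B := by
  refine or_iff_not_imp_left.2 fun h' => eq_of_le_of_card_ge (sup_le h1.1 h.1) (h.2.trans ?_)
  exact mul_card_le ((elem_isP hB).to_le (sup_le h1.1 h.1)) le_sup_right fun h2 => h' (le_sup_left.trans h2)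

theorem Hyp.inf {B D₁ D₂ : Subgroup G} (hB : IsElementaryAbelian p B) (h1 : Hyp p B D₁) (h2 : Hyp p B D₂) :
    Nat.card B ≤ p ^ 2 * Nat.card (D₁ ⊓ D₂ : Subgroup G) := by
  have h3 := card_sup_mul_card_inf (H := D₁) (K := D₂)
    (h1.1.trans ((elem_le_cent hB).trans ((cent_mono h2.1).trans (cent_le_norm _))))
  have h4 := card_le_of_le (sup_le h1.1 h2.1)
  have h5 := Nat.mul_le_mul h1.2 h2.2
  have h0 : 0 < Nat.card B := Nat.card_pos
  refine Nat.le_of_mul_le_mul_left (h5.trans ?_) h0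
  calc p * Nat.card D₁ * (p * Nat.card D₂) = p ^ 2 * (Nat.card D₁ * Nat.card D₂) := by ring
    _ ≤ p ^ 2 * (Nat.card B * Nat.card (D₁ ⊓ D₂ : Subgroup G)) :=
      Nat.mul_le_mul_left _ (h3 ▸ Nat.mul_le_mul_right _ h4)
    _ = _ := by ring

theorem le_norm_cent_of_le {B D : Subgroup G} (hB : IsElementaryAbelian p B) (h : D ≤ B) : B ≤ 𝒩(𝒞(D)) :=
  le_norm_of_le ((elem_le_cent hB).trans (cent_mono h))

namespace KM

variable (h : KM G p n) {B : Subgroup G} (hB : IsElementaryAbelian p B) (hn : Nat.card B = n)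
include h hB hn

theorem ne_bot_of_le {D : Subgroup G} (hD : Nat.card B ≤ p ^ 2 * Nat.card D) : D ≠ ⊥ := by
  rintro rfl
  have := h.big
  rw [card_bot, hn] at hD
  omega

theorem hyp_ne_bot {D : Subgroup G} (hD : Hyp p B D) : D ≠ ⊥ :=
  h.ne_bot_of_le hB hn (by simpa using hD.inf hB hD)

theorem fF {D X : Subgroup G} (hD : Hyp p B D) (hX : IsElementaryAbelian 2 X) (hBX : B ≤ 𝒩(X))
    (hXD : X ≤ 𝒞(D)) (hXB : ¬ X ≤ 𝒞(B)) : X ⊓ 𝒞(B) = ⊥ ∧ 4 ≤ Nat.card X := by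
  have h1 := h.rank (elem_of_le hB hD.1) (h.hyp_ne_bot hB hn hD) hX hXD (k := 1) (by simpa [← hn] using hD.2)
  have h2 : ¬ Nat.card X ≤ 2 * Nat.card (X ⊓ 𝒞(B) : Subgroup G) := fun h2 => by
    have h3 := (two_of_card inf_le_left h2).comm_le inf_le_left hBX
      (le_norm_inf hBX (le_norm_cent le_normalizer))
    refine hXB (le_centralizer_iff.1 fun b hb => ?_)
    exact mem_cent_of_coprime (elem_isP hX).to_inf_left (h.cop (hB.2 b hb))
      (fun r hr => h3 (commutator_mem_commutator hr hb)) (le_centralizer_iff.1 inf_le_right hb)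
  have h3 : 0 < Nat.card (X ⊓ 𝒞(B) : Subgroup G) := Nat.card_pos
  refine ⟨card_eq_one.1 (by omega), ?_⟩
  exact CL.Loc.pow_succ_le_card_of_lt (k := 1) (elem_isP hX) (by omega)

theorem fG {D₁ D₂ X₁ X₂ : Subgroup G} (hD₁ : Hyp p B D₁) (hD₂ : Hyp p B D₂) (e : D₁ ⊔ D₂ = B)
    (hX₁ : IsElementaryAbelian 2 X₁) (hB₁ : B ≤ 𝒩(X₁)) (h₁ : X₁ ≤ 𝒞(D₁)) (hXB : ¬ X₁ ≤ 𝒞(B))
    (hX₂ : IsElementaryAbelian 2 X₂) (hB₂ : B ≤ 𝒩(X₂)) (h₂ : X₂ ≤ 𝒞(D₂)) (hc : X₁ ≤ 𝒞(X₂)) : X₂ = ⊥ := by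
  have hX := elem_sup hX₁ hX₂ hc
  by_cases h' : X₂ ≤ 𝒞(B)
  · have := (h.fF hB hn hD₁ hX (le_norm_sup hB₁ hB₂) (sup_le h₁ (h'.trans (cent_mono hD₁.1)))
      fun h => hXB (le_sup_left.trans h)).1
    exact eq_bot_iff.2 (this ▸ le_inf le_sup_right h')
  obtain ⟨h3, h4⟩ := h.fF hB hn hD₁ hX₁ hB₁ h₁ hXB
  have h5 := (h.fF hB hn hD₂ hX₂ hB₂ h₂ h').2
  have h6 := card_sup_of_inf_eq_bot (hc.trans (cent_le_norm _)) (eq_bot_iff.2 (h3 ▸ le_inf inf_le_left
    (by rw [← e, cent_sup]; exact inf_le_inf h₁ h₂)))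
  have h7 := hD₁.inf hB hD₂
  have h8 := h.rank (elem_of_le hB (inf_le_left.trans hD₁.1)) (h.ne_bot_of_le hB hn h7) hX
    (sup_le (h₁.trans (cent_mono inf_le_left)) (h₂.trans (cent_mono inf_le_right))) (hn ▸ h7)
  have h9 := Nat.mul_le_mul h4 h5
  omega

theorem fS {T V : Subgroup G} (hT : IsPGroup 2 T) (hBT : B ≤ 𝒩(T)) (hf : B ⊓ 𝒞(T) = ⊥)
    (hV : IsElementaryAbelian 2 V) (hVT : V ≤ T) (hBV : B ≤ 𝒩(V)) : V ≤ 𝒞(B) := by
  refine le_of_hyp hB hBV (h.copc (elem_isP hB) (elem_isP hV)) fun D₁ hD₁ => ?_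
  by_contra hX
  have hBX : B ≤ 𝒩(V ⊓ 𝒞(D₁)) := le_norm_inf hBV (le_norm_cent_of_le hB hD₁.1)
  have hXe := elem_of_le hV (inf_le_left (b := 𝒞(D₁)))
  set Z := omegaOneCenter 2 T
  have hBZ : B ≤ 𝒩(Z) := le_norm_ozc hBT
  have hXZ : V ⊓ 𝒞(D₁) ≤ 𝒞(Z) := (inf_le_left.trans hVT).trans (le_cent_ozc T)
  have hZ : Z ≤ 𝒞(D₁) := le_of_hyp hB hBZ (h.copc (elem_isP hB) (ozc_isP T)) fun D hD => by
    rcases hD₁.dich hB hD with h1 | h1
    · exact inf_le_right.trans (cent_mono h1)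
    · rw [h.fG hB hn hD₁ hD h1 hXe hBX inf_le_right hX (elem_of_le (ozc_elem T) inf_le_left)
        (le_norm_inf hBZ (le_norm_cent_of_le hB hD.1)) inf_le_right (hXZ.trans (cent_mono inf_le_left))]
      exact bot_le
  have hZB : ¬ Z ≤ 𝒞(B) := fun h' => by
    have := (h.fF hB hn hD₁ (elem_sup hXe (ozc_elem T) hXZ) (le_norm_sup hBX hBZ) (sup_le inf_le_right hZ)
      fun h => hX (le_sup_left.trans h)).1
    refine ozc_ne_bot hT (fun e => hX ?_) (eq_bot_iff.2 (this ▸ le_inf le_sup_right h'))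
    exact (inf_le_left.trans (hVT.trans e.le)).trans bot_le
  have hT' : T ≤ 𝒞(D₁) := le_of_hyp hB hBT (h.copc (elem_isP hB) hT) fun D hD => by
    rcases hD₁.dich hB hD with h1 | h1
    · exact inf_le_right.trans (cent_mono h1)
    by_contra h'
    refine ozc_ne_bot (hT.to_inf_left (K := 𝒞(D))) (fun e => h' (e.le.trans bot_le)) ?_
    exact h.fG hB hn hD₁ hD h1 (ozc_elem T) hBZ hZ hZB (ozc_elem _)
      (le_norm_ozc (le_norm_inf hBT (le_norm_cent_of_le hB hD.1))) ((ozc_le _).trans inf_le_right)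
      ((ozc_le_cent T).trans (cent_mono ((ozc_le _).trans inf_le_left)))
  exact h.hyp_ne_bot hB hn hD₁ (eq_bot_iff.2 (hf ▸ le_inf hD₁.1 (le_centralizer_iff.1 hT')))

end KM

end CL.Even.KMa
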