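/-
Klinger–Mason theorem, part 2: critical subgroups of symplectic type.
-/
import Cfsg.Agent.Even.KM1

set_option autoImplicit false

namespace CL.Even.KMa

open Cfsg Subgroup CL.Grp CL.Even
open scoped commutatorElement

variable {G : Type*} [Group G] {p n : ℕ}

/-- `K` is a critical subgroup of symplectic type in `O₂(C(z))`. -/
structure Sym (z : G) (K : Subgroup G) : Prop where
  zz : z * z = 1
  z1 : z ≠ 1
  le : K ≤ pCoreOf 2 (centralizer {z})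
  nrm : centralizer {z} ≤ 𝒩(K)
  sq : ∀ x ∈ K, x * x ∈ zpowers z
  cen : ∀ x ∈ K, x ∈ 𝒞(K) → x * x = 1 → x ∈ zpowers z
  odd : ∀ y ∈ centralizer {z}, (orderOf y).Coprime 2 → y ∈ 𝒞(K) → y = 1

theorem zp_le_cent {z : G} {A : Subgroup G} (h : A ≤ centralizer {z}) : zpowers z ≤ 𝒞(A) :=
  le_centralizer_iff.1 (h.trans (cent_zpowers z).ge)

theorem comm_eq_one {a b : G} : ⁅a, b⁆ = 1 ↔ a ∈ centralizer {b} := by
  rw [commutatorElement_eq_one_iff_mul_comm, mem_cent_singleton]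

theorem comm_mul_left (c d z : G) : ⁅c * d, z⁆ = c * ⁅d, z⁆ * c⁻¹ * ⁅c, z⁆ := by
  simp only [commutatorElement_def]; group

theorem comm_le_of_zp {A M : Subgroup G} {z : G} (hz : z * z = 1) (h : ∀ a ∈ A, ⁅a, z⁆ ∈ M) :
    ⁅A, zpowers z⁆ ≤ M := commutator_le.2 fun a ha g hg => by
  rcases zp_cases hz hg with rfl | rfl
  · simp
  · exact h a ha

namespace Sym

variable {z : G} {K : Subgroup G} (s : Sym z K)
include s

theorem isP : IsPGroup 2 K := (core_isP _).to_le s.le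

theorem le_cent : K ≤ centralizer {z} := s.le.trans (core_le _)

theorem zp_cent {w : G} (hw : w ∈ zpowers z) : w ∈ 𝒞(K) := zp_le_cent s.le_cent hw

theorem comm_mem {x y : G} (hx : x ∈ K) (hy : y ∈ K) : ⁅x, y⁆ ∈ zpowers z := by
  have h1 := s.sq _ (K.inv_mem hx)
  have e : ⁅x, y⁆ = (x * y) * (x * y) * (y⁻¹ * (x⁻¹ * x⁻¹)) * y⁻¹ := by
    rw [commutatorElement_def]; group
  rw [e, comm_of_mem (s.zp_cent h1) (K.inv_mem hy), mul_assoc _ _ y⁻¹, mul_assoc _ y⁻¹]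
  exact mul_mem (s.sq _ (K.mul_mem hx hy)) (mul_mem h1 (s.sq _ (K.inv_mem hy)))

theorem comm_le {X Y : Subgroup G} (hX : X ≤ K) (hY : Y ≤ K) : ⁅X, Y⁆ ≤ zpowers z :=
  commutator_le.2 fun _ hx _ hy => s.comm_mem (hX hx) (hY hy)

theorem comm_eq {x y : G} (hx : x ∈ K) (hy : y ∈ K) (h : ⁅x, y⁆ ≠ 1) : ⁅x, y⁆ = z :=
  (zp_cases s.zz (s.comm_mem hx hy)).resolve_left h

theorem comm_mul {x y w : G} (hx : x ∈ K) (hy : y ∈ K) (hw : w ∈ K) : ⁅x * y, w⁆ = ⁅y, w⁆ * ⁅x, w⁆ := by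
  rw [comm_mul_left, conj_eq_of_mem (le_centralizer_iff.1 (zp_le_cent s.le_cent) hx) (s.comm_mem hy hw)]

theorem prop {X Y A : Subgroup G} (hX : X ≤ K) (hY : Y ≤ K) (hA : A ≤ centralizer {z})
    (h : ⁅X, A⁆ ≤ 𝒞(Y)) : ⁅Y, A⁆ ≤ 𝒞(X) := by
  rw [← commutator_eq_bot_iff_le_centralizer]
  refine commutator_commutator_eq_bot_of_rotate ?_ ?_
  · rwa [commutator_eq_bot_iff_le_centralizer, commutator_comm]
  · rw [commutator_eq_bot_iff_le_centralizer]
    exact (s.comm_le hX hY).trans (zp_le_cent hA)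

/-- In an abelian subgroup invariant under `g`, commutators with `g` are involutions. -/
theorem comm_sq {A : Subgroup G} (hA : A ≤ K) (hc : A ≤ 𝒞(A)) {g w : G} (hg : g ∈ centralizer {z})
    (hgA : g ∈ 𝒩(A)) (hw : w ∈ A) : ⁅w, g⁆ ∈ A ∧ ⁅w, g⁆ * ⁅w, g⁆ = 1 := by
  have h1 := conj_mem hgA (A.inv_mem hw)
  have e : ⁅w, g⁆ = w * (g * w⁻¹ * g⁻¹) := by rw [commutatorElement_def]; group
  have h2 : g * (w * w) * g⁻¹ = w * w := conj_eq_of_mem ((cent_zpowers z).ge hg) (s.sq w (hA hw))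
  refine ⟨e ▸ A.mul_mem hw h1, ?_⟩
  rw [e, mul_assoc, ← mul_assoc _ w, comm_of_mem (hc hw) h1]
  calc w * (w * (g * w⁻¹ * g⁻¹) * (g * w⁻¹ * g⁻¹)) = w * w * (g * (w * w) * g⁻¹)⁻¹ := by group
    _ = 1 := by rw [h2, mul_inv_cancel]

theorem comm_center {g w : G} (hg : g ∈ centralizer {z}) (hw : w ∈ K ⊓ 𝒞(K)) : ⁅w, g⁆ ∈ zpowers z := by
  obtain ⟨h1, h2⟩ := s.comm_sq inf_le_left (center_le_cent K) hg
    (le_norm_inf s.nrm (le_norm_cent s.nrm) hg) hw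
  exact s.cen _ h1.1 h1.2 h2

end Sym

theorem three' {A L N : Subgroup G} (hA : A ≤ 𝒩(N)) (hL : L ≤ 𝒩(N)) (h : ⁅⁅A, L⁆, L⁆ ≤ N) :
    ⁅A, ⁅L, L⁆⁆ ≤ N := by
  rw [commutator_comm]
  refine CL.Loc.three_subgroups_of_le_normalizer hL hL hA ?_ h
  rwa [commutator_comm L A]

theorem Sym.fin {t z : G} {K L R : Subgroup G} (s : Sym t K) (hz : z * z = 1) (hzt : z ∈ centralizer {t})
    (hLt : L ≤ centralizer {t}) (hLz : L ≤ centralizer {z}) (hRL : R ≤ L) (hR : R ≤ ⁅L, L⁆)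
    (hzR : z ∈ ⁅R, R⁆) (hF : ⁅K ⊓ centralizer {z}, R⁆ ≤ zpowers t) : ⁅K, zpowers z⁆ ≤ K ⊓ 𝒞(K) := by
  set Z := K ⊓ 𝒞(K) with hZ
  set F := K ⊓ centralizer {z}
  set C := F ⊔ Z with hC
  set H := K ⊓ cmod (zpowers z) Z
  set M := K ⊓ 𝒞(C)
  have hA : zpowers z ≤ centralizer {t} := zpowers_le.2 hzt
  have hRt := hRL.trans hLt
  have nZ : centralizer {t} ≤ 𝒩(Z) := le_norm_inf s.nrm (le_norm_cent s.nrm)
  have hKK : ⁅K, K⁆ ≤ Z := le_inf (commutator_le_of_le_norm le_normalizer)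
    ((s.comm_le le_rfl le_rfl).trans (zp_le_cent s.le_cent))
  have hCK : C ≤ K := sup_le inf_le_left inf_le_left
  have KnC : K ≤ 𝒩(C) := le_norm_of_commutator_le ((commutator_mono hCK le_rfl).trans (hKK.trans le_sup_right))
  have KnZ : K ≤ 𝒩(Z) := s.le_cent.trans nZ
  have memH : ∀ {c}, c ∈ H ↔ c ∈ K ∧ ⁅c, z⁆ ∈ Z := fun {c} => by
    refine and_congr_right fun hc => ⟨fun h => ?_, fun h => ⟨KnZ hc, fun v hv => ?_⟩⟩
    · rw [← commutatorElement_inv]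
      exact Z.inv_mem (h.2 z (mem_zpowers z))
    · rcases zp_cases hz hv with rfl | rfl
      · simp
      · rw [← commutatorElement_inv]
        exact Z.inv_mem h
  have LnA : L ≤ 𝒩(zpowers z) := hLz.trans ((cent_zpowers z).ge.trans (cent_le_norm _))
  have LnK : L ≤ 𝒩(K) := hLt.trans s.nrm
  have LnC : L ≤ 𝒩(C) := le_norm_sup (le_norm_inf LnK (le_norm_of_le hLz)) (hLt.trans nZ)
  have LnH : L ≤ 𝒩(H) := le_norm_inf LnK (le_norm_cmod LnA (hLt.trans nZ))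
  have hCH : C ≤ H := sup_le (fun c hc => memH.2 ⟨hc.1, by rw [comm_eq_one.2 hc.2]; exact one_mem _⟩)
    fun c hc => memH.2 ⟨hc.1, commutator_le_of_le_norm (hA.trans nZ)
      (commutator_mem_commutator hc (mem_zpowers z))⟩
  have mulH : ∀ {c d}, c ∈ K → d ∈ H → ⁅c * d, z⁆ = ⁅d, z⁆ * ⁅c, z⁆ := fun {c d} hc hd => by
    rw [comm_mul_left, ← comm_of_mem (memH.1 hd).2.2 hc |>.symm, mul_inv_cancel_right]
  have inF : ∀ {c}, c ∈ K → ⁅c, z⁆ = 1 → c ∈ C := fun hc h => (le_sup_left : F ≤ C) ⟨hc, comm_eq_one.1 h⟩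
  have invz : ∀ c : G, z * ⁅c, z⁆ * z⁻¹ = ⁅c, z⁆⁻¹ := fun c => by
    rw [commutatorElement_inv, commutatorElement_def, commutatorElement_def, mul_assoc, mul_assoc, mul_assoc,
      mul_assoc, ← mul_inv_rev, hz, inv_eq_of_mul_eq_one_right hz]
    group
  have two : Two C H := by
    intro c hc d hd hc' hd'
    have hcK := (memH.1 hc).1
    have hdK := (memH.1 hd).1
    by_cases h0 : Z ≤ centralizer {z}
    · have key : ∀ {c}, c ∈ H → c ∉ C → ⁅c, z⁆ = t := fun {c} hc hc' => by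
        have h1 := (memH.1 hc).2
        have h2 := invz c
        rw [← mem_cent_singleton.1 (h0 h1), mul_inv_cancel_right] at h2
        exact (zp_cases s.zz (s.cen _ h1.1 h1.2 (mul_eq_one_iff_eq_inv.2 h2))).resolve_left
          fun e => hc' (inF (memH.1 hc).1 e)
      exact inF (K.mul_mem hcK hdK) (by rw [mulH hcK hd, key hc hc', key hd hd', s.zz])
    · obtain ⟨w, hw, hw'⟩ := SetLike.not_le_iff_exists.1 h0
      have hwt : ⁅w, z⁆ = t := (zp_cases s.zz (s.comm_center hzt hw)).resolve_left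
        fun e => hw' (comm_eq_one.1 e)
      have hwC : w ∈ C := (le_sup_right : Z ≤ C) hw
      have key : ∀ {c}, c ∈ K → ⁅c, z⁆ ∈ zpowers t → c ∈ C := fun {c} hc h1 => by
        rcases zp_cases s.zz h1 with e | e
        · exact inF hc e
        · exact (C.mul_mem_cancel_right hwC).1
            (inF (K.mul_mem hc hw.1) (by rw [mulH hc (hCH hwC), e, hwt, s.zz]))
      have key2 : ∀ {c}, c ∈ H → c ∉ C → ⁅c, z⁆ * ⁅c, z⁆ = t := fun {c} hc hc' => by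
        have h1 := (memH.1 hc).2
        exact (zp_cases s.zz (s.sq _ h1.1)).resolve_left fun e =>
          hc' (key (memH.1 hc).1 (s.cen _ h1.1 h1.2 e))
      have h1 := (memH.1 (H.mul_mem hc hd)).2
      refine key (K.mul_mem hcK hdK) (s.cen _ h1.1 h1.2 ?_)
      rw [mulH hcK hd, mul_assoc, ← mul_assoc ⁅c, z⁆, comm_of_mem (memH.1 hd).2.2 (memH.1 hc).2.1,
        mul_assoc, ← mul_assoc, key2 hc hc', key2 hd hd', s.zz]
  have hHL : ⁅H, L⁆ ≤ C := two.comm_le hCH LnH LnC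
  have hKz : ⁅K, zpowers z⁆ ≤ H := comm_le_of_zp hz fun k hk => by
    have h1 : ⁅k, z⁆ ∈ K := commutator_le_of_le_norm (hA.trans s.nrm)
      (commutator_mem_commutator hk (mem_zpowers z))
    have e : ⁅⁅k, z⁆, z⁆ = ⁅k, z⁆ * ⁅k, z⁆ := by
      rw [commutatorElement_def ⁅k, z⁆, mul_assoc, mul_assoc, ← mul_assoc z, ← invz,
        mul_assoc z ⁅k, z⁆, ← mul_assoc z z, ← mul_assoc, hz]
      simp [mul_assoc, ← mul_inv_rev, hz]
    exact memH.2 ⟨h1, e ▸ ⟨K.mul_mem h1 h1, s.zp_cent (s.sq _ h1)⟩⟩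
  have inH : ∀ {Y}, Y ≤ K → ⁅K, zpowers z⁆ ≤ 𝒞(Y) → Y ≤ H := fun {Y} hY h c hc =>
    memH.2 ⟨hY hc, commutator_le_of_le_norm (hA.trans s.nrm) (commutator_mem_commutator (hY hc) (mem_zpowers z)),
      s.prop le_rfl hY hA h (commutator_mem_commutator hc (mem_zpowers z))⟩
  have two' : Two (K ⊓ 𝒞(H)) M := by
    intro m hm m' hm' h1 h2
    have key : ∀ {h₀ m}, h₀ ∈ H → h₀ ∉ C → m ∈ M → ⁅m, h₀⁆ = 1 → m ∈ K ⊓ 𝒞(H) := fun {h₀ m} a1 a2 a3 a4 => by
      refine ⟨a3.1, mem_centralizer_iff.2 fun x hx => ?_⟩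
      by_cases hx' : x ∈ C
      · exact comm_of_mem a3.2 hx'
      · have a5 := comm_of_mem a3.2 (two x hx h₀ a1 hx' a2)
        rw [mul_assoc, ← commutatorElement_eq_one_iff_mul_comm.1 a4, ← mul_assoc, ← mul_assoc] at a5
        exact mul_right_cancel a5
    by_cases h0 : H ≤ C
    · exact absurd ⟨hm.1, cent_mono h0 hm.2⟩ h1
    obtain ⟨h₀, a1, a2⟩ := SetLike.not_le_iff_exists.1 h0
    refine key a1 a2 (M.mul_mem hm hm') ?_
    rw [s.comm_mul hm.1 hm'.1 a1.1, s.comm_eq hm.1 a1.1 fun e => h1 (key a1 a2 hm e),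
      s.comm_eq hm'.1 a1.1 fun e => h2 (key a1 a2 hm' e), s.zz]
  have hML : ⁅M, L⁆ ≤ H := (two'.comm_le (inf_le_inf_left _ (cent_mono hCH))
    (le_norm_inf LnK (le_norm_cent LnC)) (le_norm_inf LnK (le_norm_cent LnH))).trans
      (inH inf_le_left (hKz.trans (le_centralizer_iff.1 inf_le_right)))
  have hMR : ⁅M, R⁆ ≤ C := (commutator_mono le_rfl hR).trans
    (three' (inf_le_left.trans KnC) LnC ((commutator_mono hML le_rfl).trans hHL))
  have hKRK : ⁅K, R⁆ ≤ K := commutator_le_of_le_norm (hRL.trans LnK)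
  have hKR : ⁅K, R⁆ ≤ M := by
    refine le_inf hKRK (s.prop hCK le_rfl hRt (le_trans ?_ (inf_le_right : Z ≤ _)))
    rw [commutator_comm]
    refine commutator_le_of_le_cmod (sup_le (le_cmod (inf_le_left.trans KnZ) ?_)
      (le_cmod le_normalizer (commutator_le_of_le_norm' (hRt.trans nZ))))
    rw [commutator_comm]
    exact le_inf ((commutator_mono inf_le_left le_rfl).trans hKRK) (hF.trans (zp_le_cent s.le_cent))
  have hzRR : zpowers z ≤ ⁅R, R⁆ := zpowers_le.2 hzR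
  have hKzC : ⁅K, zpowers z⁆ ≤ C := (commutator_mono le_rfl hzRR).trans
    (three' KnC (hRL.trans LnC) ((commutator_mono hKR le_rfl).trans hMR))
  have hMH : M ≤ H := inH inf_le_left (hKzC.trans (le_centralizer_iff.1 inf_le_right))
  have hMM : M ≤ 𝒞(M) := fun m hm => mem_centralizer_iff.2 fun m' hm' => by
    by_cases h1 : m' ∈ C
    · exact comm_of_mem hm.2 h1
    by_cases h2 : m ∈ C
    · exact (comm_of_mem hm'.2 h2).symm
    have a5 := comm_of_mem hm.2 (two m' (hMH hm') m (hMH hm) h1 h2)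
    rw [← mul_assoc] at a5
    exact mul_right_cancel a5
  refine (commutator_mono le_rfl hzRR).trans (three' KnZ (hRt.trans nZ) (le_inf ?_ ?_))
  · exact (commutator_mono hKRK le_rfl).trans hKRK
  · exact s.prop le_rfl hKRK hRt (hKR.trans (hMM.trans (cent_mono hKR)))

theorem Sym.eq_one_of_inverts {t z x : G} {K : Subgroup G} (s : Sym t K) (hzt : z ∈ centralizer {t})
    (h : ⁅K, zpowers z⁆ ≤ K ⊓ 𝒞(K)) (hx : x ∈ centralizer {t}) (ho : (orderOf x).Coprime 2)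
    (hi : z * x * z⁻¹ = x⁻¹) : x = 1 := by
  have nZ : centralizer {t} ≤ 𝒩(K ⊓ 𝒞(K)) := le_norm_inf s.nrm (le_norm_cent s.nrm)
  have h1 : z ∈ cmod K (K ⊓ 𝒞(K)) := le_cmod ((zpowers_le.2 hzt).trans nZ) h (mem_zpowers z)
  have e : x ^ 2 = x * z * x⁻¹ * z⁻¹ := by
    rw [mul_assoc, mul_assoc, ← mul_assoc z, ← inv_inv (z * x⁻¹ * z⁻¹), pow_two]
    simp only [mul_inv_rev, inv_inv, ← mul_assoc, hi]
  have h2 : x ∈ cmod K (K ⊓ 𝒞(K)) := mem_of_pow_mem_of_coprime ho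
    (e ▸ mul_mem (conj_mem (le_norm_cmod s.nrm nZ hx) h1) (inv_mem h1))
  refine s.odd x hx ho (mem_cent_of_coprime s.isP.to_inf_left ho h2.2 ?_)
  exact mem_cent_of_coprime (elem_isP (elem_zp (by rw [pow_two, s.zz]))) ho (fun r hr => s.comm_center hx hr)
    ((cent_zpowers t).ge hx)

end CL.Even.KMa
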