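/-
Klinger–Mason theorem, part 3: a finite group of local characteristic `p` (odd) and of local characteristic 2
has 2-local `p`-rank at most two.
-/
import Cfsg.Agent.Even.KM2

set_option autoImplicit false

namespace CL.Even.KMa

open Cfsg Subgroup CL.Grp CL.Even
open scoped commutatorElement

variable {G : Type*} [Group G] {p n : ℕ}

theorem elem_closure_sq {K : Subgroup G} (h1 : ⁅K, K⁆ ≤ 𝒞(K)) (h4 : ∀ x ∈ K, x ^ 4 = 1) :
    IsElementaryAbelian 2 (closure {y | ∃ x ∈ K, x * x = y}) := by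
  have hc : ∀ {a b c : G}, a ∈ K → b ∈ K → c ∈ K → ⁅a * b, c⁆ = ⁅b, c⁆ * ⁅a, c⁆ := fun ha hb hc => by
    rw [comm_mul_left, ← comm_of_mem (h1 (commutator_mem_commutator hb hc)) ha |>.symm, mul_inv_cancel_right]
  refine CL.Loc.ea_closure ?_ ?_
  · rintro _ ⟨x, hx, rfl⟩ _ ⟨y, hy, rfl⟩
    rw [← commutatorElement_eq_one_iff_mul_comm, hc hx hx (K.mul_mem hy hy), ← commutatorElement_inv (y * y),
      hc hy hy hx, ← mul_inv_rev, inv_eq_one, ← h4 _ (commutator_le_of_le_norm le_normalizer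
        (commutator_mem_commutator hy hx))]
    simp only [pow_succ, pow_zero, one_mul, mul_assoc]
  · rintro _ ⟨x, hx, rfl⟩
    rw [← h4 x hx]
    simp only [pow_succ, pow_zero, one_mul, mul_assoc]

variable [Finite G] [hp : Fact p.Prime]

/-- `B`-invariant elementary abelian subgroups of `K` lie in `⟨z⟩`. -/
def Inv (z : G) (B K : Subgroup G) : Prop :=
  ∀ V, V ≤ K → IsElementaryAbelian 2 V → B ≤ 𝒩(V) → V ≤ zpowers z

theorem KM.exists_sym (h : KM G p n) {B : Subgroup G} (hB : IsElementaryAbelian p B) (hn : Nat.card B = n)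
    {z : G} (hz : z * z = 1) (hz1 : z ≠ 1) (hBz : B ≤ centralizer {z}) : ∃ K, Sym z K ∧ Inv z B K := by
  have hze : IsElementaryAbelian 2 (zpowers z) := elem_zp (by rwa [pow_two])
  have hC : IsCharP 2 (centralizer {z}) :=
    cent_zpowers z ▸ (h.two _ (elem_isP hze) (by simpa using hz1)).cent_of_norm
  set T := pCoreOf 2 (centralizer ({z} : Set G))
  have hCT : centralizer {z} ≤ 𝒩(T) := self_le_norm_core _
  have hf : B ⊓ 𝒞(T) = ⊥ := eq_bot_iff.2 fun b hb => hC.eq_one (hBz hb.1) (h.cop (hB.2 b hb.1)) hb.2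
  obtain ⟨K, h1, -, h2, h3, h4, -, h5⟩ := exists_critical_omega_in (core_isP (p := 2) (centralizer {z}))
  have hi : Inv z B K := fun V hV hVe hBV => by
    have h6 := h.fS hB hn (core_isP _) (hBz.trans hCT) hf hVe (hV.trans h1) hBV
    have h7 := h.rank hB (h.hyp_ne_bot hB hn ⟨le_rfl, Nat.le_mul_of_pos_left _ hp.out.pos⟩)
      (elem_sup hze hVe (zp_le_cent (hV.trans (h1.trans (core_le _))))) (sup_le (zp_le_cent hBz) h6) (k := 0)
      (by simp [hn])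
    refine le_sup_right.trans (eq_of_le_of_card_ge le_sup_left (h7.trans ?_)).ge
    rw [Nat.card_zpowers, orderOf_eq_prime (by rwa [pow_two]) hz1]
    rfl
  have hN := hCT.trans h2
  refine ⟨K, ⟨hz, hz1, h1, hN, fun x hx => ?_, fun x hx hx' hx2 => ?_, fun y hy ho hc => ?_⟩, hi⟩
  · refine hi _ ((closure_le _).2 ?_) (elem_closure_sq ((commutator_mono le_rfl h1).trans
      (h3.trans inf_le_right)) fun x hx => ?_) (le_normalizer_closure_iff.2 ?_) (subset_closure ⟨x, hx, rfl⟩)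
    · rintro _ ⟨x, hx, rfl⟩
      exact K.mul_mem hx hx
    · rcases h4 x hx with e | e
      · rw [show 4 = 2 * 2 from rfl, pow_mul, e, one_pow]
      · exact e.2
    · rintro g hg _ ⟨x, hx, rfl⟩
      exact subset_closure ⟨_, conj_mem (hN (hBz hg)) hx, by group⟩
  · exact hi _ (ozc_le K) (ozc_elem K) (le_norm_ozc (hBz.trans hN)) (mem_ozc.2 ⟨hx, hx', by rwa [pow_two]⟩)
  · exact hC.eq_one hy ho (h5 y (hCT hy) ho hc)

namespace Sym

variable {z : G} {K B : Subgroup G} (s : Sym z K)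
include s

omit hp in
theorem nonab (hi : Inv z B K) (hBB : B ≤ 𝒞(B)) (hBz : B ≤ centralizer {z}) {Y : Subgroup G} (hY : Y ≤ K)
    (hBY : B ≤ 𝒩(Y)) {e : G} (he : e ∈ B) (ho : (orderOf e).Coprime 2) (hne : ¬ Y ≤ centralizer {e}) :
    ¬ ⁅Y, zpowers e⁆ ≤ 𝒞(⁅Y, zpowers e⁆) := by
  intro hc
  set R := ⁅Y, zpowers e⁆ with hR
  have h1 : R ≤ ⁅R, zpowers e⁆ := commutator_zpowers_le (s.isP.to_le hY) ho (hBY he)
  have hRK : R ≤ K := (commutator_le_of_le_norm ((zpowers_le.2 he).trans hBY)).trans hY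
  have hBR : B ≤ 𝒩(R) := le_norm_commutator hBY
    (hBB.trans ((cent_mono (zpowers_le.2 he)).trans (cent_le_norm _)))
  have h2 : R ≤ zpowers z := h1.trans (commutator_le.2 fun r hr g hg => by
    have hg' := zpowers_le.2 he hg
    obtain ⟨a1, a2⟩ := s.comm_sq hRK hc (hBz hg') (hBR hg') hr
    exact hi _ ((omegaOne_le R).trans hRK) (CL.Loc.ea_omegaOne hc)
      (hBR.trans (CL.Loc.normalizer_le_normalizer_omegaOne R))
      ((mem_omegaOne_of_comm hc).2 ⟨a1, by rwa [pow_two]⟩))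
  have h3 : R = ⊥ := eq_bot_iff.2 (h1.trans (commutator_eq_bot_iff_le_centralizer.2
    (h2.trans (zp_le_cent ((zpowers_le.2 he).trans hBz)))).le)
  exact hne ((commutator_eq_bot_iff_le_centralizer.1 h3).trans (cent_zpowers e).le)

omit hp [Finite G] in
theorem exists_comm {R : Subgroup G} (hR : R ≤ K) (h : ¬ R ≤ 𝒞(R)) : ∃ a ∈ R, ∃ b ∈ R, ⁅a, b⁆ = z := by
  obtain ⟨b, hb, hb'⟩ := SetLike.not_le_iff_exists.1 h
  rw [mem_centralizer_iff] at hb'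
  push Not at hb'
  obtain ⟨a, ha, e⟩ := hb'
  exact ⟨a, ha, b, hb, s.comm_eq (hR ha) (hR hb) fun h => e (commutatorElement_eq_one_iff_mul_comm.1 h)⟩

omit hp in
theorem eight {W C₁ C₂ : Subgroup G} (hW : W ≤ K) (hz : z ∈ W) {u v : G} (hu : u ∈ W) (hv : v ∈ W)
    (hu2 : u * u = 1) (hv2 : v * v = 1) (huv : u ∈ centralizer {v}) (z1 : z ∈ C₁) (u1 : u ∉ C₁) (z2 : z ∈ C₂)
    (u2 : u ∈ C₂) (v2 : v ∉ C₂) :
    ∃ U, U ≤ W ∧ IsElementaryAbelian 2 U ∧ z ∈ U ∧ 2 ^ (1 + 1) < Nat.card U := by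
  have e : ∀ {w : G}, w * w = 1 → IsElementaryAbelian 2 (zpowers w) := fun h => elem_zp (by rwa [pow_two])
  have c : ∀ {w : G}, w ∈ W → zpowers z ≤ 𝒞(zpowers w) := fun h =>
    zp_le_cent ((zpowers_le.2 (hW h)).trans s.le_cent)
  have e1 := elem_sup (e s.zz) (e hu2) (c hu)
  have e2 := elem_sup e1 (e hv2) (sup_le (c hv) (zpowers_le.2 ((cent_zpowers v).ge huv)))
  have h0 : Nat.card (zpowers z) = 2 := by
    rw [Nat.card_zpowers, orderOf_eq_prime (by rw [pow_two, s.zz]) s.z1]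
  have h1 := mul_card_le (elem_isP e1) le_sup_left fun h =>
    u1 (zpowers_le.2 z1 (h ((le_sup_right : zpowers u ≤ _) (mem_zpowers u))))
  have h2 := mul_card_le (elem_isP e2) le_sup_left fun h =>
    v2 (sup_le (zpowers_le.2 z2) (zpowers_le.2 u2) (h ((le_sup_right : zpowers v ≤ _) (mem_zpowers v))))
  exact ⟨_, sup_le (sup_le (zpowers_le.2 hz) (zpowers_le.2 hu)) (zpowers_le.2 hv), e2,
    (le_sup_left.trans le_sup_left : zpowers z ≤ _) (mem_zpowers z), by omega⟩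

omit hp in
theorem pair {W R₁ R₂ : Subgroup G} (hW : W ≤ K) (h1 : R₁ ≤ W) (h2 : R₂ ≤ W) (hc : R₁ ≤ 𝒞(R₂))
    (n1 : ¬ R₁ ≤ 𝒞(R₁)) (n2 : ¬ R₂ ≤ 𝒞(R₂))
    (hk : (∃ u ∈ R₁, u * u = 1 ∧ u ∉ 𝒞(R₁)) ↔ ∃ u ∈ R₂, u * u = 1 ∧ u ∉ 𝒞(R₂)) :
    ∃ U, U ≤ W ∧ IsElementaryAbelian 2 U ∧ z ∈ U ∧ 2 ^ (1 + 1) < Nat.card U := by
  obtain ⟨a, ha, b, hb, hab⟩ := s.exists_comm (h1.trans hW) n1
  obtain ⟨c, hc', d, hd, hcd⟩ := s.exists_comm (h2.trans hW) n2
  have hz : z ∈ W := h1 (hab ▸ commutator_le_of_le_norm le_normalizer (commutator_mem_commutator ha hb))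
  have zc : ∀ {R}, R ≤ W → z ∈ 𝒞(R) := fun h => cent_mono (h.trans hW) (s.zp_cent (mem_zpowers z))
  by_cases h : ∃ u ∈ R₁, u * u = 1 ∧ u ∉ 𝒞(R₁)
  · obtain ⟨v, hv, hv2, hv'⟩ := hk.1 h
    obtain ⟨u, hu, hu2, hu'⟩ := h
    exact s.eight hW hz (h1 hu) (h2 hv) hu2 hv2 (cent_le_cent_singleton hv (hc hu)) (zc h1) hu' (zc h2)
      (hc hu) hv'
  have h' := mt hk.2 h
  push Not at h h'
  have sq : ∀ {R : Subgroup G} {x y}, R ≤ W → (∀ u ∈ R, u * u = 1 → u ∈ 𝒞(R)) → x ∈ R → y ∈ R → ⁅x, y⁆ = z →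
      x * x = z ∧ y * y = z := fun {R x y} hR h hx hy e => by
    have n1 : ¬ x * y = y * x := fun h => s.z1 (e ▸ commutatorElement_eq_one_iff_mul_comm.2 h)
    exact ⟨(zp_cases s.zz (s.sq x (hW (hR hx)))).resolve_left fun e => n1 (comm_of_mem (h x hx e) hy).symm,
      (zp_cases s.zz (s.sq y (hW (hR hy)))).resolve_left fun e => n1 (comm_of_mem (h y hy e) hx)⟩
  obtain ⟨a2, b2⟩ := sq h1 h ha hb hab
  obtain ⟨cc, d2⟩ := sq h2 h' hc' hd hcd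
  have cm : ∀ {x y}, x ∈ R₁ → y ∈ R₂ → y * x = x * y := fun hx hy => comm_of_mem (hc hx) hy
  have one : ∀ {x y}, x ∈ R₁ → y ∈ R₂ → x * x = z → y * y = z → x * y * (x * y) = 1 := fun {x y} hx hy e1 e2 => by
    rw [mul_assoc, ← mul_assoc y, cm hx hy, mul_assoc, ← mul_assoc, e1, e2, s.zz]
  have k1 : ∀ {x}, x ∈ R₁ → x ∈ K := fun hx => hW (h1 hx)
  have k2 : ∀ {x}, x ∈ R₂ → x ∈ K := fun hx => hW (h2 hx)
  have c1 : ∀ {x y}, x ∈ R₁ → y ∈ R₂ → ⁅y, x⁆ = 1 := fun hx hy =>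
    commutatorElement_eq_one_iff_mul_comm.2 (cm hx hy)
  have c2 : ∀ {x y}, x ∈ R₁ → y ∈ R₂ → ⁅x, y⁆ = 1 := fun hx hy =>
    commutatorElement_eq_one_iff_mul_comm.2 (cm hx hy).symm
  have iz : z⁻¹ = z := inv_eq_of_mul_eq_one_right s.zz
  have hba : ⁅b, a⁆ = z := by rw [← commutatorElement_inv, hab, iz]
  have hdc : ⁅d, c⁆ = z := by rw [← commutatorElement_inv, hcd, iz]
  have zs : ∀ {x}, x ∈ R₁ → z ∈ centralizer {x} := fun hx => cent_le_cent_singleton hx (zc h1)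
  refine s.eight (C₁ := centralizer {b}) (C₂ := centralizer {a}) hW hz (W.mul_mem (h1 ha) (h2 hc'))
    (W.mul_mem (h1 hb) (h2 hd)) (one ha hc' a2 cc) (one hb hd b2 d2) (comm_eq_one.1 ?_) (zs hb)
    (fun e => s.z1 ?_) (zs ha) (comm_eq_one.1 ?_) fun e => s.z1 ?_
  · rw [s.comm_mul (k1 ha) (k2 hc') (K.mul_mem (k1 hb) (k2 hd)), ← commutatorElement_inv (b * d),
      ← commutatorElement_inv (b * d), s.comm_mul (k1 hb) (k2 hd) (k1 ha),
      s.comm_mul (k1 hb) (k2 hd) (k2 hc'), c1 ha hd, c2 hb hc', hba, hdc, one_mul, mul_one, iz, s.zz]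
  · rw [← comm_eq_one.2 e, s.comm_mul (k1 ha) (k2 hc') (k1 hb), c1 hb hc', hab, one_mul]
  · rw [s.comm_mul (k1 ha) (k2 hc') (k1 ha), c1 ha hc', commutatorElement_self, one_mul]
  · rw [← comm_eq_one.2 e, s.comm_mul (k1 hb) (k2 hd) (k1 ha), c1 ha hd, hba, one_mul]

omit hp [Finite G] in
theorem inter {t : G} {O : Subgroup G} (ht : t ∈ K) (ht' : t ∉ 𝒞(K)) (tt : t * t = 1) (htO : t ∈ O)
    (hO : O ≤ centralizer {t}) (hn : centralizer {t} ≤ 𝒩(O)) (hz : z ∉ O) : K ⊓ O ≤ zpowers t := by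
  have one : ∀ {w}, w ∈ O → w ∈ zpowers z → w = 1 := fun hw hw' =>
    (zp_cases s.zz hw').resolve_right fun e => hz (e ▸ hw)
  rw [mem_centralizer_iff] at ht'
  push Not at ht'
  obtain ⟨k₀, hk₀, e₀⟩ := ht'
  have nt : ∀ {k}, k ∈ K → k ∉ centralizer {t} → ⁅k, t⁆ = z := fun hk h =>
    s.comm_eq hk ht fun e => h (comm_eq_one.1 e)
  have e₁ := nt hk₀ fun h => e₀ (mem_cent_singleton.1 h)
  have key : ∀ {y}, y ∈ K ⊓ O → ⁅k₀, y⁆ = 1 → y = 1 := fun {y} hy h => by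
    have a1 : ∀ {k}, k ∈ K → k ∈ centralizer {t} → ⁅k, y⁆ = 1 := fun hk hk' =>
      one (commutator_le_of_le_norm' hn (commutator_mem_commutator hk' hy.2)) (s.comm_mem hk hy.1)
    refine one hy.2 (s.cen y hy.1 (mem_centralizer_iff.2 fun k hk => ?_)
      (one (O.mul_mem hy.2 hy.2) (s.sq y hy.1)))
    rw [← commutatorElement_eq_one_iff_mul_comm]
    by_cases hk' : k ∈ centralizer {t}
    · exact a1 hk hk'
    have := a1 (K.mul_mem hk hk₀) (comm_eq_one.1 (by rw [s.comm_mul hk hk₀ ht, e₁, nt hk hk', s.zz]))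
    rwa [s.comm_mul hk hk₀ hy.1, h, one_mul] at this
  intro y hy
  by_cases h : ⁅k₀, y⁆ = 1
  · exact key hy h ▸ one_mem _
  have h2 := key (y := y * t) ⟨K.mul_mem hy.1 ht, O.mul_mem hy.2 htO⟩ (by
    rw [← commutatorElement_inv, s.comm_mul hy.1 ht hk₀, ← commutatorElement_inv k₀,
      ← commutatorElement_inv k₀, e₁, s.comm_eq hk₀ hy.1 h, ← mul_inv_rev, s.zz, inv_one, inv_one])
  rw [eq_inv_of_mul_eq_one_left h2]
  exact inv_mem (mem_zpowers t)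

end Sym

theorem KM.false_of_eight (h : KM G p n) {B D K U : Subgroup G} (hB : IsElementaryAbelian p B)
    (hn : Nat.card B = n) {z : G} (s : Sym z K) (hi : Inv z B K) (hBz : B ≤ centralizer {z}) (hDB : D ≤ B)
    (hD : Nat.card B ≤ p ^ 2 * Nat.card D) (hU : U ≤ K ⊓ 𝒞(D)) (hUe : IsElementaryAbelian 2 U) (hz : z ∈ U)
    (hc : 2 ^ (1 + 1) < Nat.card U) : False := by
  have hD1 := h.ne_bot_of_le hB hn hD
  obtain ⟨t, ht, ht1, B', hB', hBt, h1, x, hx, hx1, hzx⟩ :=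
    h.dual (elem_of_le hB hDB) hD1 hUe (hU.trans inf_le_right) hc hz s.z1
  have tt : t * t = 1 := by rw [← pow_two, hUe.2 t ht]
  have hn' : Nat.card B' = n := le_antisymm (h.max' hB' tt ht1 hBt) (hn ▸ hD.trans (by rwa [mul_comm]))
  obtain ⟨K', s', -⟩ := h.exists_sym hB' hn' tt ht1 hBt
  have ho := h.cop (hB'.2 x hx)
  set O := pCoreOf 2 (centralizer ({t} : Set G))
  have hO : centralizer {t} ≤ 𝒩(O) := self_le_norm_core _
  have hzO : z ∉ O := fun hzO => by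
    have e : x ^ 2 = x * z * x⁻¹ * z⁻¹ := by
      rw [mul_assoc, mul_assoc, ← mul_assoc z, ← inv_inv (z * x⁻¹ * z⁻¹), pow_two]
      simp only [mul_inv_rev, inv_inv, ← mul_assoc, hzx]
    exact hx1 (eq_one_of_coprime_of_mem (core_isP _) ho (mem_of_pow_mem_of_coprime ho
      (e ▸ mul_mem (conj_mem (hO (hBt hx)) hzO) (inv_mem hzO))))
  have htO : t ∈ O := le_core (zpowers_le.2 (mem_cent_singleton.2 rfl))
    (elem_isP (elem_zp (by rwa [pow_two]))) ((cent_zpowers t).ge.trans (cent_le_norm _)) (mem_zpowers t)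
  have htK : t ∉ 𝒞(K) := fun h' => hzO
    (((zp_cases s.zz (s.cen t (hU ht).1 h' tt)).resolve_left ht1) ▸ htO)
  have hKO := s.inter (hU ht).1 htK tt htO (core_le _) hO hzO
  obtain ⟨⟨d, hd⟩, hd1⟩ := ne_bot_iff_exists_ne_one.1 hD1
  have od := h.cop (hB.2 d (hDB hd))
  have hdz : zpowers d ≤ centralizer {z} := zpowers_le.2 (hBz (hDB hd))
  have hdU : zpowers d ≤ 𝒞(U) := zpowers_le.2 (le_centralizer_iff.1 (hU.trans inf_le_right) hd)
  have hRK : ⁅K, zpowers d⁆ ≤ K := commutator_le_of_le_norm (hdz.trans s.nrm)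
  have hRt : ⁅K, zpowers d⁆ ≤ centralizer {t} :=
    (s.prop (hU.trans inf_le_left) le_rfl hdz ((commutator_eq_bot_iff'.2 hdU).le.trans bot_le)).trans
      (cent_le_cent_singleton ht)
  have hRL := le_inf hRt (hRK.trans s.le_cent)
  obtain ⟨a, ha, b, hb, hab⟩ := s.exists_comm hRK (s.nonab hi (elem_le_cent hB) hBz le_rfl (hBz.trans s.nrm)
    (hDB hd) od fun h' => hd1 (Subtype.ext (s.odd d (hBz (hDB hd)) od
      (zp_le_cent h' (mem_zpowers d)))))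
  have hzt : z ∈ centralizer {t} := cent_le_cent_singleton ht (elem_le_cent hUe hz)
  refine hx1 (s'.eq_one_of_inverts hzt (s'.fin s.zz hzt inf_le_left inf_le_right hRL ?_
    (hab ▸ commutator_mem_commutator ha hb) (le_trans (le_inf ?_ ?_) hKO)) (hBt hx) ho hzx)
  · exact (commutator_zpowers_le s.isP od (s.nrm (hBz (hDB hd)))).trans
      (commutator_mono hRL (le_inf (hdU.trans (cent_le_cent_singleton ht)) hdz))
  · exact (commutator_mono inf_le_right hRK).trans (commutator_le_of_le_norm' s.nrm)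
  · exact (commutator_mono inf_le_left hRt).trans ((commutator_le_of_le_norm s'.nrm).trans s'.le)

theorem KM.false (h : KM G p n) {B T : Subgroup G} (hB : IsElementaryAbelian p B) (hn : Nat.card B = n)
    (hT : IsPGroup 2 T) (hT1 : T ≠ ⊥) (hBT : B ≤ 𝒩(T)) : False := by
  have hC := h.two T hT hT1
  have hBO := hBT.trans (self_le_norm_core (p := 2) _)
  obtain ⟨z, hz, hz1, zz⟩ := exists_mem_pow_eq_one (ozc_isP (p := 2) _) (ozc_ne_bot (core_isP _)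
    (hC.core_ne_bot fun e => hT1 (eq_bot_iff.2 (le_normalizer.trans e.le))))
  have hBz : B ≤ centralizer {z} := le_cent_singleton (h.fS hB hn (core_isP _) hBO
    (eq_bot_iff.2 fun b hb => hC.eq_one (hBT hb.1) (h.cop (hB.2 b hb.1)) hb.2) (ozc_elem _) (ozc_le _)
    (le_norm_ozc hBO) hz)
  obtain ⟨K, s, hi⟩ := h.exists_sym hB hn (by rwa [← pow_two]) hz1 hBz
  have hBK := hBz.trans s.nrm
  have step : ∀ E, E ≤ B → E ≠ ⊥ → ∃ D R, Hyp p B D ∧ R ≤ K ⊓ 𝒞(D) ∧ ¬ R ≤ 𝒞(R) ∧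
      R ≤ 𝒞(K ⊓ 𝒞(E)) := fun E hE hE1 => by
    obtain ⟨⟨e, he⟩, he1⟩ := ne_bot_iff_exists_ne_one.1 hE1
    have oe := h.cop (hB.2 e (hE he))
    have hez : zpowers e ≤ B := zpowers_le.2 (hE he)
    obtain ⟨D, hD, h1⟩ : ∃ D, Hyp p B D ∧ ¬ K ⊓ 𝒞(D) ≤ centralizer {e} := by
      by_contra h'
      push Not at h'
      exact he1 (Subtype.ext (s.odd e (hBz (hE he)) oe
        (zp_le_cent (le_of_hyp hB hBK (h.copc (elem_isP hB) s.isP) h') (mem_zpowers e))))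
    have hBY := le_norm_inf hBK (le_norm_cent_of_le hB hD.1)
    refine ⟨D, _, hD, commutator_le_of_le_norm (hez.trans hBY),
      s.nonab hi (elem_le_cent hB) hBz inf_le_left hBY (hE he) oe h1,
      s.prop inf_le_left inf_le_left (hez.trans hBz) ((commutator_eq_bot_iff'.2 ?_).le.trans bot_le)⟩
    exact zpowers_le.2 (le_centralizer_iff.1 inf_le_right he)
  have fin : ∀ {D₁ D₂ R₁ R₂ E}, Hyp p B D₁ → Hyp p B D₂ → E ≤ D₁ → R₁ ≤ K ⊓ 𝒞(D₁) → R₂ ≤ K ⊓ 𝒞(D₂) →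
      ¬ R₁ ≤ 𝒞(R₁) → ¬ R₂ ≤ 𝒞(R₂) → R₂ ≤ 𝒞(K ⊓ 𝒞(E)) →
      ¬ ((∃ u ∈ R₁, u * u = 1 ∧ u ∉ 𝒞(R₁)) ↔ ∃ u ∈ R₂, u * u = 1 ∧ u ∉ 𝒞(R₂)) :=
    fun {D₁ D₂ R₁ R₂ E} a1 a2 a3 b1 b2 c1 c2 d hk => by
      obtain ⟨U, u1, u2, u3, u4⟩ := s.pair (W := K ⊓ 𝒞(D₁ ⊓ D₂)) inf_le_left
        (b1.trans (inf_le_inf_left _ (cent_mono inf_le_left)))
        (b2.trans (inf_le_inf_left _ (cent_mono inf_le_right)))
        (le_centralizer_iff.1 (d.trans (cent_mono (b1.trans (inf_le_inf_left _ (cent_mono a3)))))) c1 c2 hk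
      exact h.false_of_eight hB hn s hi hBz (inf_le_left.trans a1.1) (a1.inf hB a2) u1 u2 u3 u4
  obtain ⟨D₁, R₁, a1, b1, c1, -⟩ := step B le_rfl
    (h.hyp_ne_bot hB hn ⟨le_rfl, Nat.le_mul_of_pos_left _ hp.out.pos⟩)
  obtain ⟨D₂, R₂, a2, b2, c2, d2⟩ := step D₁ a1.1 (h.hyp_ne_bot hB hn a1)
  obtain ⟨D₃, R₃, a3, b3, c3, d3⟩ := step (D₁ ⊓ D₂) (inf_le_left.trans a1.1)
    (h.ne_bot_of_le hB hn (a1.inf hB a2))
  have f1 := fin a1 a2 le_rfl b1 b2 c1 c2 d2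
  have f2 := fin a1 a3 inf_le_left b1 b3 c1 c3 d3
  have f3 := fin a2 a3 inf_le_right b2 b3 c2 c3 d3
  exact (fun (a b c : Prop) (h1 : ¬ (a ↔ b)) (h2 : ¬ (a ↔ c)) (h3 : ¬ (b ↔ c)) => (by tauto : False))
    _ _ _ f1 f2 f3

/-- The Klinger–Mason theorem. -/
theorem klinger_mason (hp2 : p ≠ 2) (h2 : ∀ T : Subgroup G, IsPGroup 2 T → T ≠ ⊥ → IsCharP 2 𝒩(T))
    (hc : ∀ T : Subgroup G, IsPGroup p T → T ≠ ⊥ → IsCharP p 𝒩(T)) {B T : Subgroup G}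
    (hB : IsElementaryAbelian p B) (hT : IsPGroup 2 T) (hT1 : T ≠ ⊥) (hBT : B ≤ 𝒩(T)) :
    Nat.card B ≤ p ^ 2 := by
  by_contra h
  obtain ⟨A, ⟨hA, S, hS, hS1, hAS⟩, hm⟩ := Set.exists_max_image
    {A : Subgroup G | IsElementaryAbelian p A ∧ ∃ S : Subgroup G, IsPGroup 2 S ∧ S ≠ ⊥ ∧ A ≤ 𝒩(S)}
    (fun A => Nat.card A) (Set.toFinite _) ⟨B, hB, T, hT, hT1, hBT⟩
  exact KM.false ⟨hp2, h2, hc, fun B T a b c d => hm B ⟨a, T, b, c, d⟩,
    (not_le.1 h).trans_le (hm B ⟨hB, T, hT, hT1, hBT⟩)⟩ hA rfl hS hS1 hAS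

end CL.Even.KMa
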