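/-
`S₃`-free groups, part 10: control of fusion by `Z` and `J_e` in `S₄`-free groups (S1999), from the theorems of
Goldschmidt and Bender.
-/
import Cfsg.Agent.Even.S4FCond
import Cfsg.Agent.Loc.CondSFour

set_option autoImplicit false

open Cfsg CL.Grp CL.Loc Equiv

namespace CL.Even

universe u

theorem s1999_of (hG : ∀ (X : Type u) [Group X] [Finite X], CL.Gold.GS X) (hB : CL.Bender.BenderThm.{u}) :
    type_of% @Cfsg.CfsgFrozen.S1999.{u} := by
  intro G _ _
  have : Fact (Nat.Prime 2) := ⟨Nat.prime_two⟩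
  have h𝓦 : ∀ W' ∈ ({fun Q [Group Q] => Subgroup.center Q, fun Q [Group Q] => thompsonSubgroup 2 Q} :
      Set (∀ (Q : Type u) [Group Q], Subgroup Q)), IsCharPFunctor.{u} 2 W' := by
    rintro _ (rfl | rfl)
    exacts [Loc.isCharPFunctor_center 2, Loc.isCharPFunctor_thompsonSubgroup 2]
  have e1 : ∀ (X : Type u) [Group X], indFam ({fun Q [Group Q] => Subgroup.center Q,
      fun Q [Group Q] => thompsonSubgroup 2 Q} : Set (∀ (Q : Type u) [Group Q], Subgroup Q)) X =
      {fun P : Subgroup X => P ⊓ Subgroup.centralizer (P : Set X),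
        fun P => thompsonSubgroupOf 2 P} := fun X _ => by
    rw [indFam, Set.image_pair, Loc.inducedFunctor_center]; rfl
  refine ⟨fun h K R _ => ?_, fun h ⟨K, R, _, ⟨e⟩⟩ => ?_⟩
  · rw [← e1]
    refine fusCtl_of_constrained_sections (G := G) h𝓦 (fun Y _ _ hY _ hc => ?_) _
      (involves_section K R)
    have h4 : ¬ Involves (Perm (Fin 4)) Y := fun h' => h (involves_trans h' hY)
    let T : Sylow 2 Y := default
    have hcf := indFam_cfun (G := Y) h𝓦
    rw [e1] at hcf ⊢
    refine familyControls_of_factorization (hcf _ (Or.inl rfl)) (hcf _ (Or.inr rfl)) T fun x => ?_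
    obtain ⟨c, hc', n, hn, e⟩ := exists_cent_center_mul hc (hdt_of_char_two hG hB hc h4) (isSylowIn_top T) x
    exact ⟨c, Subgroup.centralizer_le_normalizer _ hc', n, hn.1, e⟩
  · obtain ⟨e'⟩ := Cfsg.Agent.S2761.result
    refine not_familyControlsStrongFusionIn_of_equiv_qdOver (F := ZMod 2) (e.trans e'.symm) h𝓦 ?_
    have h1 := h K R
    rwa [← e1] at h1

end CL.Even
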