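/-
`π`-homogeneous `D_π`-groups whose proper subgroups are `π'`-closed, and `π`-homogeneous groups of order prime to 3.
-/
import Cfsg.Agent.Even.S4FCond5
import Cfsg.Agent.Even.NGrp.Cor1
import Cfsg.Agent.Grp.HallWielandt
import Cfsg.Agent.Grp.Zipper
import Cfsg.Agent.S0877
import Cfsg.Statements.S4045
import Cfsg.Statements.S4052

set_option autoImplicit false

universe u

namespace CL.Even

open Subgroup Cfsg CL.Loc CL.Grp CL.Fgs CL.Chev.Sz
open scoped commutatorElement Pointwise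

section
variable {G : Type u} [Group G] [Finite G] {π : Set ℕ}

theorem piClosed_index {K : Subgroup G} (hK : ∀ x, x ∈ K ↔ IsPiElt π x) : IsPiNum πᶜ K.index := fun r hr hd hπ => by
  have := nc_normal_of_mem_iff hK
  have := Fact.mk hr
  obtain ⟨y, hy⟩ := exists_prime_orderOf_dvd_card' (G := G ⧸ K) r hd
  obtain ⟨x, hx, rfl⟩ := exists_isPiElt_map_eq (π := π) _ (QuotientGroup.mk'_surjective K) (y := y)
    fun q hq h => (Nat.prime_dvd_prime_iff_eq hq hr).1 (hy ▸ h) ▸ hπ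
  rw [QuotientGroup.mk'_apply, (QuotientGroup.eq_one_iff x).2 ((hK x).2 hx), orderOf_one] at hy
  exact hr.one_lt.ne hy

theorem piClosed_of_surjective {G' : Type*} [Group G'] {f : G →* G'} (hf : Function.Surjective f)
    (h : PiClosed π G) : PiClosed π G' := by
  obtain ⟨K, hK⟩ := h
  refine ⟨K.map f, fun y => ⟨?_, fun hy => ?_⟩⟩
  · rintro ⟨x, hx, rfl⟩
    exact ((hK x).1 hx).map f
  · obtain ⟨x, hx, rfl⟩ := exists_isPiElt_map_eq f hf hy
    exact mem_map_of_mem f ((hK x).2 hx)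

theorem hallD_of_surjective {G' : Type u} [Group G'] {f : G →* G'} (hf : Function.Surjective f)
    (h : HallD π G) : HallD π G' := by
  obtain ⟨H, hH, h⟩ := h
  refine ⟨H.map f, isPiHall_map hH hf, fun K hK => ?_⟩
  obtain ⟨L, rfl, hL⟩ := CL.NGrp.exists_subgroup_lift f hf K
  obtain ⟨g, hg⟩ := h L fun p hp hd => hK p hp (hL p hp hd)
  exact ⟨f g, hall_map_conj f g H ▸ map_mono hg⟩

theorem exists_hall_local (hD : HallD π G) {N R : Subgroup G} (hN : PiClosed πᶜ N) (hR : IsPiSubgroup π R)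
    (hs : Group.IsSolvable R) (hRN : R ≤ N) : ∃ O Y : Subgroup G, IsPiHall π Y ∧ R ≤ Y ∧ O ≤ N ∧ N ≤ 𝒩(O) ∧
      IsPiSubgroup πᶜ O ∧ ∀ n ∈ N, ∃ o ∈ O, ∃ y ∈ Y, y ∈ N ∧ n = o * y := by
  obtain ⟨K, hK⟩ := hN
  have := nc_normal_of_mem_iff hK
  have hn := le_normalizer_map_subtype K
  have hO : IsPiSubgroup πᶜ (K.map N.subtype) :=
    isPiSubgroup_map_subtype_iff.2 (isPiNum_card_of_forall fun x hx => (hK x).1 hx)
  have hi : IsPiNum π ((K.map N.subtype).relIndex N) := by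
    rw [relIndex, subgroupOf, comap_map_eq_self_of_injective N.subtype_injective]
    simpa using piClosed_index hK
  obtain ⟨L, hL, h1, -, h2⟩ := exists_complement_in (map_subtype_le K) hn (hi.coprime hO).symm
  have hLπ : IsPiSubgroup π L := show IsPiNum π _ from h2 ▸ hi
  obtain ⟨n, hn', e⟩ := schurZassenhaus_conj_of_sup_eq (K := L ⊓ (K.map N.subtype ⊔ R)) (hRN.trans hn)
    (IsPiNum.coprime hR hO).symm (IsPiNum.coprime (isPiSubgroup_of_le hLπ inf_le_left) hO).symm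
    (le_antisymm (sup_le le_sup_left fun r hr => by
      obtain ⟨o, ho, l, hl, rfl⟩ := (mem_sup_iff_of_le_normalizer (hL.trans hn)).1 (h1.ge (hRN hr))
      exact mul_mem (mem_sup_left ho) (mem_sup_right ⟨hl, (mul_mem_cancel_left (mem_sup_left ho)).1
        (mem_sup_right hr)⟩)) (sup_le le_sup_left inf_le_right)) (.inr hs)
  obtain ⟨Y, hY, hLY⟩ := hD.exists_hall_ge (hall_pi_conj hLπ n⁻¹)
  have hnN := map_subtype_le K hn'
  refine ⟨_, Y, hY, fun r hr => hLY ((mem_conj_smul_iff _ _ _).2 ?_), map_subtype_le K, hn, hO, fun m hm => ?_⟩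
  · simpa using (e.le (conj_mem_conj_smul n hr)).1
  · obtain ⟨o, ho, l, hl, e⟩ := (mem_sup_iff_of_le_normalizer (hL.trans hn)).1
      (h1.ge (mul_mem (mul_mem hnN hm) (inv_mem hnN)))
    refine ⟨n⁻¹ * o * n, mul_mem (mul_mem (inv_mem hn') ho) hn', n⁻¹ * l * n⁻¹⁻¹, hLY (conj_mem_conj_smul _ hl),
      mul_mem (mul_mem (inv_mem hnN) (hL hl)) (inv_mem (inv_mem hnN)), ?_⟩
    calc m = n⁻¹ * (n * m * n⁻¹) * n := by group
      _ = _ := by rw [e]; group

variable (h : PiHomog πᶜ G) (hD : HallD π G)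
  (hc : ∀ Q : Subgroup G, Q ≠ ⊥ → IsPiSubgroup π Q → PiClosed πᶜ 𝒩(Q))
include h hD hc

theorem hall_conj_cent_pgroup {p : ℕ} [hp : Fact p.Prime] (hπ : p ∈ π) (Q : Subgroup G) :
    Q ≠ ⊥ → IsPGroup p Q → ∀ Y₁ Y₂, IsPiHall π Y₁ → IsPiHall π Y₂ → Q ≤ Y₁ → Q ≤ Y₂ →
      ∃ c ∈ 𝒞(Q), MulAut.conj c • Y₁ = Y₂ := by
  induction Q using WellFoundedGT.induction with
  | _ Q ih =>
  intro hQ hP
  obtain ⟨S, hS, hQS⟩ := exists_isSylowIn_ge hP (le_normalizer (H := Q))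
  have := hS.isPGroup.isNilpotent
  obtain ⟨O, Y₀, hY₀, hSY, hON, -, hO, hd⟩ := exists_hall_local hD (hc Q hQ (isPiSubgroup_of_isPGroup hP hπ))
    (isPiSubgroup_of_isPGroup hS.isPGroup hπ) inferInstance hS.le
  have hOC : O ≤ 𝒞(Q) := fun o ho => h p Q o hp.1 (not_not.2 hπ) hP (isPiElt_of_mem hO ho) (hON ho)
  suffices key : ∀ Y, IsPiHall π Y → Q ≤ Y → ∃ c ∈ 𝒞(Q), MulAut.conj c • Y₀ = Y by
    intro Y₁ Y₂ h₁ h₂ l₁ l₂
    obtain ⟨c₁, hc₁, rfl⟩ := key Y₁ h₁ l₁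
    obtain ⟨c₂, hc₂, rfl⟩ := key Y₂ h₂ l₂
    exact ⟨c₂ * c₁⁻¹, mul_mem hc₂ (inv_mem hc₁), by rw [conj_smul_conj_smul, inv_mul_cancel_right]⟩
  intro Y hY hQY
  obtain ⟨R, hR, hQR⟩ := exists_isSylowIn_ge hP (le_inf hQY le_normalizer)
  rcases hQR.lt_or_eq with hlt | rfl
  · obtain ⟨n, hn, hle⟩ := hS.exists_conj_le hR.isPGroup (hR.le.trans inf_le_right)
    obtain ⟨o, ho, y, hy, -, e⟩ := hd _ (inv_mem hn)
    obtain ⟨c, hc, e⟩ := ih R hlt (ne_bot_of_gt hlt) hR.isPGroup _ Y (isPiHall_conj hY₀ o) hY (fun r hr => by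
      have := mul_mem (mul_mem hy (hSY (hle (conj_mem_conj_smul n hr)))) (inv_mem hy)
      rw [inv_eq_iff_eq_inv.1 e] at this
      simpa [mem_conj_smul_iff, mul_assoc] using this) (hR.le.trans inf_le_left)
    exact ⟨c * o, mul_mem (centralizer_le hQR hc) (hOC ho), by rw [← conj_smul_conj_smul, e]⟩
  · have h1 : IsSylowIn p Q Y := isSylowIn_of_maximal hQY hP fun U hU l₁ l₂ => by
      by_contra hne
      have h2 := lt_inf_normalizer_of_isPGroup hU (lt_of_le_of_ne l₁ (Ne.symm hne))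
      exact h2.ne' (hR.eq_of_le (hU.to_le inf_le_left) h2.le (inf_le_inf_right _ l₂))
    obtain ⟨g, rfl⟩ := hD.conj hY₀ hY
    obtain ⟨y, hy, e⟩ := h1.exists_conj_eq (h1.of_card_le (IsPGroup.conj_smul hP g)
      (pointwise_smul_le_pointwise_smul_iff.2 (hQS.trans hSY)) (card_conj_smul g Q).ge)
    obtain ⟨o, ho, z, hz, -, e'⟩ := hd (y⁻¹ * g) ((conj_smul_eq_self_iff _ _).1 (by
      rw [← conj_smul_conj_smul, ← e, conj_smul_conj_smul, inv_mul_cancel, map_one, one_smul]))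
    refine ⟨o, hOC ho, ?_⟩
    rw [← (conj_smul_eq_self_iff z Y₀).2 (le_normalizer hz), conj_smul_conj_smul, ← e', ← conj_smul_conj_smul,
      (conj_smul_eq_self_iff z Y₀).2 (le_normalizer hz), (conj_smul_eq_self_iff _ _).2 (le_normalizer (inv_mem hy))]

theorem hall_conj_cent_elt {x : G} (x1 : x ≠ 1) {Y₁ Y₂ : Subgroup G} (h₁ : IsPiHall π Y₁) (h₂ : IsPiHall π Y₂)
    (l₁ : x ∈ Y₁) (l₂ : x ∈ Y₂) : ∃ c ∈ 𝒞(zpowers x), MulAut.conj c • Y₁ = Y₂ := by
  obtain ⟨p, hp, hd⟩ := Nat.exists_prime_and_dvd (mt orderOf_eq_one_iff.1 x1)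
  have := Fact.mk hp
  have hx : IsPiElt π x := isPiElt_of_mem h₁.1 l₁
  have hπ := hx p hp hd
  have hP := (isPiElt_piPart {p} x).isPGroup_zpowers
  have hQ : zpowers (piPart {p} x) ≠ ⊥ := fun e =>
    (isPiElt_compl_singleton_iff hp).1 (piPart_eq_one_iff.1 (zpowers_eq_bot.1 e)) hd
  have hR : IsPiSubgroup π (zpowers x) := fun q hq h => hx q hq (Nat.card_zpowers x ▸ h)
  have hle := zpowers_le.2 (piPart_mem_zpowers {p} x)
  have hN : zpowers x ≤ 𝒩(zpowers (piPart {p} x)) := zpowers_le.2 (centralizer_le_normalizer _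
    (CL.Odd.centralizer_zpowers (piPart {p} x) ▸ mem_centralizer_singleton_iff.2 (commute_piPart_self _ x).eq))
  obtain ⟨O, Y₀, hY₀, hxY, -, hNO, hO, hd⟩ := exists_hall_local hD (hc _ hQ (isPiSubgroup_of_isPGroup hP hπ)) hR
    inferInstance hN
  have key : ∀ Y, IsPiHall π Y → x ∈ Y → ∃ c ∈ 𝒞(zpowers x), MulAut.conj c • Y₀ = Y := fun Y hY l => by
    obtain ⟨c, hc', e⟩ := hall_conj_cent_pgroup h hD hc hπ _ hQ hP Y₀ Y hY₀ hY (hle.trans hxY)
      (hle.trans (zpowers_le.2 l))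
    obtain ⟨o, ho, y, hy, -, rfl⟩ := hd c (centralizer_le_normalizer _ hc')
    rw [← conj_smul_conj_smul, (conj_smul_eq_self_iff y Y₀).2 (le_normalizer hy)] at e
    obtain ⟨c, hc, e⟩ := exists_centralizer_conj_eq (hN.trans hNO) (IsPiNum.coprime hR hO) (.inl inferInstance)
      (hxY.trans le_normalizer) ((zpowers_le.2 l).trans le_normalizer) ho e
    exact ⟨c, hc.2, e⟩
  obtain ⟨c₁, hc₁, rfl⟩ := key Y₁ h₁ l₁
  obtain ⟨c₂, hc₂, rfl⟩ := key Y₂ h₂ l₂
  exact ⟨c₂ * c₁⁻¹, mul_mem hc₂ (inv_mem hc₁), by rw [conj_smul_conj_smul, inv_mul_cancel_right]⟩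

theorem piClosed_of_local : PiClosed πᶜ G := by
  obtain ⟨H, hH⟩ := hD.exists_hall
  obtain ⟨K, hK, h1, h2⟩ := Cfsg.Agent.S0877.result H (isPiHall_coprime hH) (fun x hx y hy e => by
    by_cases x1 : x = 1
    · exact ⟨1, one_mem _, by simpa [x1] using e⟩
    obtain ⟨g, rfl⟩ := isConj_iff.1 e
    obtain ⟨c, hc', e⟩ := hall_conj_cent_elt h hD hc x1 hH (isPiHall_conj hH g⁻¹) hx
      ((mem_conj_smul_iff _ _ _).2 (by rwa [inv_inv]))
    obtain ⟨O, Y, hY, -, hON, -, hO, hd⟩ := exists_hall_local hD (hc H (fun e => x1 (by simpa [e] using hx)) hH.1)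
      isPiSubgroup_bot inferInstance bot_le
    obtain ⟨o, ho, z, hz, hzN, e'⟩ := hd (g * c) ((conj_smul_eq_self_iff _ _).1 (by
      rw [← conj_smul_conj_smul, e, conj_smul_conj_smul, mul_inv_cancel, map_one, one_smul]))
    have h3 : z ∈ H := (isPiHall_eq_of_le hH (isPiSubgroup_sup (isPiSubgroup_of_le hY.1 inf_le_left) hH.1
      inf_le_right) le_sup_right).ge (mem_sup_left ⟨hz, hzN⟩)
    have h4 := mem_centralizer_iff.1 (h.mem_cent (by rw [compl_compl]; exact hH.1) (isPiElt_of_mem hO ho) (hON ho))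
      _ (mul_mem (mul_mem h3 hx) (inv_mem h3))
    have h5 := mem_centralizer_iff.1 hc' x (mem_zpowers x)
    refine ⟨z, h3, ?_⟩
    calc z * x * z⁻¹ = o * (z * x * z⁻¹) * o⁻¹ := by rw [← h4, mul_inv_cancel_right]
      _ = o * z * x * (o * z)⁻¹ := by group
      _ = g * (c * x) * c⁻¹ * g⁻¹ := by rw [← e']; group
      _ = _ := by rw [← h5]; group) fun E _ _ _ hE => by
    obtain ⟨g, hg⟩ := hD.le_conj hH (isPiSubgroup_of_card_dvd hH.1 hE)
    exact ⟨g⁻¹, (conj_smul_eq_map g⁻¹ E).ge.trans ((conj_smul_le_iff _ _ _).2 fun x hx => by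
      simpa using (mem_conj_smul_iff _ _ _).1 (hg hx))⟩
  have h3 : H.IsComplement' K := (isComplement'_of_disjoint_and_mul_eq_univ (disjoint_iff.2 h2)
    (by rw [← normal_mul, h1, coe_top])).symm
  exact piClosed_of_normal (N := K) (fun p hp hd hπ => hH.2 p hp hπ (h3.symm.index_eq_card ▸ hd))
    fun p hp hd hπ => hπ (hH.1 p hp (h3.index_eq_card ▸ hd))

end

/-- The reduction modulo normal `π`- and `π'`-subgroups. -/
theorem piClosed_induction {π : Set ℕ} {P : ∀ (G : Type u) [Group G], Prop}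
    (hq : ∀ (G : Type u) [Group G] [Finite G] (N : Subgroup G) [N.Normal], P G → P (G ⧸ N))
    (h0 : ∀ (G : Type u) [Group G] [Finite G], P G → PiHomog πᶜ G → piCore π G = ⊥ → piCore πᶜ G = ⊥ →
      PiClosed πᶜ G) (G : Type u) [Group G] [Finite G] : P G → PiHomog πᶜ G → PiClosed πᶜ G := by
  refine CL.Grp.induction_on_card (P := fun G _ _ => P G → PiHomog πᶜ G → PiClosed πᶜ G) ?_ G
  intro G _ _ ih hP h
  by_cases h1 : piCore π G = ⊥
  · by_cases h2 : piCore πᶜ G = ⊥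
    · exact h0 G hP h h1 h2
    · exact piClosed_of_quotient h (.inl (piCore_isPiSubgroup _ G)) (ih _ (CL.Grp.card_quotient_lt h2) (hq G _ hP)
        (h.of_surjective (QuotientGroup.mk'_surjective _)))
  · exact piClosed_of_quotient h (.inr (by rw [compl_compl]; exact piCore_isPiSubgroup _ G))
      (ih _ (CL.Grp.card_quotient_lt h1) (hq G _ hP) (h.of_surjective (QuotientGroup.mk'_surjective _)))

theorem piClosed_of_proper {π : Set ℕ} (G : Type u) [Group G] [Finite G] (hD : HallD π G)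
    (hM : ∀ M : Subgroup G, M ≠ ⊤ → PiClosed πᶜ M) (h : PiHomog πᶜ G) : PiClosed πᶜ G := by
  refine piClosed_induction (P := fun G _ => HallD π G ∧ ∀ M : Subgroup G, M ≠ ⊤ → PiClosed πᶜ M)
    (fun G _ _ N _ h => ⟨hallD_of_surjective (QuotientGroup.mk'_surjective N) h.1, fun M hM => ?_⟩)
    (fun G _ _ hP h h1 _ => piClosed_of_local h hP.1 fun Q hQ hπ => hP.2 _ fun e => hQ ?_) G ⟨hD, hM⟩ h
  · rw [← map_comap_eq_self_of_surjective (QuotientGroup.mk'_surjective N) M]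
    exact piClosed_of_surjective (MonoidHom.subgroupMap_surjective _ _) (h.2 _ fun e => hM
      ((comap_injective (QuotientGroup.mk'_surjective N)) (e.trans (comap_top _).symm)))
  · exact piCore_eq_bot_iff.1 h1 Q (normalizer_eq_top_iff.1 e) hπ

theorem piClosed_of_three (hT : ThreePrimeSz.{u}) {π : Set ℕ} (G : Type u) [Group G] [Finite G]
    (h3 : ¬ 3 ∣ Nat.card G) (hD : 2 ∈ π → HallD π G) (h : PiHomog πᶜ G) : PiClosed πᶜ G := by
  refine piClosed_induction (P := fun G _ => ¬ 3 ∣ Nat.card G ∧ (2 ∈ π → HallD π G))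
    (fun G _ _ N _ h => ⟨fun h3 => h.1 (h3.trans (card_quotient_dvd_card N)),
      fun h2 => hallD_of_surjective (QuotientGroup.mk'_surjective N) (h.2 h2)⟩)
    (fun G _ _ hP h h1 h2 => ?_) G ⟨h3, hD⟩ h
  rcases subsingleton_or_nontrivial G with hG | hG
  · exact ⟨⊤, fun x => ⟨fun _ => Subsingleton.elim 1 x ▸ isPiElt_one _, fun _ => trivial⟩⟩
  have := Fact.mk Nat.prime_two
  obtain ⟨K, -, hK, hs, hc⟩ := exists_component_le_of_inf_fitting_eq_bot (G := G) IsSubnormal.top top_ne_bot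
    (eq_bot_iff.2 (inf_le_right.trans ((fittingSubgroup_le_piCore_sup_piCore π).trans (by simp [h1, h2]))))
  obtain ⟨F, _, _, m, hm, hq, -, ⟨M⟩⟩ := hT.exists_model hs hc fun h => hP.1 (h.trans (card_subgroup_dvd_card K))
  have hK' := CL.NGrp.PiHomog.subgroup h K
  have key : ∀ σ, piCore σ G = ⊥ → ¬ IsPiSubgroup σ K := fun σ e hσ =>
    IsComponent.ne_bot hK (eq_bot_iff.2 ((le_piCore_of_isSubnormal hK.1 hσ).trans e.le))
  exfalso
  by_cases h2π : 2 ∈ π
  · obtain ⟨Y, hY, hle⟩ := (hP.2 h2π).exists_hall_ge (K := (𝒩(M.H)).map K.subtype)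
      (isPiSubgroup_map_subtype_iff.2 fun r hr hd => by
        rw [M.card_normalizer_H] at hd
        refine (hr.dvd_mul.1 hd).elim (fun hd => (Nat.prime_dvd_prime_iff_eq hr Nat.prime_two).1 hd ▸ h2π) fun hd => ?_
        by_contra hrπ
        have := Fact.mk hr
        obtain ⟨x, hx⟩ := exists_prime_orderOf_dvd_card' r (M.card_H ▸ hd)
        have h4 := hK' 2 M.U x Nat.prime_two (not_not.2 h2π) M.isPGroup_U (fun q hq hd =>
          (Nat.prime_dvd_prime_iff_eq hq hr).1 (((Subgroup.orderOf_coe x).trans hx) ▸ hd) ▸ hrπ)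
          (M.normalizer_U ▸ M.H_le_B x.2)
        have x1 : (x : K) ≠ 1 := fun e => hr.one_lt.ne (by rw [← hx, ← Subgroup.orderOf_coe, e, orderOf_one])
        have h5 := (M.centralizer_of_mem_H x.2 x1).le (mem_centralizer_singleton_iff.2
          (mem_centralizer_iff.1 h4 _ (M.T_mem_U 0 1)))
        exact one_ne_zero (M.T_fix_pt (M.mem_H'.1 h5).2).2)
    obtain ⟨S, hS⟩ := exists_isSylowIn 2 Y
    obtain ⟨P, rfl⟩ := isSylowIn_top_iff.1 (show IsSylowIn 2 S ⊤ from ⟨le_top, hS.isPGroup, by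
      rw [relIndex_top_right, ← relIndex_mul_index hS.le]
      exact fun h => (Nat.prime_two.dvd_mul.1 h).elim hS.not_dvd (hY.2 2 Nat.prime_two h2π)⟩)
    obtain ⟨k, hk⟩ := M.exists_conj_U_eq (isSylowIn_inf_of_isSubnormal P hK.1).toSylow
    have h4 : Y.subgroupOf K ≤ (M.conj k).B := by
      by_contra hn
      have h5 := (M.conj k).eq_top_of_U_le (fun x hx => hS.le (hk.le hx).1) hn
      exact key π h1 (isPiSubgroup_of_le hY.1 (subgroupOf_eq_top.1 h5))
    obtain ⟨c, hc⟩ := M.toTits.exists_unit_ne_one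
    have h5 := M.mem_conj_B'.1 (h4 (hle (mem_map_of_mem _ (M.mem_normalizer_H.2 (.inr ⟨1, rfl⟩)))))
    rw [map_one, mul_one] at h5
    rcases (M.D_fix_iff hc).1 (M.mem_conj_B'.1 (h4 (hle (mem_map_of_mem _ (le_normalizer (M.D_mem_H c)))))) with e | e
    · rw [e, M.w_smul_inf] at h5
      exact M.pt_ne_inf _ _ h5
    · rw [e, M.w_smul_zero] at h5
      exact M.inf_ne_pt _ _ h5
  · refine key πᶜ h2 fun r hr hd hrπ => ?_
    have := Fact.mk hr
    obtain ⟨x, hx⟩ := exists_prime_orderOf_dvd_card' r hd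
    have ho : Odd (orderOf x) := hx ▸ hr.odd_of_ne_two fun e => h2π (e ▸ hrπ)
    have x1 : x ≠ 1 := fun e => hr.one_lt.ne (by rw [← hx, e, orderOf_one])
    obtain ⟨t, -, t2, ht⟩ := sz_real M x1 ho
    have ht' : t * x * t⁻¹ = x⁻¹ := by rwa [inv_eq_of_mul_eq_one_right t2]
    have h4 := hK' r (zpowers x) t hr (not_not.2 hrπ) (isPGroup_zpowers_of_pElt (k := 1) (by
      rw [pow_one, ← hx, pow_orderOf_eq_one])) (fun q hq hd => (Nat.prime_dvd_prime_iff_eq hq Nat.prime_two).1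
        (hd.trans (orderOf_dvd_of_pow_eq_one (by rwa [sq]))) ▸ h2π) (mem_normalizer_zpowers_of_inverts ht') x
      (mem_zpowers x)
    rw [← h4, mul_inv_cancel_right] at ht'
    exact x1 (nc_eq_one_of_inv (Nat.not_even_iff_odd.2 ho ∘ even_iff_two_dvd.2) ht')

theorem s4045_of (hT : ThreePrimeSz.{u}) : type_of% @Cfsg.CfsgFrozen.S4045.{u} := fun π hodd h3 hhom =>
  piClosed_of_three hT _ h3 (fun h => absurd rfl (hodd 2 h).2) (piHomog_of_index (by simpa using hhom))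

theorem s4052_of (hT : ThreePrimeSz.{u}) : type_of% @Cfsg.CfsgFrozen.S4052.{u} := fun π _ hD hhom hcase =>
  hcase.elim (fun h3 => piClosed_of_three hT _ h3 (fun _ => hallD_of_isDPiGroup hD)
    (piHomog_of_index (by simpa using hhom)))
    fun h => piClosed_of_proper _ (hallD_of_isDPiGroup hD) h (piHomog_of_index (by simpa using hhom))

end CL.Even
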