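/-
Control of Sylow intersections by a family of subgroups, as a reflexive-transitive closure in the ambient group.
-/
import Cfsg.Agent.Even.StrEmb2
import Cfsg.Agent.Even.Amb2

set_option autoImplicit false
open Cfsg Subgroup CL.Grp
open scoped Pointwise

namespace CL.Even

variable {G : Type*} [Group G] {p : ℕ}

/-- one step of a chain of Sylow subgroups of `M` -/
def AStep (p : ℕ) (M : Subgroup G) (𝓕 : Set (Subgroup G)) (D A B : Subgroup G) : Prop :=
  IsSylowIn p A M ∧ IsSylowIn p B M ∧ ∃ X ∈ 𝓕, IsSylowIn p (A ⊓ X) X ∧ IsSylowIn p (B ⊓ X) X ∧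
    D ≤ B ⊓ X ∧ ∃ x ∈ X, B = cj x A

/-- chains of Sylow subgroups of `M` -/
abbrev AChain (p : ℕ) (M : Subgroup G) (𝓕 : Set (Subgroup G)) (D : Subgroup G) :
    Subgroup G → Subgroup G → Prop := Relation.ReflTransGen (AStep p M 𝓕 D)

theorem AChain.mono {M : Subgroup G} {𝓕 𝓖 : Set (Subgroup G)} {D E A B : Subgroup G}
    (h : AChain p M 𝓕 D A B) (h1 : 𝓕 ⊆ 𝓖) (h2 : E ≤ D) : AChain p M 𝓖 E A B :=
  Relation.ReflTransGen.mono (r := AStep p M 𝓕 D) (fun _ _ ⟨a, b, X, hX, c, d, e, f⟩ =>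
    ⟨a, b, X, h1 hX, c, d, h2.trans e, f⟩) _ _ h

theorem isSylowIn_map_iff {H : Type*} [Group H] {φ : H →* G} (hφ : Function.Injective φ)
    {A X : Subgroup H} : IsSylowIn p (A.map φ) (X.map φ) ↔ IsSylowIn p A X := by
  refine ⟨fun h => ⟨(map_le_map_iff_of_injective hφ).1 h.1, ?_, ?_⟩, fun h => syl_map φ h⟩
  · exact h.2.1.of_equiv (equivMapOfInjective A φ hφ).symm
  · rw [← relIndex_map_map_of_injective A X hφ]; exact h.2.2

theorem map_cj {H : Type*} [Group H] (φ : H →* G) (x : H) (A : Subgroup H) :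
    (cj x A).map φ = cj (φ x) (A.map φ) := by
  rw [map_map, map_map]
  congr 1
  ext y
  simp

theorem aStep_map_iff {H : Type*} [Group H] {φ : H →* G} (hφ : Function.Injective φ)
    {M : Subgroup H} {𝓖 : Set (Subgroup H)} {D A B : Subgroup H} :
    AStep p (M.map φ) ((fun X => X.map φ) '' 𝓖) (D.map φ) (A.map φ) (B.map φ) ↔ AStep p M 𝓖 D A B := by
  constructor
  · rintro ⟨a, b, _, ⟨X, hX, rfl⟩, c, d, e, _, ⟨x, hx, rfl⟩, f⟩
    rw [← map_inf _ _ _ hφ] at c d e
    refine ⟨(isSylowIn_map_iff hφ).1 a, (isSylowIn_map_iff hφ).1 b, X, hX,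
      (isSylowIn_map_iff hφ).1 c, (isSylowIn_map_iff hφ).1 d, (map_le_map_iff_of_injective hφ).1 e,
      x, hx, map_injective hφ ?_⟩
    rw [map_cj]; exact f
  · rintro ⟨a, b, X, hX, c, d, e, x, hx, f⟩
    refine ⟨syl_map φ a, syl_map φ b, X.map φ, ⟨X, hX, rfl⟩, ?_, ?_, ?_, φ x, ⟨x, hx, rfl⟩, ?_⟩
    · rw [← map_inf _ _ _ hφ]; exact syl_map φ c
    · rw [← map_inf _ _ _ hφ]; exact syl_map φ d
    · rw [← map_inf _ _ _ hφ]; exact map_mono e
    · rw [f, map_cj]

theorem aChain_map_iff {H : Type*} [Group H] {φ : H →* G} (hφ : Function.Injective φ)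
    {M : Subgroup H} {𝓖 : Set (Subgroup H)} {D A B : Subgroup H} :
    AChain p (M.map φ) ((fun X => X.map φ) '' 𝓖) (D.map φ) (A.map φ) (B.map φ) ↔
      AChain p M 𝓖 D A B := by
  constructor
  · intro h
    have key : ∀ B' : Subgroup G,
        AChain p (M.map φ) ((fun X => X.map φ) '' 𝓖) (D.map φ) (A.map φ) B' →
        ∀ B : Subgroup H, B.map φ = B' → AChain p M 𝓖 D A B := by
      intro B' h
      induction h with
      | refl => intro B hB; rw [map_injective hφ hB]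
      | @tail C _ _ hr ih =>
        intro B hB
        subst hB
        have hC : (C.comap φ).map φ = C :=
          map_comap_eq_self (hr.1.1.trans (map_le_range φ M))
        rw [← hC] at hr
        exact (ih _ hC).tail ((aStep_map_iff hφ).1 hr)
    exact key _ h B rfl
  · intro h
    induction h with
    | refl => exact .refl
    | tail _ hr ih => exact ih.tail ((aStep_map_iff hφ).2 hr)

variable [Finite G] [Fact p.Prime]

theorem controls_iff_aChain {𝓕 : Set (Subgroup G)} :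
    ControlsSylowIntersections p 𝓕 ↔ ∀ A B : Subgroup G, IsSylowIn p A ⊤ → IsSylowIn p B ⊤ →
      A ⊓ B ≠ ⊥ → AChain p ⊤ 𝓕 (A ⊓ B) A B := by
  constructor
  · intro h A B hA hB hAB
    obtain ⟨S, rfl⟩ := isSylowIn_top_iff.1 hA
    obtain ⟨T, rfl⟩ := isSylowIn_top_iff.1 hB
    by_cases e : S = T
    · rw [e]
    obtain ⟨n, c, X, x, h0, hl, hc⟩ := h S T e hAB
    have := spe_reflTransGen_of_fin_chain (r := AStep p ⊤ 𝓕 (S ⊓ T))
      (fun i => (c i : Subgroup G)) (fun i => by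
        obtain ⟨a1, a2, a3, a4, a5⟩ := hc i
        refine ⟨isSylowIn_top _, isSylowIn_top _, X i, a1.1, isSylowIn_iff_exists.2 a1.2,
          isSylowIn_iff_exists.2 a2.2, a5, x i, a3, ?_⟩
        rw [← a4]
        exact (cj_cj_inv _ _).symm) (Fin.last n)
    simpa only [h0, hl] using this
  · intro h S T hST hne
    obtain ⟨n, c, h0, hl, hc⟩ := spe_exists_fin_chain_of_reflTransGen
      (h S T (isSylowIn_top _) (isSylowIn_top _) hne)
    have hs : ∀ i, ∃ P : Sylow p G, (P : Subgroup G) = c i := by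
      intro i
      induction i using Fin.cases with
      | zero => exact ⟨S, h0.symm⟩
      | succ j => exact isSylowIn_top_iff.1 (hc j).2.1
    choose d hd using hs
    have hc' := fun i => (hc i).2.2
    choose X hX a1 a2 a3 x hx a4 using hc'
    refine ⟨n, d, X, x, Sylow.ext (by rw [hd, h0]), Sylow.ext (by rw [hd, hl]), fun i => ?_⟩
    rw [hd, hd]
    refine ⟨⟨hX i, isSylowIn_iff_exists.1 (a1 i)⟩, ⟨hX i, isSylowIn_iff_exists.1 (a2 i)⟩, hx i, ?_, a3 i⟩
    rw [a4 i]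
    exact cj_inv_cj _ _

theorem controls_subgroupOf_iff {M : Subgroup G} {𝓕 : Set (Subgroup G)} (h𝓕 : ∀ X ∈ 𝓕, X ≤ M) :
    ControlsSylowIntersections p ((fun X : Subgroup G => X.subgroupOf M) '' 𝓕) ↔
      ∀ A B : Subgroup G, IsSylowIn p A M → IsSylowIn p B M → A ⊓ B ≠ ⊥ →
        AChain p M 𝓕 (A ⊓ B) A B := by
  have e1 : (fun X : Subgroup M => X.map M.subtype) '' ((fun X : Subgroup G => X.subgroupOf M) '' 𝓕) = 𝓕 := by
    rw [Set.image_image]
    conv_rhs => rw [← Set.image_id 𝓕]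
    exact Set.image_congr fun X hX => map_subgroupOf_eq_of_le (h𝓕 X hX)
  have e2 : (⊤ : Subgroup M).map M.subtype = M := by rw [← MonoidHom.range_eq_map, range_subtype]
  rw [controls_iff_aChain]
  constructor
  · intro h A B hA hB hAB
    have eA := map_subgroupOf_eq_of_le hA.1
    have eB := map_subgroupOf_eq_of_le hB.1
    have := (aChain_map_iff M.subtype_injective).2 (h (A.subgroupOf M) (B.subgroupOf M)
      ((isSylowIn_map_iff M.subtype_injective).1 (by rw [e2, eA]; exact hA))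
      ((isSylowIn_map_iff M.subtype_injective).1 (by rw [e2, eB]; exact hB))
      (fun h0 => hAB (by rw [← eA, ← eB, ← map_inf _ _ _ M.subtype_injective, h0, Subgroup.map_bot])))
    rwa [e1, e2, map_inf _ _ _ M.subtype_injective, eA, eB] at this
  · intro h A B hA hB hAB
    apply (aChain_map_iff M.subtype_injective).1
    rw [e1, e2, map_inf _ _ _ M.subtype_injective]
    apply h
    · have := syl_map M.subtype hA; rwa [e2] at this
    · have := syl_map M.subtype hB; rwa [e2] at this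
    · rw [← map_inf _ _ _ M.subtype_injective]
      exact fun h0 => hAB ((map_eq_bot_iff_of_injective _ M.subtype_injective).1 h0)

theorem mem_functorFamily {f : Subgroup G → Set (Subgroup G)} {M X : Subgroup G} :
    X ∈ functorFamily p f M ↔ ∃ P, IsSylowIn p P M ∧ ∃ F ∈ f P, X = M ⊓ 𝒩(F) := by
  constructor
  · rintro ⟨P, F, hF, rfl⟩
    exact ⟨_, isSylowIn_map_subtype P, F, hF, rfl⟩
  · rintro ⟨P, hP, F, hF, rfl⟩
    obtain ⟨Q, rfl⟩ := isSylowIn_iff_exists.1 hP
    exact ⟨Q, F, hF, rfl⟩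

theorem isFunctorRegular_iff {f : Subgroup G → Set (Subgroup G)} {M : Subgroup G} :
    IsFunctorRegular p f M ↔ ∀ A B : Subgroup G, IsSylowIn p A M → IsSylowIn p B M → A ⊓ B ≠ ⊥ →
        AChain p M (functorFamily p f M) (A ⊓ B) A B :=
  controls_subgroupOf_iff fun X hX => by
    obtain ⟨P, -, F, -, rfl⟩ := mem_functorFamily.1 hX
    exact inf_le_left

/-- a step for the induced family comes from a member of `f A` normalized by both ends -/
theorem aStep_functor {f : Subgroup G → Set (Subgroup G)} (hf : IsNormalizerFunctor p f)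
    {M D A B : Subgroup G} (h : AStep p M (functorFamily p f M) D A B) :
    ∃ F ∈ f A, A ≤ 𝒩(F) ∧ B ≤ 𝒩(F) ∧ ∃ x ∈ M ⊓ 𝒩(F), B = cj x A := by
  obtain ⟨a, b, X, hX, c, d, e, x, hx, hB⟩ := h
  obtain ⟨P, hP, F, hF, rfl⟩ := mem_functorFamily.1 hX
  have hPX : P ≤ M ⊓ 𝒩(F) := le_inf hP.1 (le_normalizer.trans ((hf P hP.2.1).1 F hF).2)
  have hP' := hP.of_le hPX inf_le_left
  have hA : A ≤ M ⊓ 𝒩(F) := by
    have : A ⊓ (M ⊓ 𝒩(F)) = A := eq_of_le_of_card_ge inf_le_left
      (by rw [c.card_eq hP', a.card_eq hP])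
    rw [← this]; exact inf_le_right
  rw [inf_eq_left.2 hA] at c
  obtain ⟨y, hy, e⟩ := syl_conj hP' c
  refine ⟨F, ?_, hA.trans inf_le_right, ?_, x, hx, hB⟩
  · rw [← e, (hf P hP.2.1).2 y]
    exact ⟨F, hF, cj_eq hy.2⟩
  · rw [hB]; exact cj_le_of_mem (hA.trans inf_le_right) hx.2

/-- chains inside a subgroup containing a Sylow subgroup of `G` lift to `G` -/
theorem aChain_lift {f : Subgroup G → Set (Subgroup G)} (hf : IsNormalizerFunctor p f)
    {M D A B : Subgroup G} (hA : IsSylowIn p A ⊤) (h : AChain p M (functorFamily p f M) D A B) :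
    AChain p ⊤ (functorFamily p f ⊤) D A B ∧ IsSylowIn p B ⊤ := by
  induction h with
  | refl => exact ⟨.refl, hA⟩
  | @tail C B _ hr ih =>
    obtain ⟨F, hF, h1, h2, x, hx, e⟩ := aStep_functor hf hr
    have hB : IsSylowIn p B ⊤ := by rw [e]; exact syl_cj_of_mem_norm ih.2 (le_normalizer (mem_top x))
    obtain ⟨-, -, X, -, -, -, hD, -⟩ := hr
    have h1' : C ≤ ⊤ ⊓ 𝒩(F) := le_inf le_top h1
    have h2' : B ≤ ⊤ ⊓ 𝒩(F) := le_inf le_top h2
    refine ⟨ih.1.tail ⟨ih.2, hB, ⊤ ⊓ 𝒩(F), mem_functorFamily.2 ⟨C, ih.2, F, hF, rfl⟩, ?_, ?_, ?_,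
      x, ⟨mem_top x, hx.2⟩, e⟩, hB⟩
    · rw [inf_eq_left.2 h1']; exact ih.2.of_le h1' le_top
    · rw [inf_eq_left.2 h2']; exact hB.of_le h2' le_top
    · rw [inf_eq_left.2 h2']; exact hD.trans inf_le_left

theorem aChain_functor_cj {f : Subgroup G → Set (Subgroup G)} (hf : IsNormalizerFunctor p f)
    {D A B : Subgroup G} (h : AChain p ⊤ (functorFamily p f ⊤) D A B) (g : G) :
    AChain p ⊤ (functorFamily p f ⊤) (cj g D) (cj g A) (cj g B) := by
  have := (aChain_map_iff (φ := (MulAut.conj g).toMonoidHom) (MulAut.conj g).injective).2 h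
  rw [cj_top] at this
  refine this.mono ?_ le_rfl
  rintro _ ⟨X, hX, rfl⟩
  obtain ⟨P, hP, F, hF, rfl⟩ := mem_functorFamily.1 hX
  refine mem_functorFamily.2 ⟨cj g P, syl_cj_of_mem_norm hP (le_normalizer (mem_top g)), cj g F, ?_, ?_⟩
  · rw [(hf P hP.2.1).2 g]; exact ⟨F, hF, rfl⟩
  · change cj g (⊤ ⊓ 𝒩(F)) = _
    rw [cj_inf, cj_top, cj_norm]

theorem exists_sylow_between {S G₁ G₂ : Subgroup G} (hS : IsSylowIn p S ⊤) (h1 : S ≤ G₁) (h2 : S ≤ G₂)
    (hfact : ∀ g : G, ∃ g₁ ∈ G₁, ∃ g₂ ∈ G₂, g = g₁ * g₂) (g : G) :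
    ∃ U, IsSylowIn p U ⊤ ∧ S ⊓ cj g S ≤ U ∧ U ≤ G₁ ⊓ cj g G₂ := by
  obtain ⟨g₁, hg₁, g₂, hg₂, rfl⟩ := hfact g
  have h3 : cj g₁ S ≤ G₁ ⊓ cj (g₁ * g₂) G₂ := by
    refine le_inf (cj_le_of_mem h1 hg₁) ?_
    rw [cj_mul, cj_eq (le_normalizer hg₂)]
    exact cj_mono _ h2
  have h4 := syl_cj_of_mem_norm hS (le_normalizer (mem_top g₁))
  obtain ⟨U, hU, hle⟩ := exists_isSylowIn_ge (p := p) (U := S ⊓ cj (g₁ * g₂) S) (H := G₁ ⊓ cj (g₁ * g₂) G₂)
    hS.2.1.to_inf_left (inf_le_inf h1 (cj_mono _ h2))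
  exact ⟨U, h4.of_card_le hU.2.1 le_top ((h4.of_le h3 le_top).card_eq hU).le, hle, hU.1⟩

theorem isFunctorRegular_top_of_mul {f : Subgroup G → Set (Subgroup G)} (hf : IsNormalizerFunctor p f)
    {S G₁ G₂ : Subgroup G} (hS : IsSylowIn p S ⊤) (h1 : S ≤ G₁) (h2 : S ≤ G₂)
    (hfact : ∀ g : G, ∃ g₁ ∈ G₁, ∃ g₂ ∈ G₂, g = g₁ * g₂) (hr₁ : IsFunctorRegular p f G₁)
    (hr₂ : IsFunctorRegular p f G₂) : IsFunctorRegular p f ⊤ := by
  rw [isFunctorRegular_iff] at *
  have key : ∀ g : G, S ⊓ cj g S ≠ ⊥ → AChain p ⊤ (functorFamily p f ⊤) (S ⊓ cj g S) S (cj g S) := by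
    intro g hne
    obtain ⟨U, hU, h3, h4⟩ := exists_sylow_between hS h1 h2 hfact g
    have c1 := (aChain_lift hf hS (hr₁ S U (hS.of_le h1 le_top) (hU.of_le (h4.trans inf_le_left) le_top)
      (fun h => hne (le_bot_iff.1 (h ▸ le_inf inf_le_left h3))))).1
    have hU' := syl_cj_of_mem_norm hU (le_normalizer (mem_top g⁻¹))
    have h5 : cj g⁻¹ U ≤ G₂ := le_cj_iff.1 (h4.trans inf_le_right)
    have h6 : S ⊓ cj g S ≤ cj g (cj g⁻¹ U ⊓ S) := by
      rw [cj_inf, cj_cj_inv]; exact le_inf h3 inf_le_right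
    have c2 := aChain_functor_cj hf (aChain_lift hf hU' (hr₂ (cj g⁻¹ U) S (hU'.of_le h5 le_top)
      (hS.of_le h2 le_top) (fun h => hne (by rw [h, cj_bot] at h6; exact le_bot_iff.1 h6)))).1 g
    rw [cj_cj_inv] at c2
    exact (c1.mono subset_rfl (le_inf inf_le_left h3)).trans (c2.mono subset_rfl h6)
  intro A B hA hB hAB
  obtain ⟨a, -, rfl⟩ := syl_conj hS hA
  obtain ⟨b, -, rfl⟩ := syl_conj hS hB
  have e : cj b S = cj a (cj (a⁻¹ * b) S) := by rw [← cj_mul, mul_inv_cancel_left]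
  rw [e, ← cj_inf] at hAB ⊢
  exact aChain_functor_cj hf (key _ (fun h => hAB (by rw [h, cj_bot]))) a

theorem exists_maximalPLocal_ge {L : Subgroup G} (hL : IsPLocal p L) :
    ∃ M, IsMaximalPLocal p M ∧ L ≤ M := by
  obtain ⟨M, hLM, hM, hmax⟩ := (Set.toFinite {M : Subgroup G | IsPLocal p M}).exists_le_maximal hL
  exact ⟨M, ⟨hM, fun N hN h => le_antisymm (hmax hN h) h⟩, hLM⟩

theorem controls_functor_union_singular {f : Subgroup G → Set (Subgroup G)}
    (hf : IsNormalizerFunctor p f) (hf1 : ∀ P : Subgroup G, IsPGroup p P → P ≠ ⊥ → ∀ F ∈ f P, F ≠ ⊥) :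
    ControlsSylowIntersections p
      (functorFamily p f ⊤ ∪ {M | IsMaximalPLocal p M ∧ ¬ IsFunctorRegular p f M}) := by
  set 𝓕 := functorFamily p f ⊤ ∪ {M | IsMaximalPLocal p M ∧ ¬ IsFunctorRegular p f M} with h𝓕
  rw [controls_iff_aChain]
  have main : ∀ D : Subgroup G, D ≠ ⊥ → ∀ A B : Subgroup G, IsSylowIn p A ⊤ → IsSylowIn p B ⊤ →
      D ≤ A → D ≤ B → AChain p ⊤ 𝓕 D A B := by
    intro D
    induction D using WellFoundedGT.induction with
    | ind D ih =>
    intro hD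
    have ih' : ∀ A B : Subgroup G, IsSylowIn p A ⊤ → IsSylowIn p B ⊤ → D < A ⊓ B →
        AChain p ⊤ 𝓕 D A B := fun A B hA hB h =>
      (ih _ h (fun h0 => not_lt_bot (h0 ▸ h)) A B hA hB inf_le_left inf_le_right).mono subset_rfl h.le
    have sec : ∀ (n : ℕ) (L R : Subgroup G), IsPLocal p L → IsSylowIn p R L →
        Nat.card G - Nat.card R < n → ∀ A B : Subgroup G, IsSylowIn p A ⊤ → IsSylowIn p B ⊤ →
        D < A ⊓ L → D < B ⊓ L → AChain p ⊤ 𝓕 D A B := by
      intro n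
      induction n with
      | zero => intro L R _ _ h; exact absurd h (Nat.not_lt_zero _)
      | succ n ihn =>
      intro L R hL hR hn A B hA hB hAL hBL
      obtain ⟨M, hM, hLM⟩ := exists_maximalPLocal_ge hL
      obtain ⟨P, hP, hAP⟩ := exists_isSylowIn_ge (p := p) (U := A ⊓ M) hA.2.1.to_inf_left inf_le_right
      obtain ⟨Q, hQ, hBQ⟩ := exists_isSylowIn_ge (p := p) (U := B ⊓ M) hB.2.1.to_inf_left inf_le_right
      have hDP : D < A ⊓ P := hAL.trans_le (le_inf inf_le_left ((inf_le_inf_left A hLM).trans hAP))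
      have hDQ : D < B ⊓ Q := hBL.trans_le (le_inf inf_le_left ((inf_le_inf_left B hLM).trans hBQ))
      obtain ⟨S₁, hS₁, hPS⟩ := exists_isSylowIn_ge (p := p) hP.2.1 (le_top (a := P))
      have c1 := ih' A S₁ hA hS₁ (hDP.trans_le (inf_le_inf_left A hPS))
      have fin : ∀ T₁, IsSylowIn p T₁ ⊤ → Q ≤ T₁ → AChain p ⊤ 𝓕 D S₁ T₁ → AChain p ⊤ 𝓕 D A B :=
        fun T₁ h1 h2 h3 => (c1.trans h3).trans (ih' T₁ B h1 hB
          (hDQ.trans_le (le_inf (inf_le_right.trans h2) inf_le_left)))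
      by_cases hreg : IsFunctorRegular p f M
      · have c2 := (isFunctorRegular_iff.1 hreg P Q hP hQ (fun h => hD (le_bot_iff.1 (h ▸ le_inf
          (hDP.le.trans inf_le_right) (hDQ.le.trans inf_le_right))))).mono subset_rfl
          (le_inf (hDP.le.trans inf_le_right) (hDQ.le.trans inf_le_right))
        by_cases hPS' : S₁ ≤ P
        · have e := le_antisymm hPS' hPS
          obtain ⟨c3, hQ'⟩ := aChain_lift hf (e ▸ hS₁) c2
          exact fin Q hQ' le_rfl (e ▸ c3.mono Set.subset_union_left le_rfl)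
        · have hcard : Nat.card P < Nat.card S₁ := lt_of_le_of_ne (card_le_of_le hPS)
            fun h => hPS' (eq_of_le_of_card_ge hPS h.ge).ge
          have key : ∀ C, AChain p M (functorFamily p f M) D P C → D ≤ C ∧
              ∃ T₁, IsSylowIn p T₁ ⊤ ∧ C ≤ T₁ ∧ AChain p ⊤ 𝓕 D S₁ T₁ := by
            intro C hC
            induction hC with
            | refl => exact ⟨hDP.le.trans inf_le_right, S₁, hS₁, hPS, .refl⟩
            | @tail C E _ hr ih2 =>
              obtain ⟨hDC, T₁, hT₁, hCT, c⟩ := ih2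
              obtain ⟨F, hF, h1, h2, -⟩ := aStep_functor hf hr
              obtain ⟨hC, hE, X, -, -, -, hDE, -⟩ := hr
              have hDE' : D ≤ E := hDE.trans inf_le_left
              obtain ⟨T₂, hT₂, hET⟩ := exists_isSylowIn_ge (p := p) hE.2.1 (le_top (a := E))
              refine ⟨hDE', T₂, hT₂, hET, c.trans ?_⟩
              have hC1 : C ≠ ⊥ := fun h => hD (le_bot_iff.1 (h ▸ hDC))
              have hFC := (hf C hC.2.1).1 F hF
              have hCT' : C < T₁ := lt_of_le_of_ne hCT fun h => by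
                rw [hS₁.card_eq hT₁, ← h, hC.card_eq hP] at hcard
                exact lt_irrefl _ hcard
              have h3 := lt_inf_normalizer_of_isPGroup hT₁.2.1 hCT'
              obtain ⟨R', hR', h4⟩ := exists_isSylowIn_ge (p := p) (U := T₁ ⊓ 𝒩(C))
                hT₁.2.1.to_inf_left (inf_le_right.trans hFC.2)
              have h5 : Nat.card R < Nat.card R' := by
                have a1 := hP.card_le hR.2.1 (hR.1.trans hLM)
                have a2 : Nat.card C < Nat.card (T₁ ⊓ 𝒩(C) : Subgroup G) :=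
                  lt_of_le_of_ne (card_le_of_le h3.le) fun h => h3.ne (eq_of_le_of_card_ge h3.le h.ge)
                have a3 := card_le_of_le h4
                rw [hC.card_eq hP] at a2
                omega
              have h6 : Nat.card R' ≤ Nat.card G := card_le_card_group R'
              have hDP' : Nat.card D < Nat.card P := by
                have := hDP.trans_le inf_le_right
                exact lt_of_le_of_ne (card_le_of_le this.le)
                  fun h => this.ne (eq_of_le_of_card_ge this.le h.ge)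
              refine ihn 𝒩(F) R' ⟨F, hC.2.1.to_le hFC.1, hf1 C hC.2.1 hC1 F hF, rfl⟩ hR' (by omega)
                T₁ T₂ hT₁ hT₂ ?_ ?_
              · refine lt_of_lt_of_le (lt_of_le_of_ne hDC fun h => ?_) (le_inf hCT h1)
                rw [h, hC.card_eq hP] at hDP'
                exact lt_irrefl _ hDP'
              · refine lt_of_lt_of_le (lt_of_le_of_ne hDE' fun h => ?_) (le_inf hET h2)
                rw [h, hE.card_eq hP] at hDP'
                exact lt_irrefl _ hDP'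
          obtain ⟨-, T₁, h1, h2, h3⟩ := key Q c2
          exact fin T₁ h1 h2 h3
      · obtain ⟨x, hx, e⟩ := syl_conj hP hQ
        have h1 := syl_cj_of_mem_norm hS₁ (le_normalizer (mem_top x))
        have h2 : Q ≤ cj x S₁ := e ▸ cj_mono x hPS
        refine fin _ h1 h2 (.single ⟨hS₁, h1, M, Or.inr ⟨hM, hreg⟩, ?_, ?_, ?_, x, hx, rfl⟩)
        · rw [hP.eq_of_le hS₁.2.1.to_inf_left (le_inf hPS hP.1) inf_le_right]; exact hP
        · rw [hQ.eq_of_le h1.2.1.to_inf_left (le_inf h2 hQ.1) inf_le_right]; exact hQ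
        · exact (hDQ.le.trans inf_le_right).trans (le_inf h2 hQ.1)
    intro A B hA hB hDA hDB
    by_cases e : A = B
    · rw [e]
    rcases (le_inf hDA hDB).lt_or_eq with h | h
    · exact ih' A B hA hB h
    · have hDA' : D < A := lt_of_le_of_ne hDA fun h1 =>
        e (eq_of_le_of_card_ge (h1 ▸ hDB) (hB.card_eq hA).le)
      have hDB' : D < B := lt_of_le_of_ne hDB fun h1 =>
        e (eq_of_le_of_card_ge (h1 ▸ hDA) (hA.card_eq hB).le).symm
      obtain ⟨R, hR⟩ := exists_isSylowIn p 𝒩(D)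
      exact sec _ 𝒩(D) R ⟨D, hA.2.1.to_le hDA, hD, rfl⟩ hR (Nat.lt_succ_self _) A B hA hB
        (lt_inf_normalizer_of_isPGroup hA.2.1 hDA') (lt_inf_normalizer_of_isPGroup hB.2.1 hDB')
  intro A B hA hB hAB
  exact main _ hAB A B hA hB inf_le_left inf_le_right

end CL.Even
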