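/-
Large extraspecial subgroups of width 4 with quotient inside `S₃ × S₆`, part 6: the configuration of a conjugate of
`z` in `Q`.
-/
import Cfsg.Agent.Even.W9e

set_option autoImplicit false

namespace CL.Even.W9

open Equiv Module CL.Grp Cfsg Subgroup
open scoped commutatorElement

variable {G : Type*} [Group G] [Finite G]

/-- A second large extraspecial subgroup. -/
structure Fus (z : G) (Q : Subgroup G) (a : G) (P : Subgroup G) : Prop where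
  xe : XE a P
  card : Nat.card P = 2 ^ 9
  aQ : a ∈ Q
  zP : z ∈ P
  ne : a ≠ z

theorem fus_of {z g : G} {Q : Subgroup G} (h : XE z Q) (hc : Nat.card Q = 2 ^ 9) (hg : g * z * g⁻¹ ∈ Q)
    (hne : g * z * g⁻¹ ≠ z) : Fus z Q (g * z * g⁻¹) (cj g Q) :=
  ⟨h.conj g, (card_cj g Q).trans hc, hg, h.mem_cj_of_conj_mem hg, hne⟩

namespace St
variable {z : G} {Q : Subgroup G} {V : Type*} [AddCommGroup V] [Module (ZMod 2) V] (σ : St z Q V)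
  {a : G} {P : Subgroup G} (f : Fus z Q a P)
include σ f

omit [Finite G] in
theorem a_nc : a ∉ 𝒞(Q) := σ.xe.not_mem_cent f.aQ (by rw [pow_two, f.xe.mul_self]) f.xe.ne_one f.ne

omit [Finite G] in
theorem pa_ne : σ.p a ≠ 0 := fun h => (σ.xe.mem_Z.mp ((σ.p_zero f.aQ).mp h)).elim f.xe.ne_one f.ne

omit [Finite G] in
theorem cent_a {m : G} (hm : m ∈ centralizer ({z} : Set G)) (h : σ.A m (σ.p a) = σ.p a) :
    ∃ m' ∈ centralizer ({z} : Set G), m' ∈ centralizer ({a} : Set G) ∧ σ.ρ m' = σ.ρ m := by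
  rw [σ.A_p hm f.aQ] at h
  rcases σ.p_eq (conj_mem (σ.xe.norm hm) f.aQ) f.aQ h with h1 | h1
  · exact ⟨m, hm, mem_cent_singleton.mpr (mul_inv_eq_iff_eq_mul.mp h1), rfl⟩
  · obtain ⟨q, hq, h2⟩ := σ.xe.exists_conj_eq_mul f.aQ (σ.a_nc f)
    refine ⟨q⁻¹ * m, mul_mem (inv_mem (σ.xe.le hq)) hm, mem_cent_singleton.mpr ?_, by
      rw [σ.ρ_mul (inv_mem (σ.xe.le hq)) hm, σ.ρ_Q (inv_mem hq), one_mul]⟩
    calc q⁻¹ * m * a = q⁻¹ * (m * a * m⁻¹) * m := by group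
      _ = _ := by rw [h1, ← h2]; group

omit [Finite G] in
theorem eq_one_of {x : G} (h1 : x ∈ zpowers z) (h2 : x ∈ zpowers a) : x = 1 := by
  rcases σ.xe.mem_Z.mp h1 with h | rfl
  · exact h
  · exact (f.xe.mem_Z.mp h2).resolve_right f.ne.symm

omit [Finite G] in
theorem E_comm {u v : G} (hu : u ∈ Q ⊓ P) (hv : v ∈ Q ⊓ P) : u * v = v * u :=
  commutatorElement_eq_one_iff_mul_comm.mp (σ.eq_one_of f (σ.xe.comm_mem hu.1 hv.1) (f.xe.comm_mem hu.2 hv.2))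

omit [Finite G] in
theorem comm_of_fix {l u : G} (hl : l ∈ P) (hl' : l ∈ centralizer ({z} : Set G)) (hu : u ∈ Q ⊓ P)
    (h : σ.A l (σ.p u) = σ.p u) : l * u = u * l :=
  commutatorElement_eq_one_iff_mul_comm.mp (σ.eq_one_of f
    ((σ.p_zero (mul_mem (conj_mem (σ.xe.norm hl') hu.1) (inv_mem hu.1))).mp (by rw [← σ.p_comm hl' hu.1, h, aa]))
    (f.xe.comm_mem hl hu.2))

omit [Finite G] in
theorem card_E : Nat.card (Q ⊓ P : Subgroup G) = 2 * Nat.card (σ.img (Q ⊓ P)) :=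
  σ.card_img inf_le_left ⟨σ.xe.mem, f.zP⟩ fun _ => ⟨fun ⟨x, hx, _, h⟩ => ⟨x, hx, h⟩, fun ⟨x, hx, h⟩ => ⟨x, hx, hx.1, h⟩⟩

/-- The configuration. -/
noncomputable def cfg : Cfg σ.lin where
  a := σ.p a
  E := σ.img (Q ⊓ P)
  L := σ.im P
  a_ne := σ.pa_ne f
  aE := ⟨a, ⟨f.aQ, f.xe.mem⟩, f.aQ, rfl⟩
  iso := by
    rintro _ ⟨u, hu, -, rfl⟩ _ ⟨v, hv, -, rfl⟩
    exact (σ.B_zero hu.1 hv.1).mpr (σ.E_comm f hu hv)
  LΓ := fun _ ⟨m, _, h⟩ => ⟨m, trivial, h⟩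
  sq := by
    rintro _ ⟨l, hl, hl', rfl⟩
    rw [← σ.ρ_mul hl' hl', ← pow_two]
    exact σ.ρ_Q (zpowers_le.mpr f.aQ (f.xe.sq l hl))
  La := by
    rintro _ ⟨l, hl, hl', rfl⟩
    change σ.R _ _ = _
    rw [σ.R_ρ hl', σ.A_p hl' f.aQ, f.xe.comm hl, mul_inv_cancel_right]
  P1 := by
    rintro _ ⟨l, hl, hl', rfl⟩ v hv
    obtain ⟨d, hd, rfl⟩ := σ.p_surj v
    have h1 : d ∈ 𝒩(P) := f.xe.norm (mem_cent_singleton.mpr ((σ.B_zero f.aQ hd).mp hv).symm)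
    have h2 := mul_mem (conj_mem (σ.xe.norm hl') hd) (inv_mem hd)
    refine ⟨l * d * l⁻¹ * d⁻¹, ⟨h2, ?_⟩, h2, ?_⟩
    · have := mul_mem hl (conj_mem h1 (inv_mem hl))
      rwa [← mul_assoc, ← mul_assoc] at this
    · change _ = σ.R _ _ + _
      rw [σ.R_ρ hl', σ.p_comm hl' hd]
  P2 := by
    rintro _ ⟨l, hl, hl', rfl⟩ _ ⟨u, hu, -, rfl⟩
    change σ.R _ _ = _ ∨ σ.R _ _ = _
    rw [σ.R_ρ hl', σ.A_p hl' hu.1]
    rcases f.xe.mem_Z.mp (f.xe.comm_mem hl hu.2) with h | h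
    · left; rw [mul_inv_eq_one.mp h]
    · right; rw [mul_inv_eq_iff_eq_mul.mp h, σ.p_mul f.aQ hu.1, add_comm]
  NL := by
    rintro _ ⟨m, -, hm, rfl⟩ h _ ⟨l, hl, hl', rfl⟩
    obtain ⟨m', h1, h2, h3⟩ := σ.cent_a f hm (by rw [← σ.R_ρ hm]; exact h)
    exact ⟨_, conj_mem (f.xe.norm h2) hl, mul_mem (mul_mem h1 hl') (inv_mem h1), by rw [σ.ρ_cj h1 hl', h3]⟩
  C2 := fun h => by
    obtain ⟨w, hw, h1, h3⟩ := σ.lift3 σ.lin.xΓ (by rw [pow_three', xx_cube])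
    have h4 : σ.p (w * a * w⁻¹) = σ.p a := by rw [← σ.A_p hw f.aQ, ← σ.R_ρ hw, h1]; exact h
    have hwz := mem_cent_singleton.mp hw
    have h5 : w * a * w⁻¹ = a := by
      rcases σ.p_eq (conj_mem (σ.xe.norm hw) f.aQ) f.aQ h4 with h5 | h5
      · exact h5
      · have h6 : w * w * a * (w * w)⁻¹ = a := by
          calc w * w * a * (w * w)⁻¹ = w * (w * a * w⁻¹) * w⁻¹ := by group
            _ = (w * z) * a * w⁻¹ := by rw [h5]; group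
            _ = z * (w * a * w⁻¹) := by rw [hwz]; group
            _ = a := by rw [h5, ← mul_assoc, σ.xe.mul_self, one_mul]
        calc w * a * w⁻¹ = w * (w * w * a * (w * w)⁻¹) * w⁻¹ := by rw [h6]
          _ = w ^ 3 * a * (w ^ 3)⁻¹ := by rw [pow_three]; group
          _ = a := by rw [h3]; simp
          _ = _ := by rfl
    have hwa : w ∈ centralizer ({a} : Set G) := mem_cent_singleton.mpr (mul_inv_eq_iff_eq_mul.mp h5)
    obtain ⟨μ⟩ := exists_md f.xe f.card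
    have h7 := μ.triv f.zP (E := Q ⊓ P) inf_le_right (fun u hu v hv => σ.E_comm f hu hv) hwa h3
      (by rw [hwz, mul_inv_cancel_right])
      (fun u hu => ⟨conj_mem (σ.xe.norm hw) hu.1, conj_mem (f.xe.norm hwa) hu.2⟩) fun d hd hdz => by
        have hd' : d ∈ centralizer ({z} : Set G) := mem_cent_singleton.mpr hdz.symm
        have sqP : ∀ l ∈ P, l ∈ centralizer ({z} : Set G) → σ.ρ l * σ.ρ l = 1 := fun l hl hl' => by
          rw [← σ.ρ_mul hl' hl', ← pow_two]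
          exact σ.ρ_Q (zpowers_le.mpr f.aQ (f.xe.sq l hl))
        have k1 := mul_mem (conj_mem (f.xe.norm hwa) hd) (inv_mem hd)
        have k2 := mul_mem (mul_mem (mul_mem hw hd') (inv_mem hw)) (inv_mem hd')
        have k3 : σ.ρ (w * d * w⁻¹ * d⁻¹) = xx * σ.ρ d * xx⁻¹ * σ.ρ d := by
          rw [σ.ρ_mul (mul_mem (mul_mem hw hd') (inv_mem hw)) (inv_mem hd'), σ.ρ_cj hw hd', σ.ρ_inv hd', h1,
            inv_eq_of_mul_eq_one_right (sqP d hd hd')]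
        have k4 := sqP _ k1 k2
        rw [k3] at k4
        have k5 := s3_comm _ (congrArg Prod.fst (sqP d hd hd')) (congrArg Prod.fst k4)
        refine ⟨(σ.ρ_one_iff k2).mp ?_, k1⟩
        rw [k3, xx_comm k5, mul_inv_cancel_right, sqP d hd hd']
    rw [h7, σ.ρ_Q (one_mem _)] at h1
    exact c3_ne (congrArg Prod.fst h1).symm
  card := by
    have h1 := XE.card_cent1 f.xe f.zP (f.xe.not_mem_cent f.zP (by rw [pow_two, σ.xe.mul_self]) σ.xe.ne_one f.ne.symm)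
    have h2 := σ.card_im (X := P ⊓ centralizer ({z} : Set G)) inf_le_right (Y := σ.im P) fun _ =>
      ⟨fun ⟨x, h1, h2, h3⟩ => ⟨x, ⟨h1, h2⟩, h3⟩, fun ⟨x, h1, h2⟩ => ⟨x, h1.1, h1.2, h2⟩⟩
    rw [show P ⊓ centralizer ({z} : Set G) ⊓ Q = Q ⊓ P from le_antisymm (le_inf inf_le_right (inf_le_left.trans
      inf_le_left)) (le_inf (le_inf inf_le_right (inf_le_left.trans σ.xe.le)) inf_le_left), σ.card_E f] at h2
    rw [f.card, h2] at h1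
    linarith
  P3 := fun C hC h => by
    have h1 := XE.card_cent f.xe (X := Q ⊓ P) inf_le_right ⟨f.aQ, f.xe.mem⟩
    have hle : P ⊓ 𝒞(Q ⊓ P) ≤ centralizer ({z} : Set G) :=
      inf_le_right.trans (cent_le_cent_singleton (H := Q ⊓ P) ⟨σ.xe.mem, f.zP⟩)
    have h2 := σ.card_im hle (Y := σ.im (P ⊓ 𝒞(Q ⊓ P))) fun _ =>
      ⟨fun ⟨x, h1, _, h3⟩ => ⟨x, h1, h3⟩, fun ⟨x, h1, h2⟩ => ⟨x, h1, hle h1, h2⟩⟩
    have h3 : Nat.card (Q ⊓ P : Subgroup G) ≤ Nat.card (P ⊓ 𝒞(Q ⊓ P) ⊓ Q : Subgroup G) :=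
      card_le_of_le fun u hu => ⟨⟨hu.2, fun v hv => σ.E_comm f hv hu⟩, hu.1⟩
    have h4 : Nat.card C ≤ Nat.card (σ.im (P ⊓ 𝒞(Q ⊓ P))) := card_le_of_le fun γ hγ => by
      obtain ⟨l, hl, hl', rfl⟩ := hC hγ
      refine ⟨l, ⟨hl, fun u hu => (σ.comm_of_fix f hl hl' hu ?_).symm⟩, hl', rfl⟩
      rw [← σ.R_ρ hl']; exact h _ hγ _ ⟨u, hu, hu.1, rfl⟩
    rw [h2, f.card] at h1
    have h5 := Nat.mul_le_mul_left (Nat.card (Q ⊓ P : Subgroup G)) (Nat.mul_le_mul h3 h4)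
    rw [h1, σ.card_E f] at h5
    change Nat.card C * Nat.card (σ.img (Q ⊓ P)) ^ 2 ≤ 256
    nlinarith

end St

/-- No second configuration has its vector fixed by `⟨V', w' x ^ i⟩`. -/
theorem Cfg.not_fix {V : Type*} [AddCommGroup V] [Module (ZMod 2) V] [Finite V] {Λ : Lin V} (c c' : Cfg Λ) {D : Dat}
    (o : c.Out D) (ha : c'.a ∈ Fx (Λ.R (1, D.e))) {s : S3} (hs : (s, D.w') ∈ Λ.Γ) (hw : Λ.R (s, D.w') c'.a = c'.a) :
    False := by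
  obtain ⟨D', o'⟩ := c'.exists_out
  have ne1 : ∀ {k : S6}, k ≠ 1 → ((1 : S3), k) ≠ 1 := fun h h' => h (congrArg Prod.snd h')
  have key : ∀ k, (1, k) ∈ c'.L → Perm.sign k = 1 → Fx (Λ.R (1, D.e)) ≤ Fx (Λ.R (1, k)) := fun k hk hk1 => by
    have cm : ∀ s h, (s, h) ∈ Λ.Γ → Λ.R (s, h) c'.a = c'.a → k * (h * k * h⁻¹) = (h * k * h⁻¹) * k :=
      fun s h h1 h2 => congrArg Prod.snd (c'.comm hk (c'.NL _ h1 h2 _ hk))
    rcases D.six k (congrArg Prod.snd (c'.sq _ hk)) hk1 (cm _ _ (Λ.evk D.se) (mem_Fx.mp ha))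
      (cm _ _ (Λ.evk D.se') (mem_Fx.mp (o.fe' ▸ ha))) (cm _ _ hs hw) with rfl | rfl | rfl | rfl
    · exact fun v _ => mem_Fx.mpr (by rw [Prod.mk_one_one, Λ.R_one]; rfl)
    · exact le_rfl
    · exact o.fe'.ge
    · exact o.fee'.ge
  have h1 := Submodule.eq_of_le_of_finrank_le (key _ o'.eL D'.se)
    (by rw [(c'.main_l ⟨o'.eL, rfl⟩ (ne1 D'.e_ne)).1, (c.main_l ⟨o.eL, rfl⟩ (ne1 D.e_ne)).1])
  have h2 := c'.H2 o'.eL o'.e1L (ne1 D'.e1_ne) fun v _ hv =>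
    mem_Fx.mp (key _ o'.e1L D'.se1 (h1 ▸ mem_Fx.mpr hv))
  exact D'.e1e (congrArg Prod.snd h2).symm

/-- Some non-zero vector of the fixed space is fixed by some `w' x ^ i`. -/
theorem Cfg.exists_fix {V : Type*} [AddCommGroup V] [Module (ZMod 2) V] [Finite V] {Λ : Lin V} (c : Cfg Λ) {D : Dat}
    (o : c.Out D) : ∃ v ∈ Fx (Λ.R (1, D.e)), v ≠ 0 ∧ ∃ s, (s, D.w') ∈ Λ.Γ ∧ Λ.R (s, D.w') v = v := by
  have hw := Λ.evk D.sw'
  have he := Λ.evk D.se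
  have hX := (c.main_l ⟨o.eL, rfl⟩ fun h => D.e_ne (congrArg Prod.snd h)).2.2
  have T3 : ∀ v, Λ.R (1, D.w') (Λ.R (1, D.w') (Λ.R (1, D.w') v)) = v := fun v => by
    rw [Λ.R_R hw hw, Λ.R_R (mul_mem hw hw) hw, ← pow_three', Prod.pow_mk, D.w'3, one_pow, Prod.mk_one_one, Λ.R_one]
    rfl
  have cT := Λ.X_comm hw rfl
  have fX : ∀ v ∈ Fx (Λ.R (1, D.e)), Λ.R xx v ∈ Fx (Λ.R (1, D.e)) := fun v => Cfg.X_Fx he rfl
  have fa : c.a ∈ Fx (Λ.R (1, D.e)) := mem_Fx.mpr (c.La _ o.eL)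
  have m1 : (c3, D.w') = xx * (1, D.w') := by simp [xx]
  have m2 : (c3 * c3, D.w') = xx * (xx * (1, D.w')) := by simp [xx]
  have X3 := Λ.X3
  set T := Λ.R (1, D.w')
  set X := Λ.R xx
  by_cases h1 : T c.a + X c.a = 0
  · refine ⟨c.a, fa, c.a_ne, c3 * c3, m2 ▸ mul_mem Λ.xΓ (mul_mem Λ.xΓ hw), ?_⟩
    rw [m2, ← Λ.R_R Λ.xΓ (mul_mem Λ.xΓ hw), ← Λ.R_R Λ.xΓ hw, add_eq_zero2.mp h1, Λ.X3]
  have f1 : T c.a + X c.a ∈ Fx (Λ.R (1, D.e)) := add_mem (o.fw' _ fa) (fX _ fa)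
  by_cases h2 : T (T c.a + X c.a) + X (X (T c.a + X c.a)) = 0
  · refine ⟨_, f1, h1, c3, m1 ▸ mul_mem Λ.xΓ hw, ?_⟩
    rw [m1, ← Λ.R_R Λ.xΓ hw, add_eq_zero2.mp h2, Λ.X3]
  refine ⟨_, add_mem (o.fw' _ f1) (fX _ (fX _ f1)), h2, 1, hw, ?_⟩
  have e1 : T (T c.a + X c.a) + X (X (T c.a + X c.a)) = T (T c.a) + T c.a + c.a := by
    simp only [map_add]
    rw [cT, hX _ (o.fw' _ fa), X3]
    rw [show ∀ a b c d : V, a + b + (c + b + d) = a + c + d + (b + b) from fun _ _ _ _ => by abel, aa, add_zero]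
  change T _ = _
  rw [e1]
  simp only [map_add, T3]
  abel

end CL.Even.W9
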