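/-
Large extraspecial subgroups of width 4 with quotient between `A₃ × A₆` and `S₃ × S₆`, part 7: `z` is weakly closed
in `Q`.
-/
import Cfsg.Agent.Even.W9f
import Cfsg.Agent.Grp.Primitive

set_option autoImplicit false

namespace CL.Even.W9

open Equiv Module CL.Grp Cfsg Subgroup
open scoped commutatorElement

variable {G : Type*} [Group G] [Finite G]

/-- The orbit under conjugation. -/
def orb (X : Subgroup G) (y : G) : Set G := {t | ∃ x ∈ X, x * y * x⁻¹ = t}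

omit [Finite G] in
theorem ncard_orb (X : Subgroup G) (y : G) : (orb X y).ncard = (centralizer ({y} : Set G)).relIndex X := by
  let _ : MulAction X G := MulAction.compHom G (MulAut.conj.comp X.subtype)
  have h1 : MulAction.orbit X y = orb X y := Set.ext fun t =>
    ⟨fun ⟨x, hx⟩ => ⟨x, x.2, hx⟩, fun ⟨x, hx, h⟩ => ⟨⟨x, hx⟩, h⟩⟩
  have h2 : MulAction.stabilizer X y = (centralizer ({y} : Set G)).subgroupOf X := Subgroup.ext fun x => by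
    rw [mem_subgroupOf, mem_cent_singleton]
    exact mul_inv_eq_iff_eq_mul
  rw [← h1, ← MulAction.index_stabilizer, h2]; rfl

theorem dvd_ncard (X : Subgroup G) (d : ℕ) (S : Set G) (h1 : ∀ x ∈ X, ∀ y ∈ S, x * y * x⁻¹ ∈ S)
    (h2 : ∀ y ∈ S, d ∣ (centralizer ({y} : Set G)).relIndex X) : d ∣ S.ncard := by
  induction hn : S.ncard using Nat.strong_induction_on generalizing S with
  | _ n ih =>
    rcases S.eq_empty_or_nonempty with rfl | ⟨y, hy⟩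
    · simp [← hn]
    · have h3 : orb X y ⊆ S := fun _ ⟨x, hx, h⟩ => h ▸ h1 x hx y hy
      have h4 := Set.ncard_diff_add_ncard_of_subset h3
      have h5 : 0 < (orb X y).ncard := (Set.ncard_pos (Set.toFinite _)).mpr ⟨y, 1, one_mem _, by simp⟩
      rw [← hn, ← h4]
      refine dvd_add (ih _ (by omega) (S \ orb X y) (fun x hx t ht => ⟨h1 x hx t ht.1, ?_⟩) (fun t ht => h2 t ht.1) rfl)
        (ncard_orb X y ▸ h2 y hy)
      rintro ⟨u, hu, h⟩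
      refine ht.2 ⟨x⁻¹ * u, mul_mem (inv_mem hx) hu, ?_⟩
      calc x⁻¹ * u * y * (x⁻¹ * u)⁻¹ = x⁻¹ * (u * y * u⁻¹) * x := by group
        _ = t := by rw [h]; group

theorem three_dvd {w : G} (hw : w ^ 3 = 1) (S : Set G) (h1 : ∀ y ∈ S, w * y * w⁻¹ ∈ S)
    (h2 : ∀ y ∈ S, w * y * w⁻¹ ≠ y) : 3 ∣ S.ncard := by
  haveI : Fact (Nat.Prime 3) := ⟨by norm_num⟩
  refine dvd_ncard (zpowers w) 3 S (fun x hx y hy => ?_) fun y hy => ?_
  · obtain ⟨n, rfl⟩ := mem_powers_iff_mem_zpowers.mpr hx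
    induction n with
    | zero => simpa using hy
    | succ n ih =>
      have := h1 _ (ih (pow_mem (mem_zpowers w) n))
      simp only [pow_succ'] at this ⊢
      rwa [mul_inv_rev, show w * w ^ n * y * ((w ^ n)⁻¹ * w⁻¹) = w * (w ^ n * y * (w ^ n)⁻¹) * w⁻¹ by group]
  · have h3 : orderOf w = 3 := orderOf_eq_prime hw fun h => h2 y hy (by simp [h])
    have h4 := relIndex_dvd_card (centralizer ({y} : Set G)) (zpowers w)
    rw [Nat.card_zpowers, h3] at h4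
    rcases (Nat.dvd_prime (by norm_num)).mp h4 with h5 | h5
    · exact absurd (mul_inv_eq_iff_eq_mul.mpr (mem_cent_singleton.mp (relIndex_eq_one.mp h5 (mem_zpowers w))))
        (h2 y hy)
    · rw [h5]

theorem bad_prime {Y N : Subgroup G} (hN : N ≤ 𝒩(Y)) (hY : Nat.card Y = 2 ^ 7) {z : G} (hz : z ∈ Y) {p : ℕ}
    (hp : p.Prime) (h : p ∣ (centralizer ({z} : Set G)).relIndex N) : ∃ i < 7, 128 ≡ 2 ^ i [MOD p] := by
  haveI := Fact.mk hp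
  obtain ⟨S⟩ : Nonempty (Sylow p N) := inferInstance
  have h1 := card_modEq_card_inf_centralizer (K := Y) (S.isPGroup'.map N.subtype) ((map_subtype_le _).trans hN)
  obtain ⟨i, hi, h2⟩ := (Nat.dvd_prime_pow Nat.prime_two).mp (hY ▸ card_dvd_of_le
    (inf_le_left : Y ⊓ 𝒞((S : Subgroup N).map N.subtype) ≤ Y))
  refine ⟨i, lt_of_le_of_ne hi fun h3 => S.not_dvd_index (h.trans (index_dvd_of_le fun s hs => ?_)),
    by rwa [hY, h2] at h1⟩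
  have h4 := eq_of_le_of_card_ge (inf_le_left : Y ⊓ 𝒞((S : Subgroup N).map N.subtype) ≤ Y) (by rw [h2, h3, hY])
  exact mem_cent_singleton.mpr ((h4.ge hz).2 _ ⟨s, hs, rfl⟩)

theorem arith {n k j : ℕ} (hn : n = 1 + 6 * k + 48 * j) (hk : 1 ≤ k) (hk' : k ≤ 5) (hj : 1 ≤ j) (hj' : j ≤ 2)
    (h : ∀ p, p.Prime → p ∣ n → ∃ i < 7, 128 ≡ 2 ^ i [MOD p]) : k = 5 := by
  subst hn
  interval_cases k <;> interval_cases j <;> first
    | rfl
    | exact absurd (h 11 (by norm_num) (by decide)) (by decide)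
    | exact absurd (h 23 (by norm_num) (by decide)) (by decide)
    | exact absurd (h _ (by norm_num) dvd_rfl) (by decide)

namespace St
variable {z : G} {Q : Subgroup G} {V : Type*} [AddCommGroup V] [Module (ZMod 2) V] [Finite V] (σ : St z Q V)

/-- The elementary abelian group of order `2 ^ 7`. -/
def YY (F : Subgroup G) (e e' : S6) : Subgroup G :=
  𝒞(F) ⊓ ((closure {((1 : S3), e), (1, e')}).comap (MonoidHom.mk' (fun m : centralizer ({z} : Set G) => σ.ρ m)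
    fun a b => σ.ρ_mul a.2 b.2)).map (centralizer ({z} : Set G)).subtype

omit [Finite G] [Finite V] in
theorem mem_YY {F : Subgroup G} {e e' : S6} {y : G} : y ∈ σ.YY F e e' ↔
    y ∈ 𝒞(F) ∧ y ∈ centralizer ({z} : Set G) ∧ σ.ρ y ∈ closure {((1 : S3), e), (1, e')} :=
  and_congr_right fun _ => ⟨fun ⟨x, hx, h⟩ => h ▸ ⟨x.2, hx⟩, fun h => ⟨⟨y, h.1⟩, h.2, rfl⟩⟩

include σ in
theorem no_fused {g : G} (hg : g * z * g⁻¹ ∈ Q) (hne : g * z * g⁻¹ ≠ z) : False := by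
  have f := fus_of σ.xe σ.card hg hne
  have hPg : ∀ k : G, k * z * k⁻¹ = g * z * g⁻¹ → cj k Q = cj g Q := fun k hk => σ.xe.cj_eq_cj hk
  set a := g * z * g⁻¹
  set P := cj g Q
  let c := σ.cfg f
  obtain ⟨D, o⟩ := c.exists_out
  have ne1 : ∀ {k : S6}, k ≠ 1 → ((1 : S3), k) ≠ 1 := fun h h' => h (congrArg Prod.snd h')
  have he := σ.lin.evk D.se
  have he' := σ.lin.evk D.se'
  have hw' := σ.lin.evk D.sw'
  have ee : ((1 : S3), D.e) * (1, D.e) = 1 := c.sq _ o.eL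
  obtain ⟨r4, rF, rX⟩ := c.main_l ⟨o.eL, rfl⟩ (ne1 D.e_ne)
  set Fb := Fx (σ.lin.R (1, D.e)) with hFb
  have isoF : ∀ u ∈ Fb, ∀ v ∈ Fb, σ.B u v = 0 := fun u hu v hv => σ.lin.B_Rg_Fx he ee (rF ▸ hu) hv
  have XF : ∀ v ∈ Fb, σ.lin.R xx v ∈ Fb := fun v => Cfg.X_Fx he rfl
  have qF : ∀ v ∈ Fb, σ.q v = 0 := fun v hv => by
    have h1 := σ.q_add v (σ.lin.R xx v)
    rw [← rX v hv, isoF _ hv _ (XF v hv)] at h1
    have h2 : ∀ u, σ.q (σ.lin.R xx u) = σ.q u := σ.lin.R_q σ.lin.xΓ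
    rwa [h2, h2, zmod2_add_self, add_zero] at h1
  set F := σ.pre Fb
  have FQ : F ≤ Q := fun _ h => h.1
  have zF : z ∈ F := ⟨σ.xe.mem, by rw [σ.p_z]; exact zero_mem _⟩
  have aF : a ∈ F := ⟨f.aQ, mem_Fx.mpr (c.La _ o.eL)⟩
  have cardF : Nat.card F = 32 := by
    rw [σ.card_img FQ zF (W := Fb) fun v => ⟨fun hv => let ⟨x, hx, h⟩ := σ.p_surj v; ⟨x, ⟨hx, h ▸ hv⟩, h⟩,
      fun ⟨x, hx, h⟩ => h ▸ hx.2⟩, card_sub, r4]; rfl
  have Fc : ∀ u ∈ F, u ∈ 𝒞(F) := fun u hu v hv => (σ.B_zero hv.1 hu.1).mp (isoF _ hv.2 _ hu.2)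
  have Fs : ∀ u ∈ F, u * u = 1 := fun u hu => by rw [← pow_two]; exact (σ.q_zero hu.1).mp (qF _ hu.2)
  have CF : ∀ u ∈ Q, u ∈ 𝒞(F) → u ∈ F := fun u hu h => ⟨hu, σ.lin.mem_of_orth isoF r4 fun v hv => by
    obtain ⟨x, hx, rfl⟩ := σ.p_surj v
    exact (σ.B_zero hx hu).mpr (h x ⟨hx, hv⟩)⟩
  have nF : ∀ m ∈ centralizer ({z} : Set G), (∀ v ∈ Fb, σ.lin.R (σ.ρ m) v ∈ Fb) → m ∈ 𝒩(F) := fun m hm h =>
    mem_norm_of_cj_le (by
      rintro _ ⟨u, hu, rfl⟩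
      exact ⟨conj_mem (σ.xe.norm hm) hu.1, by
        have := h _ hu.2
        rwa [show σ.lin.R = σ.R from rfl, σ.R_ρ hm, σ.A_p hm hu.1] at this⟩)
  obtain ⟨x, hx, ρx, x3⟩ := σ.lift3 σ.lin.xΓ (by rw [pow_three', xx_cube])
  obtain ⟨w, hw, ρw, w3⟩ := σ.lift3 hw' (by rw [Prod.pow_mk, D.w'3, one_pow, Prod.mk_one_one])
  have xF : x ∈ 𝒩(F) := nF x hx (ρx ▸ XF)
  have wF : w ∈ 𝒩(F) := nF w hw (ρw ▸ o.fw')
  -- the four-group `V'`
  set V4 : Subgroup (S3 × S6) := closure {((1 : S3), D.e), (1, D.e')}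
  have mV : ∀ γ, γ ∈ V4 ↔ γ = 1 ∨ γ = (1, D.e) ∨ γ = (1, D.e') ∨ γ = (1, D.e * D.e') := fun γ =>
    mem_closure_pair_two ee (Prod.ext (mul_one _) D.sqe') (Prod.ext rfl D.ee')
  have c1 : ((1 : S3), D.w') * (1, D.e) * (1, D.w')⁻¹ = (1, D.e') := Prod.ext (by simp) D.w'e
  have c2 : ((1 : S3), D.w') * (1, D.e') * (1, D.w')⁻¹ = (1, D.e * D.e') := Prod.ext (by simp) D.w'e'
  have c3' : ((1 : S3), D.w') * (1, D.e * D.e') * (1, D.w')⁻¹ = (1, D.e) := Prod.ext (by simp) (by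
    calc D.w' * (D.e * D.e') * D.w'⁻¹ = (D.w' * D.e * D.w'⁻¹) * (D.w' * D.e' * D.w'⁻¹) := by group
      _ = D.e := by rw [D.w'e, D.w'e', D.ee', ← mul_assoc, D.sqe', one_mul])
  have e'e : D.e' ≠ D.e := fun h => D.e'B (h ▸ D.eB)
  have e'1 : D.e' ≠ 1 := fun h => D.e_ne (by simpa [h] using D.w'e)
  set Y := σ.YY F D.e D.e'
  have mY : ∀ y, y ∈ Y ↔ y ∈ 𝒞(F) ∧ y ∈ centralizer ({z} : Set G) ∧ σ.ρ y ∈ V4 := fun _ => σ.mem_YY
  have FY : F ≤ Y := fun u hu => (mY u).mpr ⟨Fc u hu, σ.xe.le hu.1, by rw [σ.ρ_Q hu.1]; exact one_mem _⟩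
  have nY : ∀ m ∈ centralizer ({z} : Set G), m ∈ 𝒩(F) → (∀ γ ∈ V4, σ.ρ m * γ * (σ.ρ m)⁻¹ ∈ V4) → m ∈ 𝒩(Y) :=
    fun m hm h1 h2 => mem_norm_of_cj_le (by
      rintro _ ⟨y, hy, rfl⟩
      obtain ⟨y1, y2, y3⟩ := (mY y).mp hy
      exact (mY _).mpr ⟨conj_mem (norm_le_norm_cent F h1) y1, mul_mem (mul_mem hm y2) (inv_mem hm),
        (σ.ρ_cj hm y2).symm ▸ h2 _ y3⟩)
  have QY : Q ≤ 𝒩(Y) := fun u hu => nY u (σ.xe.le hu) (σ.xe.le_norm_of_mem FQ zF hu) fun γ h => by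
    simpa [σ.ρ_Q hu] using h
  have xY : x ∈ 𝒩(Y) := nY x hx xF fun γ h => by
    rw [ρx, xx_comm (by rcases (mV γ).mp h with rfl | rfl | rfl | rfl <;> rfl), mul_inv_cancel_right]; exact h
  have wY : w ∈ 𝒩(Y) := nY w hw wF fun γ h => by
    rw [ρw]
    rcases (mV γ).mp h with rfl | rfl | rfl | rfl <;> simp only [c1, c2, c3', mV, mul_one, mul_inv_cancel, true_or,
      or_true]
  -- the element `f`
  obtain ⟨m, hmY, hmF, hfP⟩ : ∃ m ∈ 𝒩(Y), m * a * m⁻¹ ∈ F ∧ σ.p (m * a * m⁻¹) ∉ c.E := by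
    have h1 : σ.p (w * a * w⁻¹) = σ.lin.R (1, D.w') c.a := by rw [← σ.A_p hw f.aQ, ← σ.R_ρ hw, ρw]; rfl
    rcases o.ff with h | h
    · exact ⟨w, wY, conj_mem wF aF, h1 ▸ h⟩
    · refine ⟨x * w, mul_mem xY wY, conj_mem (mul_mem xF wF) aF, ?_⟩
      rw [show x * w * a * (x * w)⁻¹ = x * (w * a * w⁻¹) * x⁻¹ by group, ← σ.A_p hx (conj_mem wF aF).1, h1,
        ← σ.R_ρ hx, ρx]
      exact h
  set φ := m * a * m⁻¹ with hφ
  -- the element `n`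
  obtain ⟨q, hq, hqa⟩ := σ.xe.exists_conj_eq_mul f.aQ (σ.a_nc f)
  have h'' : XE (z * a) (cj q P) := hqa ▸ f.xe.conj q
  have hqz : q * z * q⁻¹ = z := by rw [σ.xe.comm hq, mul_inv_cancel_right]
  have zP' : z ∈ cj q P := hqz ▸ conj_mem_cj q f.zP
  have hza : z * a = a * z := (σ.xe.comm f.aQ).symm
  obtain ⟨n, hn, hnz⟩ := h''.exists_conj_eq_mul zP' (h''.not_mem_cent zP' (by rw [pow_two, σ.xe.mul_self])
    σ.xe.ne_one fun h => f.xe.ne_one (by simpa using h))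
  rw [hza, mul_assoc a, σ.xe.mul_self, mul_one] at hnz
  have hn2 : n * n = 1 ∨ n * n = z * a := h''.mem_Z.mp (pow_two n ▸ h''.sq n hn)
  have n2F : n * n ∈ F := by
    rcases hn2 with h | h <;> rw [h]
    exacts [one_mem _, mul_mem zF aF]
  have hna : n * a * n⁻¹ = z := by
    rw [← hnz]
    calc n * (n * z * n⁻¹) * n⁻¹ = (n * n) * z * (n * n)⁻¹ := by group
      _ = z := conj_eq_of_mem (Fc _ n2F) zF
  have nQ : cj n Q = P := hPg n hnz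
  have nP : cj n P = Q := by rw [← nQ, ← cj_mul, cj_eq (le_normalizer n2F.1)]
  have nE : ∀ u ∈ F, u ∈ P → ∀ k, k ∈ cj q P → k * u * k⁻¹ ∈ F := fun u hu hu' k hk => by
    have h1 : u ∈ cj q P := mem_cj.mpr (by
      have := (σ.xe.le_norm_of_mem (U := Q ⊓ P) inf_le_left ⟨σ.xe.mem, f.zP⟩ hq)
      exact (conj_mem' this ⟨hu.1, hu'⟩).2)
    rcases h''.mem_Z.mp (h''.comm_mem hk h1) with h | h
    · rwa [mul_inv_eq_one.mp h]
    · rw [mul_inv_eq_iff_eq_mul.mp h]; exact mul_mem (mul_mem zF aF) hu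
  set ε := n * φ * n⁻¹ with hε
  have εP : ε ∈ P := nQ ▸ conj_mem_cj n hmF.1
  have εM : ε ∈ centralizer ({z} : Set G) := mem_cent_singleton.mpr (by
    rw [← hna, hε]
    calc n * φ * n⁻¹ * (n * a * n⁻¹) = n * (φ * a) * n⁻¹ := by group
      _ = _ := by rw [Fc _ aF _ hmF]; group)
  have εQ : ε ∉ Q := fun h => hfP ⟨φ, ⟨hmF.1, by
    have := mem_cj.mp (nP ▸ h)
    rwa [hε, show n⁻¹ * (n * φ * n⁻¹) * n = φ by group] at this⟩, hmF.1, rfl⟩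
  have εE : ∀ u ∈ F, u ∈ P → u * ε = ε * u := fun u hu hu' => by
    have h1 := Fc _ hmF _ (nE u hu hu' n⁻¹ (inv_mem hn))
    calc u * ε = n * (n⁻¹ * u * n⁻¹⁻¹ * φ) * n⁻¹ := by rw [hε]; group
      _ = _ := by rw [h1, hε]; group
  have H2' : ∀ l ∈ P, l ∈ centralizer ({z} : Set G) → (∀ u ∈ F, u ∈ P → σ.A l (σ.p u) = σ.p u) →
      σ.ρ l = 1 ∨ σ.ρ l = (1, D.e) := fun l hl hl' h => or_iff_not_imp_left.mpr fun h1 =>
    (c.H2 o.eL ⟨l, hl, hl', rfl⟩ h1 (by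
      rintro _ ⟨u, hu, -, rfl⟩ h2
      rw [show σ.lin.R = σ.R from rfl, σ.R_ρ hl']
      exact h u ⟨hu.1, mem_Fx.mpr h2⟩ hu.2)).symm
  have ρε : σ.ρ ε = (1, D.e) := (H2' ε εP εM fun u hu hu' => by
    rw [σ.A_p εM hu.1, ← εE u hu hu', mul_inv_cancel_right]).resolve_left fun h => εQ ((σ.ρ_one_iff εM).mp h)
  have nε : n * ε * n⁻¹ = φ := by
    calc n * ε * n⁻¹ = (n * n) * φ * (n * n)⁻¹ := by rw [hε]; group
      _ = φ := conj_eq_of_mem (Fc _ n2F) hmF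
  have εφ : φ * ε = ε * φ := by
    have h1 : ⁅ε, φ⁆ ∈ zpowers z := (σ.p_zero (mul_mem (conj_mem (σ.xe.norm εM) hmF.1) (inv_mem hmF.1))).mp (by
      rw [← σ.p_comm εM hmF.1, ← σ.R_ρ εM, ρε]
      exact add_eq_zero2.mpr (mem_Fx.mp hmF.2))
    rcases σ.xe.mem_Z.mp h1 with h | h
    · exact (commutatorElement_eq_one_iff_mul_comm.mp h).symm
    · have h2 : n * ⁅ε, φ⁆ * n⁻¹ = ⁅ε, φ⁆⁻¹ := by
        rw [commutatorElement_inv]
        calc n * ⁅ε, φ⁆ * n⁻¹ = ⁅n * ε * n⁻¹, n * φ * n⁻¹⁆ := by simp only [commutatorElement_def]; group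
          _ = _ := by rw [nε]
      rw [h, hnz, σ.xe.inv_eq] at h2
      exact absurd h2 hne
  obtain ⟨e0, he0, he0'⟩ := c.ex0' o.eL (ne1 D.e_ne)
  have split : ∀ y : G, (∀ u ∈ F, u ∈ P → u * y = y * u) → φ * y = y * φ → y ∈ 𝒞(F) := fun y h1 h2 u hu => by
    have k1 : ∀ v ∈ Fb, σ.B e0 v = 0 → v ∈ c.E := fun v hv h => σ.lin.mem_of_orth c.iso c.rk_E fun t ht => by
      by_cases h3 : σ.lin.R (1, D.e) t = t
      · exact isoF _ (mem_Fx.mpr h3) _ hv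
      · have := isoF _ (mem_Fx.mpr (c.fix_add o.eL he0 ht he0' h3)) _ hv
        rwa [map_add, LinearMap.add_apply, h, zero_add] at this
    have k2 : ∀ u ∈ F, σ.p u ∈ c.E → u * y = y * u := fun u hu h =>
      h1 u hu (σ.mem_of_p_mem (X := Q ⊓ P) ⟨σ.xe.mem, f.zP⟩ hu.1 h).2
    by_cases h3 : σ.B e0 (σ.p u) = 0
    · exact k2 u hu (k1 _ hu.2 h3)
    · have h4 := k2 _ (mul_mem hu hmF) (k1 _ (mul_mem hu hmF).2 (by
        rw [σ.p_mul hu.1 hmF.1, map_add, zmod2_eq_one_of_ne_zero h3,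
          zmod2_eq_one_of_ne_zero fun h => hfP (k1 _ hmF.2 h)]; rfl))
      rw [mul_assoc u, h2, ← mul_assoc u, ← mul_assoc y] at h4
      exact mul_right_cancel h4
  have εY : ε ∈ Y := (mY _).mpr ⟨split ε εE εφ, εM, (mV _).mpr (.inr (.inl ρε))⟩
  have lift : ∀ γ ∈ V4, ∃ y ∈ Y, y * y = 1 ∧ σ.ρ y = γ := by
    have s1 : ε * ε = 1 := by
      calc ε * ε = n * (φ * φ) * n⁻¹ := by rw [hε]; group
        _ = 1 := by rw [Fs _ hmF]; simp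
    have st : ∀ y ∈ Y, y * y = 1 → w * y * w⁻¹ ∈ Y ∧ w * y * w⁻¹ * (w * y * w⁻¹) = 1 ∧
        σ.ρ (w * y * w⁻¹) = (1, D.w') * σ.ρ y * (1, D.w')⁻¹ := fun y hy h => ⟨conj_mem wY hy, by
      calc w * y * w⁻¹ * (w * y * w⁻¹) = w * (y * y) * w⁻¹ := by group
        _ = 1 := by rw [h]; simp, by rw [σ.ρ_cj hw ((mY y).mp hy).2.1, ρw]⟩
    obtain ⟨t1, t2, t3⟩ := st ε εY s1
    obtain ⟨t4, t5, t6⟩ := st _ t1 t2
    rw [ρε, c1] at t3
    rw [t3, c2] at t6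
    intro γ h
    rcases (mV γ).mp h with rfl | rfl | rfl | rfl
    exacts [⟨1, one_mem _, mul_one _, σ.ρ_Q (one_mem _)⟩, ⟨ε, εY, s1, ρε⟩, ⟨_, t1, t2, t3⟩, ⟨_, t4, t5, t6⟩]
  have YQ : ∀ y ∈ Y, y ∈ Q → y ∈ F := fun y hy h => CF y h ((mY y).mp hy).1
  have Ys : ∀ y ∈ Y, y * y = 1 := fun y hy => by
    obtain ⟨t, ht, h1, h2⟩ := lift _ ((mY y).mp hy).2.2
    have h3 := YQ _ (mul_mem (inv_mem ht) hy) (σ.mem_of_ρ_eq ((mY y).mp hy).2.1 ((mY t).mp ht).2.1 h2.symm)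
    calc y * y = t * ((t⁻¹ * y) * t) * (t⁻¹ * y) := by group
      _ = (t * t) * ((t⁻¹ * y) * (t⁻¹ * y)) := by rw [((mY t).mp ht).1 _ h3]; group
      _ = 1 := by rw [h1, Fs _ h3, mul_one]
  have Yc : ∀ y ∈ Y, ∀ t ∈ Y, y * t = t * y := fun y hy t ht => comm_of_sq (Ys y hy) (Ys t ht) (Ys _ (mul_mem hy ht))
  have cardY : Nat.card Y = 2 ^ 7 := by
    have h1 : Nat.card V4 = 4 := by
      rw [← SetLike.coe_sort_coe, show (V4 : Set (S3 × S6)) = {1, (1, D.e), (1, D.e'), (1, D.e * D.e')} from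
        Set.ext mV, Nat.card_coe_set_eq]
      refine Set.ncard_eq_four.mpr ⟨_, _, _, _, (ne1 D.e_ne).symm, (ne1 e'1).symm, fun h => ?_, fun h => ?_,
        fun h => ?_, fun h => ?_, rfl⟩
      · exact e'e (by rw [← mul_one D.e', show (1 : S6) = D.e * D.e' from congrArg Prod.snd h, D.ee', ← mul_assoc,
          D.sqe', one_mul])
      · exact e'e (congrArg Prod.snd h).symm
      · exact e'1 (by simpa using h)
      · exact D.e_ne (by simpa using h)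
    rw [σ.card_im (X := Y) (fun y hy => ((mY y).mp hy).2.1) (Y := V4) fun γ =>
      ⟨fun h => let ⟨y, h1, _, h2⟩ := lift γ h; ⟨y, h1, h2⟩, fun ⟨y, h1, h2⟩ => h2 ▸ ((mY y).mp h1).2.2⟩,
      show Y ⊓ Q = F from le_antisymm (fun y hy => YQ y hy.1 hy.2) (le_inf FY FQ), cardF, h1]
    rfl
  have nYn : n ∈ 𝒩(Y) := mem_norm_of_cj_le (by
    rintro _ ⟨y, hy, rfl⟩
    obtain ⟨y1, y2, y3⟩ := (mY y).mp hy
    change n * y * n⁻¹ ∈ Y
    have k1 : n * y * n⁻¹ ∈ 𝒞(F) := split _ (fun u hu hu' => by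
      have h1 := y1 _ (nE u hu hu' n⁻¹ (inv_mem hn))
      calc u * (n * y * n⁻¹) = n * (n⁻¹ * u * n⁻¹⁻¹ * y) * n⁻¹ := by group
        _ = _ := by rw [h1]; group) (by
      rw [← nε]
      calc n * ε * n⁻¹ * (n * y * n⁻¹) = n * (ε * y) * n⁻¹ := by group
        _ = _ := by rw [Yc _ εY _ hy]; group)
    have k2 : n * y * n⁻¹ ∈ centralizer ({z} : Set G) := cent_le_cent_singleton zF k1
    have k3 : n * y * n⁻¹ * y⁻¹ ∈ cj q P := by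
      have := mul_mem hn (conj_mem (h''.norm (cent_le_cent_singleton (mul_mem zF aF) y1)) (inv_mem hn))
      rwa [← mul_assoc, ← mul_assoc] at this
    have k4 := mul_mem k2 (inv_mem y2)
    have k5 := mul_mem (mul_mem (inv_mem (σ.xe.le hq)) k4) (σ.xe.le hq)
    have k6 : σ.ρ (q⁻¹ * (n * y * n⁻¹ * y⁻¹) * q) = σ.ρ (n * y * n⁻¹) * (σ.ρ y)⁻¹ := by
      rw [σ.ρ_mul (mul_mem (inv_mem (σ.xe.le hq)) k4) (σ.xe.le hq), σ.ρ_mul (inv_mem (σ.xe.le hq)) k4, σ.ρ_Q hq,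
        σ.ρ_Q (inv_mem hq), one_mul, mul_one, σ.ρ_mul k2 (inv_mem y2), σ.ρ_inv y2]
    have k7 := H2' _ (mem_cj.mp k3) k5 fun u hu _ => by
      rw [σ.A_mul (mul_mem (inv_mem (σ.xe.le hq)) k4) (σ.xe.le hq), σ.A_mul (inv_mem (σ.xe.le hq)) k4, σ.A_Q hq,
        σ.A_Q (inv_mem hq), one_mul, mul_one, σ.A_p k4 hu.1, conj_eq_of_mem (mul_mem k1 (inv_mem y1)) hu]
    rw [k6] at k7
    refine (mY _).mpr ⟨k1, k2, ?_⟩
    rcases k7 with h | h <;> rw [mul_inv_eq_iff_eq_mul.mp h]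
    · rwa [one_mul]
    · exact mul_mem ((mV _).mpr (.inr (.inl rfl))) y3)
  -- the orbit of `z`
  set Ω := orb 𝒩(Y) z
  have ΩY : ∀ y ∈ Ω, y ∈ Y := fun _ ⟨k, hk, h⟩ => h ▸ conj_mem hk (FY zF)
  have Ωc : ∀ k ∈ 𝒩(Y), ∀ y ∈ Ω, k * y * k⁻¹ ∈ Ω := fun k hk _ ⟨t, ht, h⟩ =>
    ⟨k * t, mul_mem hk ht, by rw [← h]; group⟩
  have Ω1 : (1 : G) ∉ Ω := fun ⟨k, _, h⟩ => σ.xe.ne_one (by simpa using h)
  have zΩ : z ∈ Ω := ⟨1, one_mem _, by simp⟩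
  have aΩ : a ∈ Ω := ⟨n, nYn, hnz⟩
  have εΩ : ε ∈ Ω := Ωc n nYn _ (Ωc m hmY _ aΩ)
  set S1 := (Ω ∩ F) \ {z}
  set S2 := Ω \ F
  have t1 : Ω.ncard = 1 + S1.ncard + S2.ncard := by
    rw [← Set.ncard_inter_add_ncard_diff_eq_ncard Ω F, ← Set.ncard_diff_singleton_add_one (s := Ω ∩ F) ⟨zΩ, zF⟩,
      add_comm 1]
  have cS1 : ∀ k ∈ 𝒩(Y), k ∈ 𝒩(F) → k ∈ centralizer ({z} : Set G) → ∀ y ∈ S1, k * y * k⁻¹ ∈ S1 :=
    fun k h1 h2 h3 y hy => ⟨⟨Ωc k h1 y hy.1.1, conj_mem h2 hy.1.2⟩, fun h => hy.2 (by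
      have h4 : k * y * k⁻¹ = k * z * k⁻¹ := by rw [mem_cent_singleton.mp h3, mul_inv_cancel_right]; exact h
      simpa using h4)⟩
  have cS2 : ∀ k ∈ 𝒩(Y), k ∈ 𝒩(F) → ∀ y ∈ S2, k * y * k⁻¹ ∈ S2 :=
    fun k h1 h2 y hy => ⟨Ωc k h1 y hy.1, fun h => hy.2 (by simpa [mul_assoc] using conj_mem' h2 h)⟩
  have QF := σ.xe.le_norm_of_mem FQ zF
  have nz : ∀ y ∈ S1, y ∉ zpowers z := fun y hy h =>
    (σ.xe.mem_Z.mp h).elim (fun h => Ω1 (h ▸ hy.1.1)) hy.2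
  have d1 : 2 ∣ S1.ncard := dvd_ncard Q 2 S1 (fun k hk => cS1 k (QY hk) (QF hk) (σ.xe.le hk)) fun y hy => by
    have h1 := XE.card_cent1 σ.xe hy.1.2.1 (σ.xe.cent_eq ▸ nz y hy)
    have h2 := (card_mul_index ((centralizer ({y} : Set G)).subgroupOf Q))
    rw [← inf_subgroupOf_left, Nat.card_congr (subgroupOfEquivOfLe inf_le_left).toEquiv, inf_subgroupOf_left,
      ← h1] at h2
    exact (Nat.eq_of_mul_eq_mul_left Nat.card_pos h2).symm ▸ dvd_rfl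
  have d2 : 3 ∣ S1.ncard := three_dvd x3 S1 (cS1 x xY xF hx) fun y hy h => nz y hy ((σ.p_zero hy.1.2.1).mp (by
    have h1 : σ.lin.R xx (σ.p y) = σ.p y := by
      rw [← ρx, show σ.lin.R = σ.R from rfl, σ.R_ρ hx, σ.A_p hx hy.1.2.1, h]
    have h2 := rX _ hy.1.2.2
    rwa [h1, h1, aa] at h2))
  have ρS2 : ∀ y ∈ S2, σ.ρ y = (1, D.e) ∨ σ.ρ y = (1, D.e') ∨ σ.ρ y = (1, D.e * D.e') := fun y hy =>
    ((mV _).mp ((mY y).mp (ΩY y hy.1)).2.2).resolve_left fun h =>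
      hy.2 (YQ y (ΩY y hy.1) ((σ.ρ_one_iff ((mY y).mp (ΩY y hy.1)).2.1).mp h))
  have d3 : 16 ∣ S2.ncard := dvd_ncard Q 16 S2 (fun k hk => cS2 k (QY hk) (QF hk)) fun y hy => by
    have y2 := ((mY y).mp (ΩY y hy.1)).2.1
    have h1 : Q ⊓ centralizer ({y} : Set G) = F := le_antisymm (fun u hu => ⟨hu.1, by
      have h2 : σ.p u ∈ Fx (σ.lin.R (σ.ρ y)) := mem_Fx.mpr (by
        rw [show σ.lin.R = σ.R from rfl, σ.R_ρ y2, σ.A_p y2 hu.1, ← mem_cent_singleton.mp hu.2, mul_inv_cancel_right])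
      rcases ρS2 y hy with h | h | h <;> rw [h] at h2
      exacts [h2, o.fe'.le h2, o.fee'.le h2]⟩)
      fun u hu => ⟨hu.1, mem_cent_singleton.mpr (((mY y).mp (ΩY y hy.1)).1 u hu)⟩
    have h2 := (card_mul_index ((centralizer ({y} : Set G)).subgroupOf Q))
    rw [← inf_subgroupOf_left, Nat.card_congr (subgroupOfEquivOfLe inf_le_left).toEquiv, inf_subgroupOf_left,
      h1, cardF, σ.card] at h2
    exact (show (centralizer ({y} : Set G)).relIndex Q = 16 by unfold relIndex; omega) ▸ dvd_rfl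
  have d4 : 3 ∣ S2.ncard := three_dvd w3 S2 (cS2 w wY wF) fun y hy h => by
    have h1 := σ.ρ_cj hw ((mY y).mp (ΩY y hy.1)).2.1
    rw [h, ρw] at h1
    rcases ρS2 y hy with h | h | h <;> rw [h] at h1
    · exact e'e (congrArg Prod.snd (h1.trans c1)).symm
    · exact D.e_ne (by simpa using h1.trans c2)
    · exact e'1 (by simpa using h1.trans c3')
  have sub1 : S1 ⊆ (F : Set G) \ {1, z} := fun y hy => ⟨hy.1.2, fun h => nz y hy (σ.xe.mem_Z.mpr h)⟩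
  have b0 : ((F : Set G) \ {1, z}).ncard = 30 := by
    rw [Set.ncard_diff (Set.pair_subset (one_mem F) zF), Set.ncard_pair σ.xe.ne_one.symm, ← Nat.card_coe_set_eq,
      SetLike.coe_sort_coe, cardF]
  have b1 := Set.ncard_le_ncard sub1
  have b2 : S2.ncard ≤ 96 := (Set.ncard_le_ncard (t := (Y : Set G) \ F) fun y hy => ⟨ΩY y hy.1, hy.2⟩).trans (by
    rw [Set.ncard_diff FY, ← Nat.card_coe_set_eq, ← Nat.card_coe_set_eq, SetLike.coe_sort_coe, SetLike.coe_sort_coe,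
      cardF, cardY]; norm_num)
  have b3 : 0 < S1.ncard := (Set.ncard_pos (Set.toFinite _)).mpr ⟨a, ⟨aΩ, aF⟩, hne⟩
  have b4 : 0 < S2.ncard := (Set.ncard_pos (Set.toFinite _)).mpr ⟨ε, εΩ, fun h => εQ h.1⟩
  have k5 := arith (n := Ω.ncard) (k := S1.ncard / 6) (j := S2.ncard / 48) (by omega) (by omega) (by omega)
    (by omega) (by omega) fun p hp h => bad_prime le_rfl cardY (FY zF) hp (ncard_orb _ z ▸ h)
  have eq1 := Set.eq_of_subset_of_ncard_le sub1 (by omega)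
  obtain ⟨v, hv, hv0, s, hs, hs'⟩ := c.exists_fix o
  obtain ⟨b, hb, rfl⟩ := σ.p_surj v
  have hb1 : b ∈ S1 := eq1 ▸ ⟨⟨hb, hv⟩, fun h => hv0 ((σ.p_zero hb).mpr (σ.xe.mem_Z.mpr h))⟩
  obtain ⟨⟨⟨k, -, rfl⟩, -⟩, hk⟩ := hb1
  exact c.not_fix (σ.cfg (fus_of σ.xe σ.card hb hk)) o hv hs hs'

end St

end CL.Even.W9
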