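/-
Large extraspecial subgroups of width 4 with quotient between `A₃ × A₆` and `S₃ × S₆`, part 8: `G` is not simple.
-/
import Cfsg.Agent.Even.W9g
import Cfsg.Agent.Even.XTr3

set_option autoImplicit false

namespace CL.Even.W9

open Equiv Module CL.Grp Cfsg Subgroup

variable {G : Type*} [Group G] [Finite G]

theorem not_simple {z : G} {N : Subgroup (centralizer ({z} : Set G))}
    (h : XE z (N.map (centralizer ({z} : Set G)).subtype)) (hc : Nat.card N = 2 ^ 9)
    (π : centralizer ({z} : Set G) →* S3 × S6) (hk : ∀ m, π m = 1 ↔ m ∈ N)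
    (hev : ∀ g k, Perm.sign g = 1 → Perm.sign k = 1 → ∃ m, π m = (g, k)) (hodd : ∃ m, Perm.sign (π m).1 ≠ 1) :
    ¬ IsSimpleGroup G := by
  classical
  intro hs
  have hc' := (card_map_of_injective (centralizer ({z} : Set G)).subtype_injective).trans hc
  obtain ⟨μ⟩ := exists_md h hc'
  let σ : St z (N.map (centralizer ({z} : Set G)).subtype) (Fin 8 → ZMod 2) :=
    { μ with
      ρ := fun m => if hm : m ∈ centralizer ({z} : Set G) then π ⟨m, hm⟩ else 1
      ρ_mul := fun hm hm' => by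
        simp only [dif_pos hm, dif_pos hm', dif_pos (mul_mem hm hm')]
        exact map_mul π ⟨_, hm⟩ ⟨_, hm'⟩
      ρ_one_iff := fun hm => by
        simp only [dif_pos hm]
        exact (hk _).trans ⟨fun h => ⟨_, h, rfl⟩, fun ⟨y, hy, e⟩ => (Subtype.ext e : y = ⟨_, hm⟩) ▸ hy⟩
      ev := fun g k hg hk => let ⟨m, hm⟩ := hev g k hg hk; ⟨m, m.2, (dif_pos m.2).trans hm⟩ }
  have hres : pResidual 2 G = ⊤ := by
    refine (hs.eq_bot_or_eq_top_of_normal _ inferInstance).resolve_left fun h0 => ?_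
    obtain ⟨x, -, ρx, x3⟩ := σ.lift3 σ.lin.xΓ (by rw [pow_three', xx_cube])
    have h1 : x ∈ pResidual 2 G := subset_closure
      (Nat.Coprime.coprime_dvd_left (orderOf_dvd_of_pow_eq_one x3) (by norm_num))
    rw [h0, mem_bot] at h1
    rw [h1, σ.ρ_Q (one_mem _)] at ρx
    exact c3_ne (congrArg Prod.fst ρx).symm
  obtain ⟨m, hm⟩ := hodd
  let χ := Perm.sign.comp ((MonoidHom.fst S3 S6).comp π)
  have mK : ∀ a : centralizer ({z} : Set G), (a : G) ∈ χ.ker.map (centralizer ({z} : Set G)).subtype ↔ χ a = 1 :=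
    fun a => ⟨fun ⟨y, hy, e⟩ => (Subtype.ext e : y = a) ▸ hy, fun h => ⟨a, h, rfl⟩⟩
  obtain ⟨g, hg, hne⟩ := h.exists_conj_mem hres (K := χ.ker.map (centralizer ({z} : Set G)).subtype)
    ⟨map_subtype_le _, fun a ha b hb => by
      have e1 := mK (⟨a, ha⟩ * ⟨b, hb⟩)
      rw [map_mul] at e1
      refine e1.trans (Iff.trans ?_ (iff_congr (mK ⟨a, ha⟩) (mK ⟨b, hb⟩)).symm)
      rcases Int.units_eq_one_or (χ ⟨a, ha⟩) with h | h <;> rcases Int.units_eq_one_or (χ ⟨b, hb⟩) with h' | h' <;>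
        simp [h, h']⟩ (n := 4) (by norm_num) hc' m.2 fun h => hm ((mK m).mp h)
  exact σ.no_fused hg hne

theorem not_simple' {z : G} {N : Subgroup (centralizer ({z} : Set G))} [N.Normal]
    (h : XE z (N.map (centralizer ({z} : Set G)).subtype)) (hc : Nat.card N = 2 ^ 9) {K : Type*} [Group K]
    (e : centralizer ({z} : Set G) ⧸ N ≃* K) (ι : K →* S3 × S6) (hι : Function.Injective ι)
    (hev : ∀ g k, Perm.sign g = 1 → Perm.sign k = 1 → ∃ m, ι m = (g, k)) (hodd : ∃ m, Perm.sign (ι m).1 ≠ 1) :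
    ¬ IsSimpleGroup G := by
  have hs : ∀ y : K, ∃ m, e (QuotientGroup.mk' N m) = y := fun y =>
    (e.surjective.comp (QuotientGroup.mk'_surjective N)) y
  refine not_simple h hc (ι.comp (e.toMonoidHom.comp (QuotientGroup.mk' N))) (fun m => ?_) (fun g k hg hk => ?_) ?_
  · simp [map_eq_one_iff ι hι]
  · obtain ⟨y, hy⟩ := hev g k hg hk
    obtain ⟨m, rfl⟩ := hs y
    exact ⟨m, hy⟩
  · obtain ⟨y, hy⟩ := hodd
    obtain ⟨m, rfl⟩ := hs y
    exact ⟨m, hy⟩

end CL.Even.W9
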